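import Cfsg.Agent.Lib.Spor.PermCert

/-!
Stabiliser chains of exact size: the base separates, and a point stabiliser is what the deeper
levels generate.
-/

set_option autoImplicit false

namespace Cfsg.Agent.Spor.CoAmal

open Cfsg.Agent.Spor.CC

section

variable {K : Type*} [Group K] {P : Table} (h : P.Valid) (g : ℕ → K)
  (φ : K →* Equiv.Perm (Fin P.n)) (hφ : ∀ x, x < P.ng → φ (g x) = P.perm h x)

include hφ in
/-- one level of an exact chain: the stabiliser has the order of the rest -/
theorem card_stab_le {O : Orb} {b : Fin P.n} (hb : (b : ℕ) = O.b) (hO : orbOK P.T P.ng O = true)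
    (hl : lettersOK P.ng O.ws = true) (hk : 0 < O.k) (S : Subgroup K) [Finite S]
    (hS : ∀ w ∈ O.ws, (w.map g).prod ∈ S) {N : ℕ} (hN : Nat.card S ≤ O.k * N) :
    Nat.card (S ⊓ (MulAction.stabilizer (Equiv.Perm (Fin P.n)) b).comap φ : Subgroup K) ≤ N := by
  have horb := orb_mem h g φ hφ hO hl S hS b hb
  letI : MulAction S (Fin P.n) := MulAction.compHom _ (φ.comp S.subtype)
  have hsmul : ∀ (s : S) (u : Fin P.n), s • u = φ (s : K) u := fun s u => rfl
  let f : Fin O.k → MulAction.orbit S b := fun j =>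
    ⟨φ (horb j j.2).choose b, ⟨⟨_, (horb j j.2).choose_spec.1⟩, hsmul _ _⟩⟩
  have hf : Function.Injective f := by
    intro i j e
    have e' := congrArg (fun q : MulAction.orbit S b => ((q : Fin P.n) : ℕ)) e
    simp only [f] at e'
    rw [(horb i i.2).choose_spec.2, (horb j j.2).choose_spec.2] at e'
    exact Fin.ext (orb_inj hO i.2 j.2 e')
  have hk' : O.k ≤ Nat.card (MulAction.orbit S b) := by
    simpa using Nat.card_le_card_of_injective f hf
  have hos : Nat.card (MulAction.orbit S b) * Nat.card (MulAction.stabilizer S b) = Nat.card S := by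
    rw [← Nat.card_congr (MulAction.orbitProdStabilizerEquivGroup S b), Nat.card_prod]
  have he : Nat.card (S ⊓ (MulAction.stabilizer (Equiv.Perm (Fin P.n)) b).comap φ : Subgroup K) =
      Nat.card (MulAction.stabilizer S b) :=
    Nat.card_congr
      { toFun := fun s => ⟨⟨(s : K), s.2.1⟩, s.2.2⟩
        invFun := fun s => ⟨((s : S) : K), (s : S).2, s.2⟩
        left_inv := fun _ => rfl
        right_inv := fun _ => rfl }
  rw [he]
  refine Nat.le_of_mul_le_mul_left (?_ : O.k * _ ≤ O.k * N) hk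
  exact le_trans (Nat.mul_le_mul_right _ hk') (hos ▸ hN)

include hφ in
/-- the base of an exact chain separates -/
theorem chain_sep : ∀ (L : List Orb) (bs : List ℕ), chainOK P.T P.ng P.n L bs = true →
    (∀ O ∈ L, 0 < O.k) → ∀ (S : Subgroup K) [Finite S],
    (∀ O ∈ L, ∀ w ∈ O.ws, (w.map g).prod ∈ S) → Nat.card S ≤ chainSize L →
    ∀ s ∈ S, (∀ O ∈ L, ∀ u : Fin P.n, (u : ℕ) = O.b → φ s u = u) → s = 1
  | [], _, _, _, S, _, _, hc, s, hs, _ => by
    have h1 : Nat.card S ≤ 1 := by simpa [chainSize] using hc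
    haveI : Subsingleton S := (Nat.card_eq_one_iff_unique.1 (le_antisymm h1 Nat.card_pos)).1
    exact congrArg Subtype.val (Subsingleton.elim (⟨s, hs⟩ : S) 1)
  | O :: rest, bs, hL, hk, S, hfin, hS, hc, s, hs, hb => by
    simp only [chainOK, Bool.and_eq_true] at hL
    obtain ⟨⟨⟨⟨hbn, hO⟩, hl⟩, -⟩, hrest⟩ := hL
    let b : Fin P.n := ⟨O.b, Nat.le_of_ble_eq_true hbn⟩
    set S' : Subgroup K := S ⊓ (MulAction.stabilizer (Equiv.Perm (Fin P.n)) b).comap φ with hS'
    haveI : Finite S' := Finite.of_injective (fun x : S' => (⟨(x : K), x.2.1⟩ : S))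
      (fun a c e => Subtype.ext (congrArg (fun q : S => (q : K)) e))
    have hcard : Nat.card S' ≤ chainSize rest :=
      card_stab_le h g φ hφ (rfl : (b : ℕ) = O.b) hO hl (hk O (by simp)) S (hS O (by simp))
        (by simpa [chainSize] using hc)
    refine chain_sep rest (O.b :: bs) hrest (fun O' hO' => hk O' (by simp [hO'])) S' ?_ hcard s ⟨hs, hb O (by simp) b rfl⟩
      (fun O' hO' => hb O' (by simp [hO']))
    intro O' hO' w hw
    refine ⟨hS O' (by simp [hO']) w hw, ?_⟩
    -- deeper words fix the base point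
    show φ (w.map g).prod b = b
    have hfix : ∀ (L : List Orb) (cs : List ℕ), chainOK P.T P.ng P.n L cs = true → O.b ∈ cs →
        ∀ Q ∈ L, ∀ w ∈ Q.ws, (∀ x ∈ w, x < P.ng) ∧ ev P.T P.ng w O.b = O.b := by
      intro L
      induction L with
      | nil => simp
      | cons Q L ih =>
        intro cs hcs hmem Q' hQ' w hw
        simp only [chainOK, Bool.and_eq_true] at hcs
        obtain ⟨⟨⟨⟨-, -⟩, hl⟩, hf⟩, hr⟩ := hcs
        rcases List.mem_cons.1 hQ' with rfl | hQ'
        · exact ⟨fun x hx => lettersOK_spec hl hw hx,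
            Nat.eq_of_beq_eq_true (List.all_eq_true.1 (List.all_eq_true.1 hf w hw) O.b hmem)⟩
        · exact ih _ hr (List.mem_cons_of_mem _ hmem) Q' hQ' w hw
    obtain ⟨hlw, he⟩ := hfix rest _ hrest (List.mem_cons_self ..) O' hO' w hw
    exact Fin.ext ((ev_eq h g φ hφ hlw b).trans he)

end

end Cfsg.Agent.Spor.CoAmal
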