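import Cfsg.Agent.Lib.Spor.CoAmal.Walk
import Cfsg.Agent.Lib.Spor.CoAmal.Chain
import Cfsg.Agent.Lib.Spor.SuzAmal.Pres

/-!
Eight involutions satisfying the relations generate a group of order at most that of the first
Conway group, given a checked certificate.
-/

set_option autoImplicit false
set_option maxRecDepth 100000
set_option linter.style.haveILetI false

namespace Cfsg.Agent.Spor.CoAmal

open Cfsg.Agent.Spor.CC

/-- relations of the seven generators of the centre-extended Suzuki group -/
def relK : List (List ℕ) :=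
  [powW 5 [0, 1], powW 3 [1, 2], powW 8 [2, 3], powW 3 [3, 4], powW 3 [1, 5], powW 4 [5, 6],
    powW 3 [6, 1],
    powW 2 [0, 2], powW 2 [0, 3], powW 2 [0, 4], powW 2 [0, 5], powW 2 [0, 6], powW 2 [1, 3],
    powW 2 [1, 4], powW 2 [2, 4], powW 2 [2, 5], powW 2 [2, 6], powW 2 [3, 5], powW 2 [3, 6],
    powW 2 [4, 5], powW 2 [4, 6],
    [0] ++ powW 4 [2, 3], [0] ++ powW 2 [5, 6], powW 5 [0, 1, 2, 5],
    powW 3 (powW 5 [1, 2, 3, 2, 3] ++ [4]), powW 3 xW] ++
  (List.range 7).map fun i => xW ++ [i] ++ xW.reverse ++ [i]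

/-- relations of eight involutions -/
structure Rels8 {M : Type*} [Group M] (m : ℕ → M) : Prop where
  sq : ∀ x, m x * m x = 1
  relK : ∀ r ∈ relK, wp m r = 1
  comm : ∀ x, x < 6 → Commute (m 7) (m x)
  relS : ∀ r ∈ relS, wp m r = 1

/-- a certificate -/
structure Cert where
  /-- the table -/
  P : Table
  valid : P.Valid
  hng : P.ng = 7
  loops : P.Loops CoAmal.relK
  /-- first level -/
  top : Orb
  /-- deeper levels -/
  rest : List Orb
  top_b : top.b = 0
  top_pos : 0 < P.n
  chain_ok : chainOK P.T P.ng P.n (top :: rest) [] = true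
  chain_size : chainSize (top :: rest) = 1345036492800
  chain_k : ∀ O ∈ top :: rest, 0 < O.k
  rest_six : lettersOK 6 (rest.flatMap fun O => O.ws) = true

section

variable {M : Type*} [Group M] {m : ℕ → M} (R : Rels8 m) (C : Cert)

/-- paired generators -/
noncomputable def pk (x : ℕ) : M × Equiv.Perm (Fin C.P.n) :=
  if x < 7 then (m x, C.P.perm C.valid x) else 1

/-- the diagonal group -/
noncomputable def dgrp : Subgroup (M × Equiv.Perm (Fin C.P.n)) := Subgroup.closure (Set.range (pk (m := m) C))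

/-- generators of the diagonal group -/
noncomputable def dgen (x : ℕ) : dgrp (m := m) C := ⟨pk (m := m) C x, Subgroup.subset_closure ⟨x, rfl⟩⟩

/-- first projection -/
noncomputable def toM : dgrp (m := m) C →* M := (MonoidHom.fst _ _).comp (dgrp (m := m) C).subtype

/-- second projection -/
noncomputable def toP : dgrp (m := m) C →* Equiv.Perm (Fin C.P.n) :=
  (MonoidHom.snd _ _).comp (dgrp (m := m) C).subtype

/-- the subgroup of the seven generators -/
def ksub (m : ℕ → M) : Subgroup M := Subgroup.closure (m '' {x | x < 7})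

theorem toP_gen (x : ℕ) (hx : x < C.P.ng) : toP C (dgen (m := m) C x) = C.P.perm C.valid x := by
  have hx' : x < 7 := C.hng ▸ hx
  simp [toP, dgen, pk, hx']

theorem toM_word {w : List ℕ} (hw : ∀ x ∈ w, x < 7) : toM C (wp (dgen (m := m) C) w) = wp m w := by
  rw [wp, map_list_prod, List.map_map]
  refine congrArg List.prod (List.map_congr_left fun x hx => ?_)
  simp [toM, dgen, pk, hw x hx]

theorem toP_word {w : List ℕ} (hw : ∀ x ∈ w, x < 7) :
    toP C (wp (dgen (m := m) C) w) = wp (C.P.perm C.valid) w := by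
  rw [wp, map_list_prod, List.map_map]
  refine congrArg List.prod (List.map_congr_left fun x hx => ?_)
  exact toP_gen C x (C.hng.symm ▸ hw x hx)

theorem relK_lt : ∀ r ∈ relK, ∀ x ∈ r, x < 7 := by decide +kernel

include R

theorem dgen_sq (x : ℕ) : dgen (m := m) C x * dgen C x = 1 := by
  apply Subtype.ext
  show pk C x * pk C x = 1
  by_cases hx : x < 7
  · simp [pk, hx, R.sq, C.P.perm_sq C.valid]
  · simp [pk, hx]

theorem dgen_rel {r : List ℕ} (hr : r ∈ relK) : wp (dgen (m := m) C) r = 1 := by
  apply Subtype.ext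
  apply Prod.ext
  · exact (toM_word C (relK_lt r hr)).trans (R.relK r hr)
  · exact (toP_word C (relK_lt r hr)).trans
      (C.P.loops_prod C.valid C.loops hr fun x hx => C.hng.symm ▸ relK_lt r hr x hx)

theorem card_dgrp : Finite (dgrp (m := m) C) ∧ Nat.card (dgrp (m := m) C) ≤ 1345036492800 := by
  classical
  set g := dgen (m := m) C with hg
  have rel := fun (r : List ℕ) (hr : r ∈ relK) => dgen_rel R C (r := r) hr
  have sq := dgen_sq R C
  set x : dgrp (m := m) C := wp g xW with hx
  have hx3 : x ^ 3 = 1 := by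
    have h : wp g (powW 3 xW) = 1 := rel _ (by simp [relK])
    rwa [wp, prod_powW] at h
  have hrev : ∀ w, wp g w.reverse = (wp g w)⁻¹ := by
    intro w
    induction w with
    | nil => simp [wp]
    | cons a l ih =>
      rw [List.reverse_cons, wp_append, ih]
      simp only [wp, List.map_cons, List.map_nil, List.prod_cons, List.prod_nil, mul_one, mul_inv_rev]
      rw [inv_eq_of_mul_eq_one_left (sq a)]
  have hclo : Subgroup.closure (Set.range g) = ⊤ := by
    rw [eq_top_iff]
    rintro ⟨q, hq⟩ -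
    induction hq using Subgroup.closure_induction with
    | mem q hq => obtain ⟨i, rfl⟩ := hq; exact Subgroup.subset_closure ⟨i, rfl⟩
    | one => exact one_mem _
    | mul a b _ _ ha hb => exact mul_mem ha hb
    | inv a _ ha => exact inv_mem ha
  have hcomm : ∀ i, Commute x (g i) := by
    intro i
    by_cases hi : i < 7
    · have h : wp g (xW ++ [i] ++ xW.reverse ++ [i]) = 1 :=
        rel _ (List.mem_append_right _ (List.mem_map.2 ⟨i, List.mem_range.2 hi, rfl⟩))
      simp only [wp_append, hrev, ← hx] at h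
      simp only [wp, List.map_cons, List.map_nil, List.prod_cons, List.prod_nil, mul_one] at h
      have h' := eq_inv_of_mul_eq_one_left h
      rw [inv_eq_of_mul_eq_one_left (sq i), mul_inv_eq_iff_eq_mul] at h'
      exact h'
    · have : g i = 1 := Subtype.ext (by simp [hg, dgen, pk, hi])
      rw [this]; exact Commute.one_right _
  have hcen : x ∈ Subgroup.center (dgrp (m := m) C) := by
    rw [Subgroup.mem_center_iff]
    intro q
    have hq : q ∈ Subgroup.closure (Set.range g) := hclo ▸ Subgroup.mem_top q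
    induction hq using Subgroup.closure_induction with
    | mem q hq => obtain ⟨i, rfl⟩ := hq; exact (hcomm i).eq.symm
    | one => simp
    | mul a b _ _ ha hb => rw [mul_assoc, hb, ← mul_assoc, ha, mul_assoc]
    | inv a _ ha => exact (Commute.inv_left (show Commute a x from ha)).eq
  set X := Subgroup.zpowers x with hX
  haveI : X.Normal := by
    refine ⟨fun a ha b => ?_⟩
    have hac : a ∈ Subgroup.center (dgrp (m := m) C) := (Subgroup.zpowers_le.2 hcen) ha
    rwa [show b * a * b⁻¹ = a by rw [Subgroup.mem_center_iff.1 hac b, mul_assoc, mul_inv_cancel, mul_one]]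
  set π := QuotientGroup.mk' X with hπ
  have hw : ∀ w, π (wp g w) = wp (fun i => π (g i)) w := fun w => by
    rw [wp, map_list_prod, List.map_map]; rfl
  have qrel : ∀ r ∈ relK, wp (fun i => π (g i)) r = 1 := fun r hr => by rw [← hw, rel r hr, map_one]
  have qsq : ∀ i, π (g i) * π (g i) = 1 := fun i => by rw [← map_mul, sq, map_one]
  have qpow : ∀ (k : ℕ) (w : List ℕ), powW k w ∈ relK → wp (fun i => π (g i)) w ^ k = 1 := fun k w hkw => by
    rw [← prod_powW]; exact qrel _ hkw
  have qcom : ∀ i j : ℕ, powW 2 [i, j] ∈ relK → Commute (π (g i)) (π (g j)) := fun i j hij => by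
    have h := qpow 2 _ hij
    simp only [wp, List.map_cons, List.map_nil, List.prod_cons, List.prod_nil, mul_one, pow_two] at h
    calc π (g i) * π (g j) = π (g i) * π (g j) * ((π (g i) * π (g i))) := by rw [qsq, mul_one]
      _ = π (g i) * π (g j) * (π (g i) * ((π (g j) * π (g j)) * π (g i))) := by simp only [qsq, one_mul]
      _ = (π (g i) * π (g j) * (π (g i) * π (g j))) * (π (g j) * π (g i)) := by simp only [mul_assoc]
      _ = π (g j) * π (g i) := by rw [h, one_mul]
  have R7 : SuzAmal.Rels (π (g 0)) (π (g 1)) (π (g 2)) (π (g 3)) (π (g 4)) (π (g 5)) (π (g 6)) := by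
    refine
      { aa := qsq 0, bb := qsq 1, cc := qsq 2, dd := qsq 3, ee := qsq 4, ff := qsq 5, gg := qsq 6
        ab := ?_, bc := ?_, cd := ?_, de := ?_, bf := ?_, fg := ?_, gb := ?_
        ac := qcom 0 2 (by simp [relK]), ad := qcom 0 3 (by simp [relK]), ae := qcom 0 4 (by simp [relK])
        af := qcom 0 5 (by simp [relK]), ag := qcom 0 6 (by simp [relK]), bd := qcom 1 3 (by simp [relK])
        be := qcom 1 4 (by simp [relK]), ce := qcom 2 4 (by simp [relK]), cf := qcom 2 5 (by simp [relK])
        cg := qcom 2 6 (by simp [relK]), df := qcom 3 5 (by simp [relK]), dg := qcom 3 6 (by simp [relK])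
        ef := qcom 4 5 (by simp [relK]), eg := qcom 4 6 (by simp [relK])
        x1 := ?_, x2 := ?_, x3 := ?_, x4 := ?_, x5 := ?_ }
    · simpa [wp] using qpow 5 [0, 1] (by simp [relK])
    · simpa [wp] using qpow 3 [1, 2] (by simp [relK])
    · simpa [wp] using qpow 8 [2, 3] (by simp [relK])
    · simpa [wp] using qpow 3 [3, 4] (by simp [relK])
    · simpa [wp] using qpow 3 [1, 5] (by simp [relK])
    · simpa [wp] using qpow 4 [5, 6] (by simp [relK])
    · simpa [wp] using qpow 3 [6, 1] (by simp [relK])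
    · have h := qrel ([0] ++ powW 4 [2, 3]) (by simp [relK])
      rw [wp_append, wp, wp, prod_powW] at h
      simp only [List.map_cons, List.map_nil, List.prod_cons, List.prod_nil, mul_one] at h
      exact (inv_eq_of_mul_eq_one_left (qsq 0)).symm.trans (inv_eq_of_mul_eq_one_right h)
    · have h := qrel ([0] ++ powW 2 [5, 6]) (by simp [relK])
      rw [wp_append, wp, wp, prod_powW] at h
      simp only [List.map_cons, List.map_nil, List.prod_cons, List.prod_nil, mul_one] at h
      exact (inv_eq_of_mul_eq_one_left (qsq 0)).symm.trans (inv_eq_of_mul_eq_one_right h)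
    · simpa [wp, mul_assoc] using qpow 5 [0, 1, 2, 5] (by simp [relK])
    · have h : π x = 1 := (QuotientGroup.eq_one_iff x).2 (Subgroup.mem_zpowers x)
      rw [hx, hw, xW, wp, prod_powW] at h
      simpa [mul_assoc] using h
    · have h := qpow 3 (powW 5 [1, 2, 3, 2, 3] ++ [4]) (by simp [relK])
      rw [wp_append, wp, wp, prod_powW] at h
      simpa [mul_assoc] using h
  haveI := SuzCert.order.1
  obtain ⟨φ, p0, p1, p2, p3, p4, p5, p6⟩ := SuzAmal.exists_hom R7
  have hsurj : Function.Surjective φ := by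
    rw [← MonoidHom.range_eq_top, eq_top_iff]
    intro q _
    obtain ⟨p, rfl⟩ := QuotientGroup.mk'_surjective X q
    have hp : p ∈ Subgroup.closure (Set.range g) := hclo ▸ Subgroup.mem_top p
    have hsub : Subgroup.closure (Set.range g) ≤ φ.range.comap π := by
      refine (Subgroup.closure_le _).2 ?_
      rintro _ ⟨i, rfl⟩
      show π (g i) ∈ φ.range
      rcases i with _ | _ | _ | _ | _ | _ | _ | i
      exacts [⟨_, p0⟩, ⟨_, p1⟩, ⟨_, p2⟩, ⟨_, p3⟩, ⟨_, p4⟩, ⟨_, p5⟩, ⟨_, p6⟩,
        by
          have : g (i + 7) = 1 := Subtype.ext (by simp [hg, dgen, pk])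
          rw [show i + 1 + 1 + 1 + 1 + 1 + 1 + 1 = i + 7 from rfl, this, map_one]
          exact one_mem _]
    exact hsub hp
  haveI : Finite (dgrp (m := m) C ⧸ X) := Finite.of_surjective _ hsurj
  have hQ : Nat.card (dgrp (m := m) C ⧸ X) ≤ 448345497600 :=
    SuzCert.order.2.1 ▸ Nat.card_le_card_of_surjective _ hsurj
  have hord : orderOf x ∣ 3 := orderOf_dvd_of_pow_eq_one hx3
  have hXc : Nat.card X ≤ 3 := by rw [Nat.card_zpowers]; exact Nat.le_of_dvd (by norm_num) hord
  have hXp : 0 < Nat.card X := by rw [Nat.card_zpowers]; exact Nat.pos_of_dvd_of_pos hord (by norm_num)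
  have hmul := Subgroup.card_eq_card_quotient_mul_card_subgroup X
  have hpos : 0 < Nat.card (dgrp (m := m) C) := hmul ▸ Nat.mul_pos Nat.card_pos hXp
  refine ⟨(Nat.card_pos_iff.1 hpos).2, hmul ▸ ?_⟩
  exact le_trans (Nat.mul_le_mul hQ hXc) (by norm_num)

theorem eq_one_of_fix (s : dgrp (m := m) C)
    (hs : ∀ O ∈ C.top :: C.rest, ∀ u : Fin C.P.n, (u : ℕ) = O.b → toP C s u = u) : s = 1 := by
  haveI := (card_dgrp R C).1
  haveI : Finite (⊤ : Subgroup (dgrp (m := m) C)) := Finite.of_injective _ Subtype.val_injective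
  refine chain_sep C.valid (dgen C) (toP C) (toP_gen C) _ [] C.chain_ok C.chain_k ⊤ ?_ ?_ s trivial hs
  · exact fun _ _ _ _ => trivial
  · rw [Nat.card_congr Subgroup.topEquiv.toEquiv, C.chain_size]
    exact (card_dgrp R C).2

theorem eq_of_same {w w' : List ℕ}
    (h : same C.P.T ((C.top :: C.rest).map Orb.b) w w' = true) :
    wp (dgen (m := m) C) w = wp (dgen C) w' ∧ wp m w = wp m w' := by
  simp only [same, Bool.and_eq_true, List.all_eq_true] at h
  obtain ⟨⟨h1, h2⟩, h3⟩ := h
  have l1 : ∀ x ∈ w, x < 7 := fun x hx => Nat.le_of_ble_eq_true (h1 x hx)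
  have l2 : ∀ x ∈ w', x < 7 := fun x hx => Nat.le_of_ble_eq_true (h2 x hx)
  have e : (wp (dgen (m := m) C) w)⁻¹ * wp (dgen C) w' = 1 := by
    refine eq_one_of_fix R C _ fun O hO u hu => ?_
    rw [map_mul, map_inv, Equiv.Perm.mul_apply, Equiv.Perm.inv_eq_iff_eq, toP_word C l1, toP_word C l2]
    apply Fin.ext
    rw [C.P.perm_prod C.valid w' (fun x hx => C.hng.symm ▸ l2 x hx),
      C.P.perm_prod C.valid w (fun x hx => C.hng.symm ▸ l1 x hx), hu, C.hng]
    exact (Nat.eq_of_beq_eq_true (h3 _ (List.mem_map.2 ⟨O, hO, rfl⟩))).symm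
  have e' := inv_mul_eq_one.1 e
  refine ⟨e', ?_⟩
  rw [← toM_word C l1, ← toM_word C l2, e']

theorem stab_zero (s : dgrp (m := m) C) (hs : toP C s ⟨0, C.top_pos⟩ = ⟨0, C.top_pos⟩) :
    Commute (m 7) (toM C s) := by
  haveI := (card_dgrp R C).1
  haveI : Finite (⊤ : Subgroup (dgrp (m := m) C)) := Finite.of_injective _ Subtype.val_injective
  have hL := C.chain_ok
  simp only [chainOK, Bool.and_eq_true] at hL
  obtain ⟨⟨⟨⟨-, hO⟩, hl⟩, -⟩, hrest⟩ := hL
  set b : Fin C.P.n := ⟨0, C.top_pos⟩
  set T0 : Subgroup (dgrp (m := m) C) :=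
    ⊤ ⊓ (MulAction.stabilizer (Equiv.Perm (Fin C.P.n)) b).comap (toP C) with hT0
  have hT : Nat.card T0 ≤ chainSize C.rest := by
    refine card_stab_le C.valid (dgen C) (toP C) (toP_gen C) (b := b) C.top_b.symm hO hl
      (C.chain_k _ (List.mem_cons_self ..)) ⊤ (fun _ _ => trivial) ?_
    rw [Nat.card_congr Subgroup.topEquiv.toEquiv]
    have := (card_dgrp R C).2
    rwa [← C.chain_size, chainSize, List.map_cons, List.prod_cons] at this
  set D6 : Subgroup (dgrp (m := m) C) :=
    Subgroup.closure ((dgen C) '' {x | x < 6}) ⊓ T0 with hD6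
  haveI : Finite T0 := Finite.of_injective _ Subtype.val_injective
  haveI : Finite D6 := Finite.of_injective _ Subtype.val_injective
  have hge : chainSize C.rest ≤ Nat.card D6 := by
    refine chain_le C.valid (dgen C) (toP C) (toP_gen C) C.rest [C.top.b] hrest D6 ?_
    intro t ht hw
    obtain ⟨O, hO', w, hw', rfl⟩ := hw
    refine ⟨Subgroup.list_prod_mem _ fun y hy => ?_, trivial, ?_⟩
    · obtain ⟨x, hx, rfl⟩ := List.mem_map.1 hy
      refine Subgroup.subset_closure ⟨x, ?_, rfl⟩
      exact lettersOK_spec C.rest_six (List.mem_flatMap.2 ⟨O, hO', hw'⟩) hx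
    · exact ht _ (List.mem_cons_self ..) b C.top_b.symm
  have heq : D6 = T0 := Subgroup.eq_of_le_of_card_ge inf_le_right (le_trans hT hge)
  have hsD : s ∈ Subgroup.closure ((dgen (m := m) C) '' {x | x < 6}) :=
    (heq.symm ▸ (⟨trivial, hs⟩ : s ∈ T0) : s ∈ D6).1
  clear hs
  induction hsD using Subgroup.closure_induction with
  | mem q hq =>
    obtain ⟨i, hi, rfl⟩ := hq
    have : toM C (dgen (m := m) C i) = m i := by
      simp [toM, dgen, pk, show i < 7 by simp at hi; omega]
    rw [this]; exact R.comm i hi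
  | one => rw [map_one]; exact Commute.one_right _
  | mul a c _ _ ha hc => rw [map_mul]; exact ha.mul_right hc
  | inv a _ ha => rw [map_inv]; exact ha.inv_right

omit R in
theorem toM_range : (toM (m := m) C).range = ksub m := by
  apply le_antisymm
  · rintro _ ⟨⟨q, hq⟩, rfl⟩
    induction hq using Subgroup.closure_induction with
    | mem q hq =>
      obtain ⟨i, rfl⟩ := hq
      show (pk C i).1 ∈ ksub m
      by_cases hi : i < 7
      · simp only [pk, if_pos hi]; exact Subgroup.subset_closure ⟨i, hi, rfl⟩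
      · simp [pk, hi]
    | one => exact one_mem _
    | mul a c _ _ ha hc => exact mul_mem ha hc
    | inv a _ ha => exact inv_mem ha
  · refine (Subgroup.closure_le _).2 ?_
    rintro _ ⟨i, hi, rfl⟩
    exact ⟨dgen C i, by simp [toM, dgen, pk, show i < 7 from hi]⟩

end

end Cfsg.Agent.Spor.CoAmal
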