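import Cfsg.Agent.Lib.Spor.CoAmal.Bound

/-!
The bound on the group generated by eight involutions, from a certificate.
-/

set_option autoImplicit false
set_option maxRecDepth 100000
set_option linter.style.haveILetI false
set_option linter.unusedSectionVars false

namespace Cfsg.Agent.Spor.CoAmal

open Cfsg.Agent.Spor.CC

/-- the trivial derivation -/
def noDer : Der := ⟨noFct, 0, 0, 0, [], [], (0, 0, false)⟩

/-- the equations fixing the base node -/
def axFcts : List Fct := (List.range 7).map fun k => ⟨false, 0, 0, 0, Nat.add 1 (Nat.mul 256 k)⟩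

/-- the defining equations -/
def dfFcts (ds : List Dfn) : List Fct :=
  (List.range ds.length).map fun i =>
    ⟨true, (ds.getD i ⟨0, 0, 0⟩).j, Nat.add i 1, (ds.getD i ⟨0, 0, 0⟩).w1, (ds.getD i ⟨0, 0, 0⟩).w2⟩

/-- check the identifications of further nodes -/
noncomputable def redirOK (F : List Fct) : List ℕ → List ℕ → Bool
  | [], _ => true
  | k :: rest, J =>
    Nat.blt k F.length && !(F.getD k noFct).sig && Nat.beq (wLen (F.getD k noFct).w1) 0 &&
      (wDecode (F.getD k noFct).w2).all (fun x => Nat.blt x 7) &&
      J.any (Nat.beq (F.getD k noFct).l) && redirOK F rest ((F.getD k noFct).j :: J)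

/-- nodes identified by the equations, newest first -/
def nodeSet (F : List Fct) : List ℕ → List ℕ → List ℕ
  | [], J => J
  | k :: rest, J => nodeSet F rest ((F.getD k noFct).j :: J)

/-- data for the closure -/
structure Closing (C : Cert) where
  /-- definitions -/
  defs : List Dfn
  /-- derivations -/
  ders : List Der
  /-- live nodes -/
  nodes : List Nd
  defs_ok : ((List.range defs.length).all fun i => Nat.ble (defs.getD i ⟨0, 0, 0⟩).j i) = true
  /-- the equations -/
  F : List Fct
  F_eq : F = axFcts ++ dfFcts defs ++ ders.map Der.f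
  ders_ok : ∀ i, i < ders.length → derOK C.P.T ((C.top :: C.rest).map Orb.b) F
    (7 + defs.length + i) (ders.getD i noDer) = true
  /-- equations identifying further nodes -/
  redir : List ℕ
  redir_ok : redirOK F redir (nodes.map Nd.j) = true
  base_mem : (nodes.map Nd.j).any (Nat.beq 0) = true
  forest_ok : ∀ N ∈ nodes, ∀ i, i < C.P.n → ndOK1 C.P.T F (nodeSet F redir (nodes.map Nd.j)) N i = true
  cover_ok : ∀ N ∈ nodes, coverOK N C.P.n = true
  fixS_ok : ∀ N ∈ nodes, fixS F N = true
  slp_ok : ∀ N ∈ nodes, slpOK C.P.T ((C.top :: C.rest).map Orb.b) N.slp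
    (N.S.map fun k => wDecode (F.getD k noFct).w2) = true
  chain_in : ∀ N ∈ nodes, chainIn F N = true
  chain_ok : ∀ N ∈ nodes, chainOK C.P.T C.P.ng C.P.n N.chain [] = true
  idx_ok : ∀ N ∈ nodes, chainSize N.chain * N.idx = 1345036492800
  idx_sum : (nodes.map Nd.idx).sum = 3091200

section

variable {M : Type*} [Group M] {m : ℕ → M}

/-- the values of the nodes, definitions listed backwards -/
noncomputable def nodeVal (m : ℕ → M) : List Dfn → ℕ → M ⧸ ksub m
  | [], _ => ((1 : M) : M ⧸ ksub m)
  | d :: rest, n =>
    if n = rest.length + 1 then (wp m (wDecode d.w2))⁻¹ • m 7 • wp m (wDecode d.w1) • nodeVal m rest d.j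
    else nodeVal m rest n

theorem nodeVal_le (d : Dfn) (rest : List Dfn) {n : ℕ} (h : n ≤ rest.length) :
    nodeVal m (d :: rest) n = nodeVal m rest n := by
  rw [nodeVal, if_neg (by omega)]

theorem nodeVal_zero : ∀ r : List Dfn, nodeVal m r 0 = ((1 : M) : M ⧸ ksub m)
  | [] => rfl
  | d :: rest => by rw [nodeVal_le d rest (Nat.zero_le _), nodeVal_zero rest]

theorem nodeVal_spec : ∀ r : List Dfn,
    (∀ k, k < r.length → (r.reverse.getD k ⟨0, 0, 0⟩).j ≤ k) →
    ∀ k, k < r.length → wp m (wDecode (r.reverse.getD k ⟨0, 0, 0⟩).w2) • nodeVal m r (k + 1) =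
      m 7 • wp m (wDecode (r.reverse.getD k ⟨0, 0, 0⟩).w1) • nodeVal m r (r.reverse.getD k ⟨0, 0, 0⟩).j
  | [], _, k, hk => by simp at hk
  | d :: rest, h, k, hk => by
    by_cases e : k = rest.length
    · subst e
      have hd : ((d :: rest).reverse.getD rest.length ⟨0, 0, 0⟩) = d := by
        rw [List.reverse_cons, List.getD_append_right _ _ _ _ (by simp)]
        simp
      have hj := h _ hk
      rw [hd] at hj ⊢
      rw [nodeVal, if_pos rfl, smul_inv_smul, nodeVal_le d rest hj]
    · have hk' : k < rest.length := by simp at hk; omega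
      have hd : ((d :: rest).reverse.getD k ⟨0, 0, 0⟩) = rest.reverse.getD k ⟨0, 0, 0⟩ := by
        rw [List.reverse_cons, List.getD_append _ _ _ _ (by simpa using hk')]
      have h' : ∀ q, q < rest.length → (rest.reverse.getD q ⟨0, 0, 0⟩).j ≤ q := fun q hq => by
        have := h q (by simp; omega)
        rwa [List.reverse_cons, List.getD_append _ _ _ _ (by simpa using hq)] at this
      rw [hd, nodeVal_le d rest (by omega), nodeVal_le d rest (le_trans (h' k hk') (by omega))]
      exact nodeVal_spec rest h' k hk'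

theorem getD_map_range {α : Type*} (f : ℕ → α) {n i : ℕ} (h : i < n) (d : α) :
    ((List.range n).map f).getD i d = f i := by
  rw [List.getD_eq_getElem _ _ (by simpa using h)]
  simp

variable (R : Rels8 m) {C : Cert} (D : Closing C)

include R

theorem holds : ∀ i, i < D.F.length → (D.F.getD i noFct).Holds m (nodeVal m D.defs.reverse) := by
  have S : Sound m C.P.T ((C.top :: C.rest).map Orb.b) :=
    ⟨R.sq, fun w w' h => (eq_of_same R C h).2, R.comm, R.relS⟩
  have hl : (axFcts ++ dfFcts D.defs).length = 7 + D.defs.length := by simp [axFcts, dfFcts]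
  refine S.all_holds (off := 7 + D.defs.length) (Ds := D.ders) ?_ ?_ ?_ D.ders_ok
  · rw [D.F_eq, List.length_append, hl, List.length_map]
  · intro i hi
    rw [D.F_eq, List.getD_append _ _ _ _ (by rw [hl]; exact hi)]
    by_cases h7 : i < 7
    · rw [List.getD_append _ _ _ _ (by simpa [axFcts] using h7), axFcts, getD_map_range _ h7]
      have hw : wDecode (Nat.add 1 (Nat.mul 256 i)) = [i] := by
        rcases i with _ | _ | _ | _ | _ | _ | _ | i
        all_goals first | rfl | omega
      show wp m (midW false) • wp m (wDecode 0) • nodeVal m D.defs.reverse 0 = _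
      rw [hw, nodeVal_zero]
      simp only [midW, cond_false, wp, show wDecode 0 = [] from rfl, List.map_nil, List.prod_nil,
        List.map_cons, List.prod_cons, mul_one, one_smul]
      rw [MulAction.Quotient.smul_mk, smul_eq_mul, mul_one, eq_comm,
        QuotientGroup.eq, mul_one]
      exact inv_mem (Subgroup.subset_closure ⟨i, h7, rfl⟩)
    · obtain ⟨k, rfl⟩ := Nat.exists_eq_add_of_le (Nat.le_of_not_lt h7)
      have hk : k < D.defs.length := by omega
      rw [List.getD_append_right _ _ _ _ (by simp [axFcts]), show (7 + k - axFcts.length) = k by simp [axFcts],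
        dfFcts, getD_map_range _ hk]
      have hd := nodeVal_spec (m := m) D.defs.reverse (fun q hq => by
        rw [List.reverse_reverse]
        exact Nat.le_of_ble_eq_true (List.all_eq_true.1 D.defs_ok q (List.mem_range.2 (by simpa using hq))))
        k (by simpa using hk)
      rw [List.reverse_reverse] at hd
      show wp m (midW true) • _ = _
      simpa [midW, wp] using hd.symm
  · intro i hi
    rw [D.F_eq, List.getD_append_right _ _ _ _ (by rw [hl]; omega), hl, Nat.add_sub_cancel_left,
      List.getD_eq_getElem _ _ (by simpa using hi), List.getElem_map, List.getD_eq_getElem _ _ hi]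

/-- the orbit of a node under the seven generators -/
def korb (C : Cert) (m : ℕ → M) (p : M ⧸ ksub m) : Set (M ⧸ ksub m) :=
  Set.range fun k : dgrp (m := m) C => toM C k • p

/-- the union of the orbits -/
def allPts (D : Closing C) (m : ℕ → M) : Set (M ⧸ ksub m) :=
  {q | ∃ N ∈ D.nodes, q ∈ korb C m (nodeVal m D.defs.reverse N.j)}

theorem pts_closed (u : dgrp (m := m) C) {q : M ⧸ ksub m} (hq : q ∈ allPts D m) :
    toM C u • q ∈ allPts D m := by
  obtain ⟨N, hN, k, rfl⟩ := hq
  refine ⟨N, hN, u * k, ?_⟩
  show toM C (u * k) • _ = _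
  rw [map_mul, mul_smul]

theorem nodeSet_mem : ∀ (L J : List ℕ), redirOK D.F L J = true →
    (∀ j ∈ J, nodeVal m D.defs.reverse j ∈ allPts D m) →
    ∀ j ∈ nodeSet D.F L J, nodeVal m D.defs.reverse j ∈ allPts D m
  | [], _, _, hJ, j, hj => hJ j hj
  | k :: rest, J, h, hJ, j, hj => by
    simp only [redirOK, Bool.and_eq_true, Bool.not_eq_true'] at h
    obtain ⟨⟨⟨⟨⟨hlt, hns⟩, hw1⟩, hw2⟩, hl⟩, hrest⟩ := h
    refine nodeSet_mem rest _ hrest (fun i hi => ?_) j hj
    rcases List.mem_cons.1 hi with rfl | hi
    · have hh := holds R D _ (Nat.le_of_ble_eq_true hlt)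
      rw [Fct.Holds, hns, show wDecode (D.F.getD k noFct).w1 = [] by
        rw [wDecode, Nat.eq_of_beq_eq_true hw1]; rfl] at hh
      simp only [midW, cond_false, wp, List.map_nil, List.prod_nil, one_smul] at hh
      obtain ⟨l, hlJ, he⟩ := List.any_eq_true.1 hl
      rw [hh, show (List.map m (wDecode (D.F.getD k noFct).w2)).prod = _ from
        (toM_word C fun y hy => Nat.le_of_ble_eq_true (List.all_eq_true.1 hw2 y hy)).symm]
      exact pts_closed R D _ (Nat.eq_of_beq_eq_true he ▸ hJ l hlJ)
    · exact hJ i hi

theorem seven_closed {q : M ⧸ ksub m} (hq : q ∈ allPts D m) : m 7 • q ∈ allPts D m := by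
  obtain ⟨N, hN, k, rfl⟩ := hq
  have H := holds R D
  have hcov := D.cover_ok N hN
  set v := nodeVal m D.defs.reverse with hv
  -- covering of each point of the forest
  have key : ∀ i, i < C.P.n → ∀ k : dgrp (m := m) C, ∀ p : Fin C.P.n,
      (p : ℕ) = fld N.pts 16 i → toP C k p = ⟨0, C.top_pos⟩ → m 7 • toM C k • v N.j ∈ allPts D m := by
    intro i
    induction i using Nat.strong_induction_on with
    | _ i ih =>
      intro hi k p hp hk
      have hc := D.forest_ok N hN i hi
      cases ht : Nat.beq (Nat.shiftRight (fld N.tree 24 i) 16) 0 with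
      | true =>
        simp only [ndOK1, ht, cond_true, Bool.and_eq_true] at hc
        obtain ⟨⟨⟨⟨⟨⟨⟨-, hf⟩, hsig⟩, hj⟩, hl⟩, hw1⟩, hw2⟩, he⟩ := hc
        generalize hF : N.E.getD (Nat.land (fld N.tree 24 i) 65535) 0 = e at *
        have hh := H e (Nat.le_of_ble_eq_true hf)
        generalize D.F.getD e noFct = f at *
        rw [Fct.Holds, hsig, Nat.eq_of_beq_eq_true hj] at hh
        have l1 : ∀ x ∈ wDecode f.w1, x < 7 := fun x hx => Nat.le_of_ble_eq_true (List.all_eq_true.1 hw1 x hx)
        have l2 : ∀ x ∈ wDecode f.w2, x < 7 := fun x hx => Nat.le_of_ble_eq_true (List.all_eq_true.1 hw2 x hx)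
        have hp0 : toP C (wp (dgen (m := m) C) (wDecode f.w1)) p = ⟨0, C.top_pos⟩ := by
          rw [toP_word C l1]
          apply Fin.ext
          rw [C.P.perm_prod C.valid _ (fun x hx => C.hng.symm ▸ l1 x hx), hp, C.hng]
          exact Nat.eq_of_beq_eq_true he
        set u := k * (wp (dgen (m := m) C) (wDecode f.w1))⁻¹ with hu
        have hu0 : toP C u ⟨0, C.top_pos⟩ = ⟨0, C.top_pos⟩ := by
          rw [hu, map_mul, Equiv.Perm.mul_apply, map_inv]
          conv_lhs => rw [← hp0]
          simp only [Equiv.Perm.coe_inv, Equiv.symm_apply_apply]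
          exact hk
        have hcu := stab_zero R C u hu0
        have hkk : toM C k = toM C u * wp m (wDecode f.w1) := by
          rw [← toM_word C l1, ← map_mul, hu, inv_mul_cancel_right]
        obtain ⟨j', hj', hjl⟩ := List.any_eq_true.1 hl
        have hmem : v f.l ∈ allPts D m := by
          rw [Nat.eq_of_beq_eq_true hjl]
          refine nodeSet_mem R D _ _ D.redir_ok (fun j hj => ?_) j' hj'
          obtain ⟨N', hN', rfl⟩ := List.mem_map.1 hj
          exact ⟨N', hN', 1, by show toM C 1 • _ = _; rw [map_one, one_smul]⟩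
        have := pts_closed R D (u * wp (dgen (m := m) C) (wDecode f.w2)) hmem
        rw [map_mul, toM_word C l2, mul_smul, ← hh] at this
        simp only [midW, cond_true, wp, List.map_cons, List.map_nil, List.prod_cons, List.prod_nil, mul_one] at this
        rw [smul_smul, ← hcu.eq, mul_smul] at this
        rw [hkk, mul_smul]
        exact this
      | false =>
        simp only [ndOK1, ht, cond_false, Bool.and_eq_true] at hc
        obtain ⟨⟨hpar, hsx⟩, he⟩ := hc
        have hpar' : Nat.land (fld N.tree 24 i) 65535 < i := Nat.le_of_ble_eq_true hpar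
        generalize hS : Nat.sub (Nat.shiftRight (fld N.tree 24 i) 16) 1 = x at *
        have hmem : N.S.getD x 0 ∈ N.S := by
          rw [List.getD_eq_getElem _ _ (Nat.le_of_ble_eq_true hsx)]; exact List.getElem_mem _
        have hfs := List.all_eq_true.1 (D.fixS_ok N hN) _ hmem
        simp only [Bool.and_eq_true, Bool.not_eq_true'] at hfs
        obtain ⟨⟨⟨⟨⟨hlt, hns⟩, hj⟩, hl⟩, hw1⟩, hw2⟩ := hfs
        have hh := H _ (Nat.le_of_ble_eq_true hlt)
        generalize D.F.getD (N.S.getD x 0) noFct = f at *
        rw [Fct.Holds, hns, Nat.eq_of_beq_eq_true hj, Nat.eq_of_beq_eq_true hl,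
          show wDecode f.w1 = [] by simp [wDecode, Nat.eq_of_beq_eq_true hw1]] at hh
        simp only [midW, cond_false, wp, List.map_nil, List.prod_nil, one_smul] at hh
        have l2 : ∀ y ∈ wDecode f.w2, y < 7 := fun y hy => Nat.le_of_ble_eq_true (List.all_eq_true.1 hw2 y hy)
        -- the parent
        have hvc : C.P.n ≥ i := hi.le
        obtain ⟨q, hq⟩ : ∃ q : Fin C.P.n,
            (toP C (wp (dgen (m := m) C) (wDecode f.w2))) q = p := ⟨_, (toP C (wp (dgen (m := m) C) (wDecode f.w2))).apply_symm_apply p⟩
        have hq' : (q : ℕ) = fld N.pts 16 (Nat.land (fld N.tree 24 i) 65535) := by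
          have hcv : fld N.pts 16 (Nat.land (fld N.tree 24 i) 65535) < C.P.n := by
            have hroot : ∀ r, r < C.P.n → fld N.pts 16 r < C.P.n := by
              intro r hr
              by_contra hbad
              have hsurj : ∀ t : Fin C.P.n, ∃ r : Fin C.P.n, fld N.pts 16 r = t := by
                intro t
                have := List.all_eq_true.1 hcov (t : ℕ) (List.mem_range.2 t.2)
                simp only [Bool.and_eq_true, Nat.add_eq, Nat.zero_add] at this
                exact ⟨⟨_, Nat.le_of_ble_eq_true this.1⟩, Nat.eq_of_beq_eq_true this.2⟩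
              choose g hg using hsurj
              have hinj : Function.Injective g := fun a b e => Fin.ext (by rw [← hg a, e, hg b])
              obtain ⟨t, ht'⟩ := (Finite.injective_iff_surjective.1 hinj) ⟨r, hr⟩
              have := hg t
              rw [ht'] at this
              exact hbad (this ▸ t.2)
            exact hroot _ (lt_trans hpar' hi)
          have e1 : (toP C (wp (dgen (m := m) C) (wDecode f.w2))) ⟨_, hcv⟩ = p := by
            rw [toP_word C l2]
            apply Fin.ext
            rw [C.P.perm_prod C.valid _ (fun y hy => C.hng.symm ▸ l2 y hy), hp, C.hng]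
            exact Nat.eq_of_beq_eq_true he
          exact congrArg Fin.val ((Equiv.injective _) (hq.trans e1.symm))
        have := ih _ hpar' (lt_trans hpar' hi) (k * wp (dgen (m := m) C) (wDecode f.w2)) q hq'
          (by rw [map_mul, Equiv.Perm.mul_apply, hq, hk])
        rw [map_mul, toM_word C l2, mul_smul] at this
        rw [show wp m (wDecode f.w2) • v N.j = v N.j from hh.symm] at this
        exact this
  set p : Fin C.P.n := (toP C k)⁻¹ ⟨0, C.top_pos⟩ with hp
  have := List.all_eq_true.1 hcov (p : ℕ) (List.mem_range.2 p.2)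
  simp only [Bool.and_eq_true, Nat.add_eq, Nat.zero_add] at this
  exact key _ (Nat.le_of_ble_eq_true this.1) k p (Nat.eq_of_beq_eq_true this.2).symm
    ((toP C k).apply_symm_apply _)

theorem slp_mem (p : M ⧸ ksub m) : ∀ (L : List Slp) (acc : List (List ℕ)),
    slpOK C.P.T ((C.top :: C.rest).map Orb.b) L acc = true →
    (∀ w ∈ acc, wp (dgen (m := m) C) w ∈ (MulAction.stabilizer M p).comap (toM C)) →
    ∀ w ∈ acc ++ L.map (fun q => wDecode q.w), wp (dgen (m := m) C) w ∈ (MulAction.stabilizer M p).comap (toM C)
  | [], acc, _, hacc, w, hw => by simpa using hacc w (by simpa using hw)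
  | q :: rest, acc, h, hacc, w, hw => by
    simp only [slpOK, Bool.and_eq_true] at h
    have hget : ∀ c, wp (dgen (m := m) C) (slpGet acc c) ∈ (MulAction.stabilizer M p).comap (toM C) := by
      intro c
      have h0 : wp (dgen (m := m) C) (acc.getD (Nat.shiftRight c 1) []) ∈ (MulAction.stabilizer M p).comap (toM C) := by
        by_cases hl : Nat.shiftRight c 1 < acc.length
        · rw [List.getD_eq_getElem _ _ hl]; exact hacc _ (List.getElem_mem hl)
        · rw [List.getD_eq_default _ _ (by omega)]
          simp [wp]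
      unfold slpGet
      cases Nat.beq (Nat.land c 1) 0 with
      | true => exact h0
      | false =>
        show wp _ (List.reverse _) ∈ _
        have hrev : ∀ w, wp (dgen (m := m) C) w.reverse = (wp (dgen (m := m) C) w)⁻¹ := by
          intro w
          induction w with
          | nil => simp [wp]
          | cons a l ih =>
            rw [List.reverse_cons, wp_append, ih]
            simp only [wp, List.map_cons, List.map_nil, List.prod_cons, List.prod_nil, mul_one, mul_inv_rev]
            rw [inv_eq_of_mul_eq_one_left (dgen_sq R C a)]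
        rw [hrev]
        exact inv_mem h0
    have hnew : wp (dgen (m := m) C) (wDecode q.w) ∈ (MulAction.stabilizer M p).comap (toM C) := by
      rw [(eq_of_same R C h.1).1, wp_append]
      exact mul_mem (hget _) (hget _)
    exact slp_mem p rest (acc ++ [wDecode q.w]) h.2
      (fun x hx => by rcases List.mem_append.1 hx with h | h
                      · exact hacc x h
                      · rw [List.mem_singleton.1 h]; exact hnew)
      w (by simpa using hw)

theorem korb_card {N : Nd} (hN : N ∈ D.nodes) :
    (korb C m (nodeVal m D.defs.reverse N.j)).Finite ∧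
      (korb C m (nodeVal m D.defs.reverse N.j)).ncard ≤ N.idx := by
  haveI := (card_dgrp R C).1
  set p := nodeVal m D.defs.reverse N.j
  set T0 := (MulAction.stabilizer M p).comap (toM (m := m) C) with hT0
  have hS : ∀ w ∈ N.S.map (fun k => wDecode (D.F.getD k noFct).w2), wp (dgen (m := m) C) w ∈ T0 := by
    intro w hw
    obtain ⟨k, hk, rfl⟩ := List.mem_map.1 hw
    have hfs := List.all_eq_true.1 (D.fixS_ok N hN) _ hk
    simp only [Bool.and_eq_true, Bool.not_eq_true'] at hfs
    obtain ⟨⟨⟨⟨⟨hlt, hns⟩, hj⟩, hl⟩, hw1⟩, hw2⟩ := hfs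
    have hh := holds R D _ (Nat.le_of_ble_eq_true hlt)
    rw [Fct.Holds, hns, Nat.eq_of_beq_eq_true hj, Nat.eq_of_beq_eq_true hl,
      show wDecode (D.F.getD k noFct).w1 = [] by rw [wDecode, Nat.eq_of_beq_eq_true hw1]; rfl] at hh
    simp only [midW, cond_false, wp, List.map_nil, List.prod_nil, one_smul] at hh
    show toM C _ • p = p
    rw [toM_word C fun y hy => Nat.le_of_ble_eq_true (List.all_eq_true.1 hw2 y hy)]
    exact hh.symm
  have hin := slp_mem R p N.slp _ (D.slp_ok N hN) hS
  haveI : Finite T0 := Finite.of_injective _ Subtype.val_injective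
  have hc : chainSize N.chain ≤ Nat.card T0 := by
    refine chain_le C.valid (dgen C) (toP C) (toP_gen C) N.chain [] (D.chain_ok N hN) T0 ?_
    intro s _ hs
    obtain ⟨O, hO, w, hw, rfl⟩ := hs
    obtain ⟨w', hw', e⟩ := List.any_eq_true.1
      (List.all_eq_true.1 (List.all_eq_true.1 (D.chain_in N hN) O hO) w hw)
    rw [← LawfulBEq.eq_of_beq e]
    exact hin w' hw'
  letI : MulAction (dgrp (m := m) C) (M ⧸ ksub m) := MulAction.compHom _ (toM C)
  have horb : korb C m p = MulAction.orbit (dgrp (m := m) C) p := rfl
  refine ⟨Set.finite_range _, ?_⟩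
  rw [horb, ← Nat.card_coe_set_eq]
  have hos := Nat.card_congr (MulAction.orbitProdStabilizerEquivGroup (dgrp (m := m) C) p)
  rw [Nat.card_prod] at hos
  have hst : MulAction.stabilizer (dgrp (m := m) C) p = T0 := rfl
  rw [hst] at hos
  have hi := D.idx_ok N hN
  have hpos : 0 < chainSize N.chain := by
    rcases Nat.eq_zero_or_pos (chainSize N.chain) with e | e
    · rw [e, Nat.zero_mul] at hi; norm_num at hi
    · exact e
  refine Nat.le_of_mul_le_mul_right (?_ : _ * chainSize N.chain ≤ _ * chainSize N.chain) hpos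
  calc Nat.card (MulAction.orbit (dgrp (m := m) C) p) * chainSize N.chain
      ≤ Nat.card (MulAction.orbit (dgrp (m := m) C) p) * Nat.card T0 := Nat.mul_le_mul_left _ hc
    _ ≤ 1345036492800 := hos ▸ (card_dgrp R C).2
    _ = N.idx * chainSize N.chain := by rw [← hi, Nat.mul_comm]

theorem allPts_card : (allPts D m).Finite ∧ (allPts D m).ncard ≤ 3091200 := by
  rw [← D.idx_sum]
  have key : ∀ L : List Nd, (∀ N ∈ L, N ∈ D.nodes) →
      ({q | ∃ N ∈ L, q ∈ korb C m (nodeVal m D.defs.reverse N.j)}).Finite ∧
      ({q | ∃ N ∈ L, q ∈ korb C m (nodeVal m D.defs.reverse N.j)}).ncard ≤ (L.map Nd.idx).sum := by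
    intro L
    induction L with
    | nil => intro _; simp
    | cons N L ih =>
      intro h
      obtain ⟨hf, hc⟩ := ih fun x hx => h x (List.mem_cons_of_mem _ hx)
      obtain ⟨hf1, hc1⟩ := korb_card R D (h N (List.mem_cons_self ..))
      have e : {q | ∃ N' ∈ N :: L, q ∈ korb C m (nodeVal m D.defs.reverse N'.j)} =
          korb C m (nodeVal m D.defs.reverse N.j) ∪ {q | ∃ N' ∈ L, q ∈ korb C m (nodeVal m D.defs.reverse N'.j)} := by
        ext q; simp
      rw [e]
      refine ⟨hf1.union hf, le_trans (Set.ncard_union_le _ _) ?_⟩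
      rw [List.map_cons, List.sum_cons]
      exact Nat.add_le_add hc1 hc
  exact key D.nodes fun _ h => h

/-- the bound -/
theorem card_closure (D : Closing C) :
    Finite (Subgroup.closure (m '' {x | x < 8})) ∧
      Nat.card (Subgroup.closure (m '' {x | x < 8})) ≤ 4157776806543360000 := by
  classical
  set U := Subgroup.closure (m '' {x | x < 8}) with hU
  haveI := (card_dgrp R C).1
  set p0 : M ⧸ ksub m := ((1 : M) : M ⧸ ksub m)
  have hbase : p0 ∈ allPts D m := by
    obtain ⟨j, hj, he⟩ := List.any_eq_true.1 D.base_mem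
    obtain ⟨N, hN, rfl⟩ := List.mem_map.1 hj
    refine ⟨N, hN, 1, ?_⟩
    show toM C 1 • nodeVal m D.defs.reverse N.j = p0
    rw [map_one, one_smul, ← Nat.eq_of_beq_eq_true he, nodeVal_zero]
  obtain ⟨hAf, hAc⟩ := allPts_card R D
  have hgen : ∀ x, x < 8 → ∀ q ∈ allPts D m, m x • q ∈ allPts D m := by
    intro x hx q hq
    by_cases h7 : x < 7
    · obtain ⟨N, hN, k, rfl⟩ := hq
      refine ⟨N, hN, dgen C x * k, ?_⟩
      show toM C (dgen C x * k) • _ = _
      rw [map_mul, mul_smul]
      simp [toM, dgen, pk, h7]
    · rw [show x = 7 by omega]; exact seven_closed R D hq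
  have hclosed : ∀ g ∈ U, ∀ q ∈ allPts D m, g • q ∈ allPts D m := by
    intro g hg
    induction hg using Subgroup.closure_induction'' with
    | mem g hg => obtain ⟨x, hx, rfl⟩ := hg; exact hgen x hx
    | inv_mem g hg =>
      obtain ⟨x, hx, rfl⟩ := hg
      rw [inv_eq_of_mul_eq_one_left (R.sq x)]; exact hgen x hx
    | one => intro q hq; rwa [one_smul]
    | mul a b _ _ ha hb => intro q hq; rw [mul_smul]; exact ha _ (hb q hq)
  have hsub : MulAction.orbit U p0 ⊆ allPts D m := by
    rintro _ ⟨g, rfl⟩
    exact hclosed g g.2 p0 hbase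
  haveI : Finite (MulAction.orbit U p0) := (hAf.subset hsub).to_subtype
  have horb : Nat.card (MulAction.orbit U p0) ≤ 3091200 := by
    rw [Nat.card_coe_set_eq]
    exact le_trans (Set.ncard_le_ncard hsub hAf) hAc
  let f : MulAction.stabilizer U p0 → ksub m := fun g => ⟨((g : U) : M), by
    have h : ((g : U) : M) • p0 = p0 := g.2
    rw [MulAction.Quotient.smul_mk, smul_eq_mul, mul_one] at h
    have h' := QuotientGroup.eq.1 h.symm
    simpa using h'⟩
  have hf : Function.Injective f := fun a b e =>
    Subtype.ext (Subtype.ext (congrArg (fun z : ksub m => (z : M)) e))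
  haveI : Finite (ksub m) := by
    rw [← toM_range (m := m) C]
    exact Finite.of_surjective _ (toM C).rangeRestrict_surjective
  haveI : Finite (MulAction.stabilizer U p0) := Finite.of_injective f hf
  have hK : Nat.card (ksub m) ≤ 1345036492800 := by
    rw [← toM_range (m := m) C]
    exact le_trans (Nat.card_le_card_of_surjective _ (toM C).rangeRestrict_surjective) (card_dgrp R C).2
  have hfin : Finite U := Finite.of_equiv _ (MulAction.orbitProdStabilizerEquivGroup U p0)
  refine ⟨hfin, ?_⟩
  rw [← Nat.card_congr (MulAction.orbitProdStabilizerEquivGroup U p0), Nat.card_prod]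
  exact le_trans (Nat.mul_le_mul horb (le_trans (Nat.card_le_card_of_injective f hf) hK)) (by norm_num)

end

end Cfsg.Agent.Spor.CoAmal
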