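import Cfsg.Agent.Lib.Spor.CoAmal.Trans
import Cfsg.Agent.Lib.Spor.GolayWords
import Cfsg.Agent.Lib.Spor.GolayModules
import Cfsg.Agent.Lib.Spor.GolayDodecad

/-!
The three classes of involutions of the first Conway group, told apart by lifts: the square of a lift and
the trace. Monomial elements in list form.
-/

set_option autoImplicit false
set_option maxRecDepth 100000
set_option linter.style.haveILetI false

namespace Cfsg.Agent.Spor.CoAmal

open Cfsg Cfsg.Agent.Spor Cfsg.Agent.Spor.Co1Invol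
open Cfsg.Agent.Solv.CITGroups (orderOf_two_iff)
open scoped Pointwise

local notation "Zv" => GolayPt → ℤ
set_option quotPrecheck false in
local notation "Lv" => ↥leechLattice

/-- the class of a lattice automorphism modulo negation -/
noncomputable abbrev toCo1 (g : ↥Co0) : Cfsg.Spor.Co1 := QuotientGroup.mk g

theorem toCo1_mul (g h : ↥Co0) : toCo1 (g * h) = toCo1 g * toCo1 h := rfl

theorem toCo1_nEl (g : ↥Co0) : toCo1 (nEl * g) = toCo1 g := by
  rw [toCo1, toCo1, QuotientGroup.eq, mul_inv_rev, mul_assoc]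
  have := inv_mem nEl_center
  rwa [← Subgroup.mem_center_iff.1 this g, inv_mul_cancel_left]

theorem toCo1_eq {g h : ↥Co0} (e : toCo1 g = toCo1 h) : h = g ∨ h = nEl * g := by
  rw [toCo1, toCo1, QuotientGroup.eq] at e
  rcases center_two e with r | r
  · exact Or.inl (inv_mul_eq_one.1 r).symm
  · right
    rw [← Subgroup.mem_center_iff.1 nEl_center g, ← r, mul_inv_cancel_left]

theorem nEl_nEl : nEl * nEl = 1 := congrArg Subtype.val nC_sq

theorem nEl_sq_mul (g : ↥Co0) : nEl * g * (nEl * g) = g * g := by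
  rw [mul_assoc, ← mul_assoc g nEl, Subgroup.mem_center_iff.1 nEl_center g, ← mul_assoc, ← mul_assoc, nEl_nEl, one_mul]

/-! ### the trace -/

/-- the trace, times eight -/
noncomputable def tr (g : ↥Co0) : ℤ := ∑ i, act g (e8 i : Zv) i

theorem tr_expand (g h : ↥Co0) : 8 * tr (g * h) = ∑ i, ∑ j, act h (e8 i : Zv) j * act g (e8 j : Zv) i := by
  rw [tr, Finset.mul_sum]
  refine Finset.sum_congr rfl fun i _ => ?_
  rw [act_mul _ _ (e8 i).2, act_coe h (e8 i), act_coe g, eight_expand]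
  exact Finset.sum_congr rfl fun j _ => by rw [act_coe g (e8 j)]

theorem tr_comm (g h : ↥Co0) : tr (g * h) = tr (h * g) := by
  have : 8 * tr (g * h) = 8 * tr (h * g) := by
    rw [tr_expand, tr_expand, Finset.sum_comm]
    exact Finset.sum_congr rfl fun i _ => Finset.sum_congr rfl fun j _ => mul_comm _ _
  omega

theorem tr_conj (c g : ↥Co0) : tr (c * g * c⁻¹) = tr g := by
  rw [tr_comm, ← mul_assoc, inv_mul_cancel, one_mul]

theorem tr_nEl (g : ↥Co0) : tr (nEl * g) = -tr g := by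
  rw [tr, tr, ← Finset.sum_neg_distrib]
  refine Finset.sum_congr rfl fun i _ => ?_
  rw [act_mul _ _ (e8 i).2, nEl_act (act_mem _ (e8 i).2)]
  rfl

theorem tr_toCo1 {g h : ↥Co0} (e : toCo1 g = toCo1 h) : tr h = 0 ↔ tr g = 0 := by
  rcases toCo1_eq e with rfl | rfl
  · rfl
  · rw [tr_nEl, neg_eq_zero]

theorem sq_toCo1 {g h : ↥Co0} (e : toCo1 g = toCo1 h) : h * h = g * g := by
  rcases toCo1_eq e with rfl | rfl
  · rfl
  · exact nEl_sq_mul g

theorem conj_lift {g h : ↥Co0} (e : IsConj (toCo1 g) (toCo1 h)) :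
    ∃ c, toCo1 (c * g * c⁻¹) = toCo1 h := by
  obtain ⟨x, hx⟩ := isConj_iff.1 e
  obtain ⟨c, rfl⟩ := QuotientGroup.mk_surjective x
  exact ⟨c, hx⟩

theorem tr_isConj {g h : ↥Co0} (e : IsConj (toCo1 g) (toCo1 h)) : tr h = 0 ↔ tr g = 0 := by
  obtain ⟨c, hc⟩ := conj_lift e
  rw [tr_toCo1 hc, tr_conj]

theorem sq_isConj {g h : ↥Co0} (e : IsConj (toCo1 g) (toCo1 h)) : h * h = 1 ↔ g * g = 1 := by
  obtain ⟨c, hc⟩ := conj_lift e
  rw [sq_toCo1 hc, conj_mul, conj_eq_one_iff]

/-! ### monomial elements in list form -/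

/-- a monomial element: a list of images and the mask of the signs -/
abbrev MEl : Type := List ℕ × ℕ

/-- well-formed -/
def mOK (m : MEl) : Bool := m24ok m.1 && inCode m.2 && Nat.blt m.2 16777216

/-- product -/
def mMul (m n : MEl) : MEl := (lmul m.1 n.1, Nat.xor m.2 (pm m.1 n.2 0))

/-- equality modulo negation -/
def mEq (m n : MEl) : Bool :=
  (List.range 24).all (fun i => Nat.beq (m.1.getD i 0) (n.1.getD i 0)) &&
    (Nat.beq (Nat.xor m.2 n.2) 0 || Nat.beq (Nat.xor m.2 n.2) 16777215)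

/-- an element represented by a monomial element -/
def Rep1 (x : Cfsg.Spor.Co1) (m : MEl) : Prop :=
  lok m.1 = true ∧ m.2 < 2 ^ 24 ∧ ∃ g, IsMono g (lperm m.1) (ofMaskW m.2) ∧ toCo1 g = x

theorem pm_lt {l : List ℕ} (hl : lok l = true) {m : ℕ} (hm : m < 2 ^ 24) : pm l m 0 < 2 ^ 24 := by
  have := mask_lt (lperm l • ofMask m)
  rwa [mask_smul_lperm hl, mask_ofMask hm] at this

theorem actW_mask {l : List ℕ} (hl : lok l = true) {m : ℕ} (hm : m < 2 ^ 24) :
    actW (lperm l) (ofMaskW m) = ofMaskW (pm l m 0) := by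
  refine support₂_injective ?_
  rw [support₂_actW, support₂_ofMaskW, support₂_ofMaskW]
  refine mask_injective ?_
  rw [mask_smul_lperm hl, mask_ofMask hm, mask_ofMask (pm_lt hl hm)]

theorem ofMaskW_add (a b : ℕ) : ofMaskW a + ofMaskW b = ofMaskW (Nat.xor a b) := by
  funext p
  show ofMaskW a p + ofMaskW b p = _
  simp only [ofMaskW, show Nat.xor a b = a ^^^ b from rfl, Nat.testBit_xor]
  cases Nat.testBit a (idx p) <;> cases Nat.testBit b (idx p) <;> simp [CharTwo.add_self_eq_zero]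

theorem lok_lmul {p q : List ℕ} (hp : lok p = true) (hq : lok q = true) :
    lok (lmul p q) = true ∧ lperm (lmul p q) = lperm p * lperm q := by
  have h1 := (rep_lperm hp).mul (rep_lperm hq)
  have hlen : (lmul p q).length = 24 := by simp [lmul]
  have hl : lok (lmul p q) = true := by
    simp only [lok, Bool.and_eq_true, beq_iff_eq, List.all_eq_true, decide_eq_true_eq, List.elem_iff]
    refine ⟨⟨hlen, fun a ha => ?_⟩, fun i hi => ?_⟩
    · obtain ⟨k, hk, rfl⟩ := List.getElem_of_mem ha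
      rw [← List.getD_eq_getElem _ 0, show k = idx (pt k) from (idx_pt k (by omega)).symm, h1 (pt k)]
      exact idx_lt _
    · rw [List.mem_range] at hi
      have hs := h1 ((lperm p * lperm q)⁻¹ (pt i))
      rw [show (lperm p * lperm q) ((lperm p * lperm q)⁻¹ (pt i)) = pt i from Equiv.apply_symm_apply _ _, idx_pt i hi] at hs
      rw [← hs, List.getD_eq_getElem _ _ (by rw [hlen]; exact idx_lt _)]
      exact List.getElem_mem _
  refine ⟨hl, Equiv.ext fun x => idx_injective ?_⟩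
  rw [← (rep_lperm hl) x, h1 x]

theorem Rep1.mul {x y : Cfsg.Spor.Co1} {m n : MEl} (hx : Rep1 x m) (hy : Rep1 y n) : Rep1 (x * y) (mMul m n) := by
  obtain ⟨hm, hm2, g, hg, rfl⟩ := hx
  obtain ⟨hn, hn2, k, hk, rfl⟩ := hy
  obtain ⟨hl, he⟩ := lok_lmul hm hn
  refine ⟨hl, Nat.xor_lt_two_pow hm2 (pm_lt hm hn2), g * k, fun v => ?_, rfl⟩
  rw [mono_mul hg hk, actW_mask hm hn2, ofMaskW_add, show lperm (mMul m n).1 = _ from he]
  rfl

theorem lperm_congr {p q : List ℕ} (hp : lok p = true) (hq : lok q = true)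
    (h : ((List.range 24).all fun i => Nat.beq (p.getD i 0) (q.getD i 0)) = true) : lperm p = lperm q :=
  Equiv.ext fun x => idx_injective (by
    rw [← (rep_lperm hp) x, ← (rep_lperm hq) x]
    exact Nat.eq_of_beq_eq_true (List.all_eq_true.1 h _ (List.mem_range.2 (idx_lt x))))

theorem Rep1.eq {x y : Cfsg.Spor.Co1} {m n : MEl} (hx : Rep1 x m) (hy : Rep1 y n) (h : mEq m n = true) : x = y := by
  obtain ⟨hm, -, g, hg, rfl⟩ := hx
  obtain ⟨hn, -, k, hk, rfl⟩ := hy
  simp only [mEq, Bool.and_eq_true, Bool.or_eq_true] at h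
  have hσ := lperm_congr hm hn h.1
  rcases h.2 with e | e <;> replace e := Nat.eq_of_beq_eq_true e
  · have : g = k := co0_ext fun v => by
      rw [hg v, hk v, hσ]
      congr 1
      rw [← sub_eq_zero, ← ZModModule.neg_eq_self (ofMaskW n.2), sub_neg_eq_add, ofMaskW_add, e]
      funext p; simp [ofMaskW]
    rw [this]
  · rw [← toCo1_nEl k]
    congr 1
    refine co0_ext fun v => ?_
    rw [← act_coe, ← act_coe, act_mul _ _ v.2, nEl_act (act_mem _ v.2), act_coe g, act_coe k, hg v, hk v, hσ]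
    funext p
    have h1 := congrFun (ofMaskW_add m.2 n.2) p
    rw [e, show ofMaskW 16777215 p = 1 by clear h1; revert p; decide +kernel] at h1
    simp only [Pi.add_apply] at h1
    rcases (show ∀ t : ZMod 2, t = 0 ∨ t = 1 by decide) (ofMaskW m.2 p) with a | a <;>
      rcases (show ∀ t : ZMod 2, t = 0 ∨ t = 1 by decide) (ofMaskW n.2 p) with b | b <;>
      simp [sgn, a, b, CharTwo.add_self_eq_zero] at h1 ⊢

theorem Rep1.of_ok {m : MEl} (h : mOK m = true) : ∃ x, Rep1 x m := by
  simp only [mOK, Bool.and_eq_true] at h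
  have hlt : m.2 < 2 ^ 24 := Nat.le_of_ble_eq_true h.2
  obtain ⟨g, hg⟩ := mono_exists (lperm_mem h.1.1) (dec_code h.1.2 hlt)
  exact ⟨toCo1 g, m24ok_lok h.1.1, hlt, g, hg, rfl⟩

/-- the identity in list form -/
def mOne : MEl := (List.range 24, 0)

theorem lperm_one : lperm (List.range 24) = 1 := by
  have h : lok (List.range 24) = true := by decide +kernel
  refine Equiv.ext fun x => idx_injective ?_
  rw [← (rep_lperm h) x, Equiv.Perm.one_apply, List.getD_eq_getElem _ _ (by simpa using idx_lt x),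
    List.getElem_range]

theorem rep_one : Rep1 1 mOne :=
  ⟨by decide +kernel, by norm_num [mOne], 1, fun v => by
    rw [one_smul, mOne, lperm_one]
    funext p
    simp [sgn, prm, ofMaskW], rfl⟩

/-- the squares of the lifts are one -/
def mSq (m : MEl) : Bool :=
  (List.range 24).all (fun i => Nat.beq ((lmul m.1 m.1).getD i 0) i) && Nat.beq (Nat.xor m.2 (pm m.1 m.2 0)) 0

/-- signed count of fixed points is nonzero -/
def mTr (m : MEl) : Bool :=
  !Nat.beq (2 * ((List.range 24).countP fun i => Nat.beq (m.1.getD i 0) i && Nat.testBit m.2 i))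
    ((List.range 24).countP fun i => Nat.beq (m.1.getD i 0) i)

theorem tr_mono {g : ↥Co0} {l : List ℕ} {c : ℕ} (hl : lok l = true) (hg : IsMono g (lperm l) (ofMaskW c)) :
    tr g = 8 * (((List.range 24).countP fun i => Nat.beq (l.getD i 0) i : ℕ) : ℤ) -
      16 * (((List.range 24).countP fun i => Nat.beq (l.getD i 0) i && Nat.testBit c i : ℕ) : ℤ) := by
  let f : ℕ → ℤ := fun i => if Nat.beq (l.getD i 0) i then (if Nat.testBit c i then -8 else 8) else 0
  have hterm : ∀ p : GolayPt, act g (e8 p : Zv) p = f (idx p) := fun p => by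
    rw [IsMono.act hg (e8 p).2]
    by_cases hp : lperm l p = p
    · have hb : Nat.beq (l.getD (idx p) 0) (idx p) = true := by rw [(rep_lperm hl) p, hp, Nat.beq_refl]
      have hs : (lperm l).symm p = p := by rw [Equiv.symm_apply_eq, hp]
      simp only [f, hb, if_true, sgn, prm, hs, e8, Pi.single_eq_same, ofMaskW]
      cases Nat.testBit c (idx p) <;> simp
    · have hb : Nat.beq (l.getD (idx p) 0) (idx p) = false := Bool.eq_false_iff.2 fun h =>
        hp (idx_injective (by rw [← (rep_lperm hl) p, Nat.eq_of_beq_eq_true h]))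
      have hs : (lperm l).symm p ≠ p := fun h => hp (by conv_lhs => rw [← h, Equiv.apply_symm_apply])
      simp only [f, hb]
      simp [sgn, prm, e8, Pi.single_eq_of_ne hs]
  have hsum : tr g = ∑ i ∈ Finset.range 24, f i := by
    rw [tr, Finset.sum_congr rfl fun p _ => hterm p]
    refine Finset.sum_nbij' idx pt (fun p _ => Finset.mem_range.2 (idx_lt p)) (fun i _ => Finset.mem_univ _)
      (fun p _ => pt_idx p) (fun i hi => idx_pt i (Finset.mem_range.1 hi)) fun p _ => rfl
  have hind : ∀ n, ∑ i ∈ Finset.range n, f i = 8 * (((List.range n).countP fun i => Nat.beq (l.getD i 0) i : ℕ) : ℤ) -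
      16 * (((List.range n).countP fun i => Nat.beq (l.getD i 0) i && Nat.testBit c i : ℕ) : ℤ) := by
    intro n
    induction n with
    | zero => simp
    | succ n ih =>
      rw [Finset.sum_range_succ, ih, List.range_succ, List.countP_append, List.countP_append]
      simp only [f, List.countP_cons, List.countP_nil]
      cases Nat.beq (l.getD n 0) n <;> cases Nat.testBit c n <;> simp <;> ring
  rw [hsum, hind]

theorem tr_zero_iff {g : ↥Co0} {m : MEl} (hl : lok m.1 = true) (hg : IsMono g (lperm m.1) (ofMaskW m.2)) :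
    tr g = 0 ↔ mTr m = false := by
  rw [tr_mono hl hg, mTr]
  constructor
  · intro h
    have : 2 * ((List.range 24).countP fun i => Nat.beq (m.1.getD i 0) i && Nat.testBit m.2 i) =
        (List.range 24).countP fun i => Nat.beq (m.1.getD i 0) i := by omega
    rw [this, Nat.beq_refl]; rfl
  · intro h
    rw [Bool.not_eq_false'] at h
    have := Nat.eq_of_beq_eq_true h
    omega

theorem sq_one_iff {g : ↥Co0} {m : MEl} (hl : lok m.1 = true) (hm : m.2 < 2 ^ 24)
    (hg : IsMono g (lperm m.1) (ofMaskW m.2)) : g * g = 1 ↔ mSq m = true := by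
  obtain ⟨hl2, he⟩ := lok_lmul hl hl
  have hgg : ∀ v : Lv, (((g * g) • v : Lv) : Zv) =
      sgn (ofMaskW (Nat.xor m.2 (pm m.1 m.2 0))) (prm (lperm (lmul m.1 m.1)) (v : Zv)) := fun v => by
    rw [mono_mul hg hg, actW_mask hl hm, ofMaskW_add, he]
  have h1 : ∀ v : Lv, (((1 : ↥Co0) • v : Lv) : Zv) = sgn (ofMaskW 0) (prm (lperm (List.range 24)) (v : Zv)) := fun v => by
    rw [one_smul, lperm_one]; funext p; simp [sgn, prm, ofMaskW]
  simp only [mSq, Bool.and_eq_true]
  constructor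
  · intro e
    obtain ⟨e1, e2⟩ := mono_unique fun v => (hgg v).symm.trans (e ▸ h1 v)
    refine ⟨List.all_eq_true.2 fun i hi => ?_, ?_⟩
    · rw [List.mem_range] at hi
      have := rep_lperm hl2 (pt i)
      rw [e1, lperm_one, Equiv.Perm.one_apply, idx_pt i hi] at this
      rw [this, Nat.beq_refl]
    · have := congrArg (fun w => mask (support₂ w)) e2
      simp only [support₂_ofMaskW] at this
      rw [mask_ofMask (m := Nat.xor m.2 (pm m.1 m.2 0)) (Nat.xor_lt_two_pow hm (pm_lt hl hm)), mask_ofMask (by norm_num)] at this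
      rw [this, Nat.beq_refl]
  · rintro ⟨e1, e2⟩
    refine co0_ext fun v => ?_
    have hl1 : lok (List.range 24) = true := by decide +kernel
    rw [hgg, h1, Nat.eq_of_beq_eq_true e2, lperm_congr hl2 hl1 (List.all_eq_true.2 fun i hi => by
      rw [List.mem_range] at hi
      rw [List.getD_eq_getElem (List.range 24) 0 (by simpa using hi), List.getElem_range]
      exact List.all_eq_true.1 e1 i (List.mem_range.2 hi))]

/-! ### the classes -/

/-- the sign change on the dodecad -/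
def mW : MEl := (List.range 24, baseDod)

/-- an element whose lifts have order four -/
def mB : MEl := ([1, 0, 3, 2, 6, 8, 4, 11, 5, 10, 9, 7, 22, 18, 16, 17, 14, 15, 13, 23, 21, 20, 12, 19], 1635050)

theorem rep_checks : mOK mW = true ∧ mSq mW = true ∧ mTr mW = false ∧ mOK mB = true ∧ mSq mB = false ∧
    mEq (mMul mB mB) mOne = true ∧ mEq mB mOne = false ∧ mEq mW mOne = false ∧ mEq (mMul mW mW) mOne = true := by
  decide +kernel

/-- the dodecad involution -/
noncomputable def wC : Cfsg.Spor.Co1 := (Rep1.of_ok rep_checks.1).choose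

theorem rep_wC : Rep1 wC mW := (Rep1.of_ok rep_checks.1).choose_spec

/-- the lifts have order four -/
def InB (x : Cfsg.Spor.Co1) : Prop := ∃ g, toCo1 g = x ∧ g * g ≠ 1

theorem Rep1.ne_one {x : Cfsg.Spor.Co1} {m : MEl} (hx : Rep1 x m) (h : mEq m mOne = false) : x ≠ 1 := by
  rintro rfl
  obtain ⟨hl, hm2, g, hg, hg1⟩ := hx
  have h1 : ∀ v : Lv, (((1 : ↥Co0) • v : Lv) : Zv) = sgn (ofMaskW 0) (prm (lperm (List.range 24)) (v : Zv)) := fun v => by
    rw [one_smul, lperm_one]; funext p; simp [sgn, prm, ofMaskW]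
  have hn : ∀ v : Lv, ((nEl • v : Lv) : Zv) = sgn (ofMaskW 16777215) (prm (lperm (List.range 24)) (v : Zv)) := fun v => by
    rw [← act_coe, nEl_act v.2, lperm_one]
    funext p
    rw [sgn, show ofMaskW 16777215 p = 1 by revert p; decide +kernel]
    simp [prm]
  have key : ∀ c, c < 2 ^ 24 → (∀ v : Lv, sgn (ofMaskW m.2) (prm (lperm m.1) (v : Zv)) =
      sgn (ofMaskW c) (prm (lperm (List.range 24)) (v : Zv))) → Nat.xor m.2 0 = c ∧
      ((List.range 24).all fun i => Nat.beq (m.1.getD i 0) (mOne.1.getD i 0)) = true := fun c hc e => by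
    obtain ⟨e1, e2⟩ := mono_unique e
    have := congrArg (fun w => mask (support₂ w)) e2
    simp only [support₂_ofMaskW] at this
    rw [mask_ofMask hm2, mask_ofMask hc] at this
    refine ⟨by rw [show Nat.xor m.2 0 = m.2 ^^^ 0 from rfl, Nat.xor_zero]; exact this, List.all_eq_true.2 fun i hi => ?_⟩
    rw [List.mem_range] at hi
    have := rep_lperm hl (pt i)
    rw [e1, lperm_one, Equiv.Perm.one_apply, idx_pt i hi] at this
    rw [this, mOne, List.getD_eq_getElem _ _ (by simpa using hi), List.getElem_range, Nat.beq_refl]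
  rw [mEq] at h
  rcases toCo1_eq (h := g) (g := 1) hg1.symm with e | e
  · subst e
    obtain ⟨e1, e2⟩ := key 0 (by norm_num) fun v => (hg v).symm.trans (h1 v)
    rw [e2, show mOne.2 = 0 from rfl, e1] at h
    exact absurd h (by decide)
  · rw [mul_one] at e
    subst e
    obtain ⟨e1, e2⟩ := key 16777215 (by norm_num) fun v => (hg v).symm.trans (hn v)
    rw [e2, show mOne.2 = 0 from rfl, e1] at h
    exact absurd h (by decide)

theorem Rep1.invol {x : Cfsg.Spor.Co1} {m : MEl} (hx : Rep1 x m) (h : mEq (mMul m m) mOne = true) : x * x = 1 :=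
  (hx.mul hx).eq rep_one h

theorem tr_eps : tr eps ≠ 0 := by
  have h : ∀ p : GolayPt, act eps (e8 p : Zv) p = if octW p = 0 then 8 else -8 := fun p => by
    rw [eps_act (e8 p).2]; simp [sgn, e8]
  rw [tr, Finset.sum_congr rfl fun p _ => h p]
  decide +kernel

theorem lift_data {a : Cfsg.Spor.Co1} (h : InA a) {g : ↥Co0} (hg : toCo1 g = a) : g * g = 1 ∧ tr g ≠ 0 := by
  have h' : IsConj (toCo1 eps) (toCo1 g) := hg.symm ▸ h
  exact ⟨(sq_isConj h').2 eps_sq, fun e => tr_eps ((tr_isConj h').1 e)⟩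

theorem lift_wC {a : Cfsg.Spor.Co1} (h : IsConj wC a) {g : ↥Co0} (hg : toCo1 g = a) : g * g = 1 ∧ tr g = 0 := by
  obtain ⟨hl, hm, w, hw, hwx⟩ := rep_wC
  have h' : IsConj (toCo1 w) (toCo1 g) := by rw [hwx, hg]; exact h
  exact ⟨(sq_isConj h').2 ((sq_one_iff hl hm hw).2 rep_checks.2.1),
    (tr_isConj h').2 ((tr_zero_iff hl hw).2 rep_checks.2.2.1)⟩

theorem InB.conj {a b : Cfsg.Spor.Co1} (h : InB a) (hc : IsConj a b) : InB b := by
  obtain ⟨g, rfl, hg⟩ := h
  obtain ⟨k, rfl⟩ := QuotientGroup.mk_surjective b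
  exact ⟨k, rfl, fun e => hg ((sq_isConj hc).1 e)⟩

theorem InB.not_A {a : Cfsg.Spor.Co1} (h : InB a) : ¬ InA a := fun hA => by
  obtain ⟨g, hg, hg2⟩ := h
  exact hg2 (lift_data hA hg).1

theorem InB.not_C {a : Cfsg.Spor.Co1} (h : InB a) : ¬ IsConj wC a := fun hC => by
  obtain ⟨g, hg, hg2⟩ := h
  exact hg2 (lift_wC hC hg).1

theorem InB.mul_zC {a : Cfsg.Spor.Co1} (h : InB a) (hc : Commute a zC) : InB (a * zC) := by
  obtain ⟨g, hg, hg2⟩ := h
  obtain ⟨c, hcc⟩ := psi_surjective ⟨a, Subgroup.mem_centralizer_singleton_iff.2 hc.eq⟩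
  have hc' : toCo1 (c : ↥Co0) = a := congrArg Subtype.val hcc
  refine ⟨(c : ↥Co0) * eps, by rw [toCo1_mul, hc']; rfl, ?_⟩
  have he : eps * (c : ↥Co0) = c * eps := mem_C0.1 c.2
  rw [mul_assoc, ← mul_assoc eps, he, mul_assoc, eps_sq, mul_one]
  rw [sq_toCo1 (g := g) (hg.trans hc'.symm)]
  exact hg2

theorem involution_cases {a : Cfsg.Spor.Co1} (ha : a * a = 1) (ha1 : a ≠ 1) : InA a ∨ IsConj wC a ∨ InB a := by
  classical
  haveI := finite_co1
  obtain ⟨F1⟩ := CoT.exists_frame hyp_std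
  obtain ⟨x1, B1⟩ := CoT.exists_base F1 hyp_std
  obtain ⟨a1, a2, a3, -, -, -, -, -, -, hall⟩ := CoT.three_classes F1 hyp_std B1
  obtain ⟨bB, hbB⟩ := Rep1.of_ok rep_checks.2.2.2.1
  have hB : InB bB := by
    obtain ⟨hl, hm, g, hg, hgx⟩ := hbB
    exact ⟨g, hgx, fun e => Bool.false_ne_true (rep_checks.2.2.2.2.1.symm.trans ((sq_one_iff hl hm hg).1 e))⟩
  have hrep : ∀ c : Cfsg.Spor.Co1, c * c = 1 → c ≠ 1 → ∃ i : Fin 3, IsConj c (![a1, a2, a3] i) := fun c hc hc1 => by
    rcases hall c (orderOf_two_iff.2 ⟨hc, hc1⟩) with r | r | r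
    exacts [⟨0, r⟩, ⟨1, r⟩, ⟨2, r⟩]
  let rep : Fin 3 → Cfsg.Spor.Co1 := ![zC, wC, bB]
  have hrep2 : ∀ i, rep i * rep i = 1 ∧ rep i ≠ 1 := fun i => by
    fin_cases i
    exacts [zC_facts, ⟨rep_wC.invol rep_checks.2.2.2.2.2.2.2.2, rep_wC.ne_one rep_checks.2.2.2.2.2.2.2.1⟩,
      ⟨hbB.invol rep_checks.2.2.2.2.2.1, hbB.ne_one rep_checks.2.2.2.2.2.2.1⟩]
  choose f hf using fun i => hrep (rep i) (hrep2 i).1 (hrep2 i).2
  have hne : ∀ i j, IsConj (rep i) (rep j) → i = j := by
    have zw : ¬ IsConj zC wC := fun h => by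
      obtain ⟨g, hg⟩ := QuotientGroup.mk_surjective wC
      exact (lift_data h hg).2 (lift_wC (IsConj.refl _) hg).2
    intro i j h
    fin_cases i <;> fin_cases j
    exacts [rfl, absurd h zw, absurd h hB.not_A, absurd h.symm zw, rfl, absurd h hB.not_C,
      absurd h.symm hB.not_A, absurd h.symm hB.not_C, rfl]
  have hf_surj : Function.Surjective f :=
    (Finite.injective_iff_surjective).1 fun i j hij => hne i j ((hf i).trans ((hij ▸ hf j).symm))
  obtain ⟨i, hi⟩ := hrep a ha ha1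
  obtain ⟨j, rfl⟩ := hf_surj i
  have hc : IsConj (rep j) a := (hf j).trans hi.symm
  fin_cases j
  · exact Or.inl hc
  · exact Or.inr (Or.inl hc)
  · exact Or.inr (Or.inr (hB.conj hc))

/-- membership in the class of the central involution, from the list form -/
theorem Rep1.inA_iff {x : Cfsg.Spor.Co1} {m : MEl} (hx : Rep1 x m) (hxx : x * x = 1) (hx1 : x ≠ 1) :
    InA x ↔ (mSq m && mTr m) = true := by
  obtain ⟨hl, hm, g, hg, rfl⟩ := hx
  rw [Bool.and_eq_true, ← sq_one_iff hl hm hg, ← Bool.not_eq_false, ← tr_zero_iff hl hg]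
  refine ⟨fun h => lift_data h rfl, fun ⟨h2, ht⟩ => ?_⟩
  rcases involution_cases hxx hx1 with h | h | ⟨k, hk, hk2⟩
  · exact h
  · exact absurd (lift_wC h rfl).2 ht
  · exact absurd (sq_toCo1 hk.symm ▸ h2) hk2

end Cfsg.Agent.Spor.CoAmal
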