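import Cfsg.Agent.Lib.Spor.CoAmal.Fusion
import Cfsg.Agent.Lib.Spor.CoTypeBridge
import Cfsg.Agent.Lib.Spor.Co1Invol.Main
import Cfsg.Agent.Lib.Spor.Co1Simple
import Cfsg.Agent.Lib.Spor.GolayStab

/-!
The eight involutions generate the first Conway group.
-/

set_option autoImplicit false
set_option maxRecDepth 100000
set_option linter.style.haveILetI false

namespace Cfsg.Agent.Spor.CoAmal

open Cfsg Cfsg.Agent.Spor Cfsg.Agent.Spor.Co1Invol
open scoped Pointwise

/-- the extraspecial subgroup of the standard centraliser -/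
noncomputable def Qs : Subgroup Cfsg.Spor.Co1 :=
  QC.map (Subgroup.centralizer ({zC} : Set Cfsg.Spor.Co1)).subtype

theorem finite_co1 : Finite Cfsg.Spor.Co1 := by
  haveI := co0_finite
  exact Finite.of_surjective (QuotientGroup.mk' (Subgroup.center ↥Co0)) (QuotientGroup.mk'_surjective _)

theorem hyp_std : CoT.Hyp zC Qs := by
  haveI := finite_co1
  haveI := QC_normal
  exact CoT.hyp_of_statement zC order_zC QC gfit_eq extraspecial card_QC quot_iso.some not_weakly_closed

theorem xi_not_std : (xi (Pi.single none 8 : GolayPt → ℤ)) none ≠ 0 ∧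
    ∃ k : Fin 24, pt k.1 ≠ none ∧ (xi (Pi.single none 8 : GolayPt → ℤ)) (pt k.1) ≠ 0 ∨
      ∃ a b : Fin 24, pt a.1 ≠ pt b.1 ∧ (xi (Pi.single none 8 : GolayPt → ℤ)) (pt a.1) ≠ 0 ∧
        (xi (Pi.single none 8 : GolayPt → ℤ)) (pt b.1) ≠ 0 := by
  decide +kernel

theorem setting_top [Finite Cfsg.Spor.Co1] (S : Setting zC Qs) : S.H = ⊤ := by
  set P := S.H.comap (QuotientGroup.mk' (Subgroup.center ↥Co0)) with hP
  have hC0 : ∀ g : ↥Co0, g ∈ C0 → g ∈ P := fun g hg => S.cent_le (psi ⟨g, hg⟩).2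
  -- a permutation moving the octad
  obtain ⟨σ0, hσ0, hσne, g0, hg0, hg0P⟩ : ∃ σ ∈ M24, σ • oct ≠ oct ∧ ∃ g, IsMono g σ 0 ∧ g ∈ P := by
    obtain ⟨m, hm, hz⟩ := disjoint_octad
    have hlt := octMasks_lt hm
    have ho : ofMask m ∈ octads := mem_octads.2 (by rw [mask_ofMask hlt]; exact hm)
    obtain ⟨σ, hσ, hσo⟩ := octad_map _ ho
    have hne : σ • oct ≠ oct := by
      intro e
      have : mask (ofMask m) = mask oct := congrArg mask (hσo.symm.trans e)
      rw [mask_ofMask hlt, mask_ofMask (by norm_num)] at this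
      subst this
      norm_num at hz
    obtain ⟨g, hg⟩ := mono_exists hσ (zero_mem golayCode)
    refine ⟨σ, hσ, hne, g, hg, ?_⟩
    have hW : actW σ octW = ofMaskW m := support₂_injective (by
      rw [support₂_actW, support₂_ofMaskW, support₂_ofMaskW]; exact hσo)
    have hmem : ofMaskW m ∈ golayCode := word_of_mask (List.mem_filter.1 hm).1
    obtain ⟨t, ht⟩ := mono_exists (one_mem M24) hmem
    have hte : g * eps * g⁻¹ = t := by
      rw [mul_inv_eq_iff_eq_mul]
      refine co0_ext fun v => ?_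
      rw [mono_mul hg eps_mono, mono_mul (g := t) (σ := 1) (w := ofMaskW m) ht hg, one_mul, mul_one, zero_add, hW]
      congr 1
      funext p
      simp [actW]
    have htC : t ∈ C0 := (mono_C0 (σ := 1) ht).2 (one_smul _ _)
    have htQ : (⟨t, htC⟩ : ↥C0) ∈ Q0 := mono_one_mem (σ := 1) (one_mem _) (zero_on_oct hz) ht
    have hval : QuotientGroup.mk g * zC * (QuotientGroup.mk g)⁻¹ = (psi ⟨t, htC⟩ : Cfsg.Spor.Co1) := by
      show QuotientGroup.mk g * QuotientGroup.mk eps * (QuotientGroup.mk g)⁻¹ = QuotientGroup.mk t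
      rw [← QuotientGroup.mk_inv, ← QuotientGroup.mk_mul, ← QuotientGroup.mk_mul, hte]
    refine S.mem_of_conj (g := QuotientGroup.mk g) ?_ fun e => ?_
    · rw [hval]; exact ⟨_, ⟨_, htQ, rfl⟩, rfl⟩
    · obtain ⟨c, hc⟩ := psi_surjective ⟨QuotientGroup.mk g, Subgroup.mem_centralizer_singleton_iff.2
        (mul_inv_eq_iff_eq_mul.1 e)⟩
      have hc' : QuotientGroup.mk (c : ↥Co0) = QuotientGroup.mk g := congrArg Subtype.val hc
      rw [QuotientGroup.eq] at hc'
      refine hne ((mono_C0 hg).1 ?_)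
      have hcen : (c : ↥Co0)⁻¹ * g ∈ C0 := mem_C0.2 (Subgroup.mem_center_iff.1 hc' eps)
      have := mul_mem c.2 hcen
      rwa [mul_inv_cancel_left] at this
  -- all permutations
  let T : Subgroup M24 :=
    { carrier := {σ | ∃ g w, IsMono g (σ : Equiv.Perm GolayPt) w ∧ g ∈ P}
      one_mem' := ⟨1, 0, fun v => by rw [one_smul]; funext p; simp [sgn, prm], one_mem P⟩
      mul_mem' := by
        rintro a b ⟨g, w, hg, hgP⟩ ⟨k, u, hk, hkP⟩
        exact ⟨g * k, _, mono_mul hg hk, mul_mem hgP hkP⟩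
      inv_mem' := by
        rintro a ⟨g, w, hg, hgP⟩
        refine ⟨g⁻¹, actW (a : Equiv.Perm GolayPt)⁻¹ w, fun v => ?_, inv_mem hgP⟩
        have h := hg (g⁻¹ • v)
        rw [smul_inv_smul] at h
        funext p
        rw [h]
        simp [sgn, prm, actW, Equiv.Perm.inv_def]
        split_ifs <;> ring }
  have hT : T = ⊤ := by
    refine octad_coatom_base.2 T (lt_of_le_of_ne (fun σ hσ => ?_) fun e => hσne ?_)
    · obtain ⟨g, hg⟩ := mono_exists σ.2 (zero_mem golayCode)
      exact ⟨g, 0, hg, hC0 g ((mono_C0 hg).2 (MulAction.mem_stabilizer_iff.1 hσ))⟩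
    · have : (⟨σ0, hσ0⟩ : M24) ∈ T := ⟨g0, 0, hg0, hg0P⟩
      rw [← e] at this
      exact MulAction.mem_stabilizer_iff.1 this
  have hmono : monoSub ≤ P := fun g hg => by
    obtain ⟨σ, hσ, w, -, hgm⟩ := std_form (mem_monoSub.1 hg)
    obtain ⟨k, u, hk, hkP⟩ : (⟨σ, hσ⟩ : M24) ∈ T := hT ▸ Subgroup.mem_top _
    have h1 : IsMono (g * k⁻¹) 1 (w + u) := fun v => by
      have h := hk (k⁻¹ • v)
      rw [smul_inv_smul] at h
      rw [mul_smul, hgm, h]
      funext p
      simp only [sgn, prm, Pi.add_apply, Equiv.Perm.one_def, Equiv.refl_symm, Equiv.refl_apply]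
      rcases (show ∀ t : ZMod 2, t = 0 ∨ t = 1 by decide) (w p) with e1 | e1 <;>
        rcases (show ∀ t : ZMod 2, t = 0 ∨ t = 1 by decide) (u p) with e2 | e2 <;>
        simp [e1, e2, CharTwo.add_self_eq_zero]
    have := mul_mem (hC0 _ ((mono_C0 h1).2 (one_smul _ _))) hkP
    rwa [inv_mul_cancel_right] at this
  have hPtop : P = ⊤ := by
    refine monoSub_coatom.2 P (lt_of_le_of_ne hmono fun e => ?_)
    obtain ⟨a, ha⟩ := exists_xi
    have hact : ∀ x ∈ leechLattice, act a x = xi x := fun x hx => by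
      rw [show x = ((⟨x, hx⟩ : ↥leechLattice) : GolayPt → ℤ) from rfl, act_coe, ha]
    have hC : a ∈ C0 := mem_C0.2 (act_ext fun x hx => by
      rw [act_mul _ _ hx, act_mul _ _ hx, eps_act (act_mem _ hx), hact x hx, eps_act hx,
        hact _ (sgn_mem octW_mem hx), xi_sgn x hx])
    have hs := mem_monoSub.1 (e ▸ hC0 a hC) (e8 none) (e8_std none)
    rw [ha] at hs
    obtain ⟨i, s, -, hs⟩ := hs
    obtain ⟨h0, k, hk | ⟨x, y, hxy, hx, hy⟩⟩ := xi_not_std
    · rw [show ((e8 none : ↥leechLattice) : GolayPt → ℤ) = Pi.single none 8 from rfl] at hs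
      rw [hs] at h0 hk
      exact hk.1 (by
        by_cases hi : i = pt k.1
        · by_contra hne
          exact h0 (Pi.single_eq_of_ne (hi ▸ Ne.symm hne) _)
        · exact absurd (Pi.single_eq_of_ne (Ne.symm hi) _) hk.2)
    · rw [show ((e8 none : ↥leechLattice) : GolayPt → ℤ) = Pi.single none 8 from rfl] at hs
      rw [hs] at hx hy
      refine hxy ?_
      by_cases hi : i = pt x.1
      · subst hi
        by_contra hne
        exact hy (Pi.single_eq_of_ne (Ne.symm hne) _)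
      · exact absurd (Pi.single_eq_of_ne (Ne.symm hi) _) hx
  refine (Subgroup.eq_top_iff' _).2 fun x => ?_
  induction x using QuotientGroup.induction_on with
  | H a =>
    have : a ∈ P := hPtop ▸ Subgroup.mem_top a
    exact this

end Cfsg.Agent.Spor.CoAmal
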