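import Cfsg.Agent.Lib.Spor.CoTypeThree.Main
import Cfsg.Agent.Lib.Spor.CosetCert
import Cfsg.Agent.Lib.Spor.CoAmal.CzData

/-!
The centraliser of a rotation of an anisotropic plane and one rotation sharing a point with it generate the
commutator subgroup of the isometry group of a plus form in dimension eight over two elements.
-/

set_option autoImplicit false
set_option maxRecDepth 100000

namespace Cfsg.Agent.Spor.CoAmal.Cz

open Cfsg.Agent.Spor.CoT Cfsg.Agent.Spor.CoT.Three Cfsg.Agent.Spor.CoT.Chk CzDat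
open Cfsg.Agent.Classical
open Cfsg.Agent.Spor.CC (fld)

/-- a rotation on codes -/
def rc (p : ℕ × ℕ) (c : ℕ) : ℕ :=
  Nat.xor (Nat.xor c (bif Nat.beq (Chk.pc c p.2) 1 then Nat.xor p.1 p.2 else 0)) (bif Nat.beq (Chk.pc c p.1) 1 then p.1 else 0)

/-- a rotation on a packed pair -/
def rcp (p : ℕ × ℕ) (x : ℕ) : ℕ := Nat.add (Nat.mul 256 (rc p (Nat.shiftRight x 8))) (rc p (Nat.land x 255))

/-- the planes are anisotropic and the later ones are orthogonal to the first -/
def gensOK : Bool :=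
  (Nat.beq gens.length 5 && gens.all fun p => Nat.blt p.1 256 && Nat.blt p.2 256 && isPair p.1 p.2) &&
    (List.range 3).all fun i => Nat.beq (Chk.pc 136 (gens.getD (i + 2) (0, 0)).1) 0 &&
      Nat.beq (Chk.pc 136 (gens.getD (i + 2) (0, 0)).2) 0 && Nat.beq (Chk.pc 76 (gens.getD (i + 2) (0, 0)).1) 0 &&
      Nat.beq (Chk.pc 76 (gens.getD (i + 2) (0, 0)).2) 0

/-- one point of the forest -/
def ptOK (j : ℕ) : Bool :=
  bif Nat.beq j 0 then Nat.beq (fld pts 16 j) 34892 else
    Nat.blt (Nat.land (fld tree 24 (Nat.sub j 1)) 65535) j &&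
    Nat.blt (Nat.shiftRight (fld tree 24 (Nat.sub j 1)) 16) gens.length &&
    Nat.beq (rcp (gens.getD (Nat.shiftRight (fld tree 24 (Nat.sub j 1)) 16) (0, 0))
      (fld pts 16 (Nat.land (fld tree 24 (Nat.sub j 1)) 65535))) (fld pts 16 j)

/-- all pairs are listed -/
def covOK : Bool :=
  (List.range 256).all fun a => (List.range 256).all fun b => !isPair a b ||
    (Nat.blt (fld (posn.getD a 0) 16 b) 6720 &&
      Nat.beq (fld pts 16 (fld (posn.getD a 0) 16 b)) (Nat.add (Nat.mul 256 a) b))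

/-- the second plane is moved to the listed one -/
def uwOK : Bool :=
  (List.range 256).all fun u => !isPair 136 u || Nat.beq u 76 || Nat.beq u (Nat.xor 136 76) ||
    uw.any fun e => Nat.beq e.1 u && e.2.all (fun i => Nat.ble 2 i && Nat.blt i gens.length) &&
      (Nat.beq (e.2.foldl (fun c i => rc (gens.getD i (0, 0)) c) u) (gens.getD 1 (0, 0)).2 ||
        Nat.beq (e.2.foldl (fun c i => rc (gens.getD i (0, 0)) c) u) (Nat.xor 136 (gens.getD 1 (0, 0)).2)) &&
      Nat.beq (gens.getD 1 (0, 0)).1 136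

theorem gens_ok : gensOK = true := by decide +kernel

theorem pts_ok : ((List.range 6720).all ptOK) = true := by decide +kernel

theorem cov_ok : covOK = true := by decide +kernel

theorem uw_ok : uwOK = true := by decide +kernel

theorem rot_exists {a b : V} (h : Pair a b) : ∃ g : Ga, Rot3 g a b := by
  obtain ⟨c, ha, hb⟩ := exists_move h
  exact ⟨_, by have := rot0.conj c; rwa [ha, hb] at this⟩

theorem rot_smul {g : Ga} {a b : V} (h : Rot3 g a b) (v : V) :
    g • v = v + pol v b • (a + b) + pol v a • a := by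
  obtain ⟨u, hu, ha, hb⟩ := Three.decomp h.pair v
  calc g • v = g • (u + (pol v b • a + pol v a • b)) := by rw [← hu]
    _ = u + (pol v b • b + pol v a • (a + b)) := by simp only [smul_add', smul_smul', h.fst, h.snd, h.fix u ha hb]
    _ = u + (pol v b • a + pol v a • b) + pol v b • (a + b) + pol v a • a := by
      simp only [smul_add]
      rw [show u + (pol v b • a + pol v a • b) + (pol v b • a + pol v b • b) + pol v a • a =
        (pol v b • a + pol v b • a) + (u + (pol v b • b + (pol v a • a + pol v a • b))) by abel,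
        ZModModule.add_self, zero_add]
    _ = v + pol v b • (a + b) + pol v a • a := by rw [← hu]

theorem bit_smul (t : ℕ) (v : V) : ((t : ZMod 2)) • v = (t : ℕ) • v := Nat.cast_smul_eq_nsmul _ t v

theorem enc_rot {g : Ga} {a b : V} (h : Rot3 g a b) (v : V) : enc (g • v) = rc (enc a, enc b) (enc v) := by
  rw [rot_smul h, rc]
  have hlt : ∀ x y, Chk.pc x y < 2 := fun x y => Nat.mod_lt _ (by norm_num)
  rw [pol_enc v b, pol_enc v a]
  rcases Nat.lt_succ_iff.1 (hlt (enc v) (enc b)) |> Nat.le_one_iff_eq_zero_or_eq_one.1 with e | e <;>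
    rcases Nat.lt_succ_iff.1 (hlt (enc v) (enc a)) |> Nat.le_one_iff_eq_zero_or_eq_one.1 with e' | e' <;>
    simp [e, e', enc_add, show Nat.beq 0 1 = false from rfl]

/-- every rotation of the plane lies in the subgroup -/
def RM (M : Subgroup Ga) (a b : V) : Prop := ∀ g, Rot3 g a b → g ∈ M

theorem foldl_rot {M : Subgroup Ga} (hM : ∀ i, 2 ≤ i → i < gens.length → ∃ g : Ga,
      g ∈ M ∧ Commute g g0 ∧ g • va = va ∧ ∀ v, enc (g • v) = rc (gens.getD i (0, 0)) (enc v)) :
    ∀ (l : List ℕ), (∀ i ∈ l, 2 ≤ i ∧ i < gens.length) → ∀ u : V, ∃ c ∈ M, c • va = va ∧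
      enc (c • u) = l.foldl (fun c i => rc (gens.getD i (0, 0)) c) (enc u)
  | [], _, u => ⟨1, one_mem M, one_smul _ va, by rw [one_smul, List.foldl_nil]⟩
  | i :: l, hl, u => by
    obtain ⟨hi, hi'⟩ := hl i (by simp)
    obtain ⟨g, gM, -, gva, ge⟩ := hM i hi hi'
    obtain ⟨c, cM, cva, ce⟩ := foldl_rot hM l (fun j hj => hl j (by simp [hj])) (g • u)
    exact ⟨c * g, mul_mem cM gM, by rw [mul_smul, gva, cva], by rw [mul_smul, ce, ge, List.foldl_cons]⟩

theorem eq_top_of (M : Subgroup Ga) (h0 : C0 ≤ M) {d : Ga} (hd : d • va = va)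
    (hn : ¬ Commute (d * g0 * d⁻¹) g0) (hdM : d * g0 * d⁻¹ ∈ M) : M = ⊤ := by
  have hva : enc va = 136 := enc_vec 136 (by norm_num)
  have hvb : enc vb = 76 := enc_vec 76 (by norm_num)
  have hgok := gens_ok
  simp only [gensOK, Bool.and_eq_true, List.all_eq_true, List.mem_range] at hgok
  obtain ⟨⟨hlen, hpair⟩, hperp⟩ := hgok
  have hlen' : gens.length = 5 := Nat.eq_of_beq_eq_true hlen
  have hrot : ∀ i, i < gens.length → ∃ g : Ga, Rot3 g (CoT.vec (gens.getD i (0, 0)).1) (CoT.vec (gens.getD i (0, 0)).2) ∧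
      ∀ v, enc (g • v) = rc (gens.getD i (0, 0)) (enc v) := fun i hi => by
    have hp := hpair (gens.getD i (0, 0)) (by rw [List.getD_eq_getElem _ _ hi]; exact List.getElem_mem hi)
    obtain ⟨⟨h1, h2⟩, h3⟩ := hp
    have l1 : (gens.getD i (0, 0)).1 < 256 := Nat.le_of_ble_eq_true h1
    have l2 : (gens.getD i (0, 0)).2 < 256 := Nat.le_of_ble_eq_true h2
    obtain ⟨g, hg⟩ := rot_exists (a := CoT.vec (gens.getD i (0, 0)).1) (b := CoT.vec (gens.getD i (0, 0)).2)
      (pair_enc.2 (by rw [enc_vec _ l1, enc_vec _ l2]; exact h3))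
    exact ⟨g, hg, fun v => by rw [enc_rot hg, enc_vec _ l1, enc_vec _ l2]⟩
  have hperp' : ∀ i, 2 ≤ i → i < gens.length → ∃ g : Ga,
      g ∈ M ∧ Commute g g0 ∧ g • va = va ∧ ∀ v, enc (g • v) = rc (gens.getD i (0, 0)) (enc v) := fun i h2 hi => by
    obtain ⟨g, hg, he⟩ := hrot i hi
    obtain ⟨⟨⟨e1, e2⟩, e3⟩, e4⟩ := hperp (i - 2) (by omega)
    rw [show i - 2 + 2 = i by omega] at e1 e2 e3 e4
    have hl : (gens.getD i (0, 0)).1 < 256 ∧ (gens.getD i (0, 0)).2 < 256 := by
      have hp := hpair (gens.getD i (0, 0)) (by rw [List.getD_eq_getElem _ _ hi]; exact List.getElem_mem hi)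
      exact ⟨Nat.le_of_ble_eq_true hp.1.1, Nat.le_of_ble_eq_true hp.1.2⟩
    have p0 : ∀ (x : V) (c : ℕ), c < 256 → Nat.beq (Chk.pc (enc x) c) 0 = true → pol x (CoT.vec c) = 0 := fun x c hc e => by
      rw [pol_eq_zero, enc_vec _ hc]; exact Nat.eq_of_beq_eq_true e
    have ga : g • va = va := hg.fix va (p0 va _ hl.1 (hva.symm ▸ e1)) (p0 va _ hl.2 (hva.symm ▸ e2))
    have gb : g • vb = vb := hg.fix vb (p0 vb _ hl.1 (hvb.symm ▸ e3)) (p0 vb _ hl.2 (hvb.symm ▸ e4))
    have hc := comm_of_fix ga gb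
    exact ⟨g, h0 (mem_C0.2 hc), hc, ga, he⟩
  -- the second plane
  set u := d • vb with hu
  have hrd : Rot3 (d * g0 * d⁻¹) va u := by have := rot0.conj d; rwa [hd] at this
  have hu1 : u ≠ vb := fun e => hn (by
    rw [hrd.unique (g := d * g0 * d⁻¹) (e ▸ rot0)])
  have hu2 : u ≠ va + vb := fun e => by
    refine hn ?_
    have h1 : Rot3 g0 (va + vb) va := by
      refine ⟨⟨?_, pair0.1, ?_⟩, ?_, ?_, fun v h1 h2 => rot0.fix v h2 ?_⟩
      · rw [← rot0.snd, smul_qm]; exact pair0.2.1
      · rw [pol_add_left, pol_self, zero_add, pol_comm']; exact pair0.2.2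
      · rw [smul_add', rot0.fst, rot0.snd, add_comm va vb, ← add_assoc, ZModModule.add_self, zero_add]
      · rw [rot0.fst, add_comm (va + vb), ← add_assoc, ZModModule.add_self, zero_add]
      · rw [pol_add_right, h2, zero_add] at h1; exact h1
    rw [hrd.unique (g := d * g0 * d⁻¹) (e ▸ h1.inv)]
    exact (Commute.refl g0).inv_left
  have hq := List.all_eq_true.1 uw_ok (enc u) (List.mem_range.2 (enc_lt u))
  rw [← hva, ← hvb, pair_enc.1 hrd.pair, ← enc_add] at hq
  have n1 : Nat.beq (enc u) (enc vb) = false := by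
    rw [Bool.eq_false_iff]; exact fun e => hu1 (enc_injective (Nat.eq_of_beq_eq_true e))
  have n2 : Nat.beq (enc u) (enc (va + vb)) = false := by
    rw [Bool.eq_false_iff]; exact fun e => hu2 (enc_injective (Nat.eq_of_beq_eq_true e))
  rw [n1, n2] at hq
  simp only [Bool.not_true, Bool.or_false, Bool.false_or, List.any_eq_true, Bool.and_eq_true, Bool.or_eq_true,
    List.all_eq_true] at hq
  obtain ⟨e, -, ⟨⟨he1, hel⟩, het⟩, h1a⟩ := hq
  obtain ⟨c, cM, cva, ce⟩ := foldl_rot hperp' e.2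
    (fun i hi => ⟨Nat.le_of_ble_eq_true (hel i hi).1, Nat.le_of_ble_eq_true (hel i hi).2⟩) u
  rw [← ce] at het
  obtain ⟨g, hg, hge⟩ := hrot 1 (by omega)
  rw [Nat.eq_of_beq_eq_true h1a] at hg
  rw [vec_enc] at hg
  have hcr : Rot3 (c * (d * g0 * d⁻¹) * c⁻¹) va (c • u) := by have := hrd.conj c; rwa [cva] at this
  have hcM : c * (d * g0 * d⁻¹) * c⁻¹ ∈ M := mul_mem (mul_mem cM hdM) (inv_mem cM)
  have gM : g ∈ M := by
    rcases het with e' | e'
    · have : c • u = CoT.vec (gens.getD 1 (0, 0)).2 := by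
        rw [← vec_enc (c • u), Nat.eq_of_beq_eq_true e']
      rw [this] at hcr
      exact hcr.unique hg ▸ hcM
    · have : c • u = va + CoT.vec (gens.getD 1 (0, 0)).2 := by
        rw [← vec_enc (c • u), Nat.eq_of_beq_eq_true e', vec_xor, vec_enc]
      rw [this] at hcr
      have hi : Rot3 g⁻¹ va (va + CoT.vec (gens.getD 1 (0, 0)).2) := by
        have h2 := hg.snd
        refine ⟨hcr.pair, ?_, ?_, fun v h1 h2' => ?_⟩
        · rw [inv_smul_eq_iff, smul_add', hg.fst, h2, add_comm va, ← add_assoc, ZModModule.add_self, zero_add]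
        · rw [inv_smul_eq_iff, ← add_assoc, ZModModule.add_self, zero_add, h2]
        · rw [pol_add_right, h1, zero_add] at h2'
          rw [inv_smul_eq_iff, hg.fix v h1 h2']
      rw [hcr.unique hi] at hcM
      exact inv_mem_iff.1 hcM
  -- all generators
  have hall : ∀ i, i < gens.length → ∃ g : Ga, g ∈ M ∧ ∀ v, enc (g • v) = rc (gens.getD i (0, 0)) (enc v) := fun i hi => by
    rcases Nat.lt_or_ge i 2 with h | h
    · interval_cases i
      · exact ⟨g0, h0 (mem_C0.2 (Commute.refl g0)), fun v => by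
          rw [enc_rot rot0, hva, hvb]; rfl⟩
      · exact ⟨g, gM, hge⟩
    · obtain ⟨g', h1, -, -, h4⟩ := hperp' i h hi
      exact ⟨g', h1, h4⟩
  have hlist : ∀ j, j < 6720 → ∃ m ∈ M, fld pts 16 j = 256 * enc (m • va) + enc (m • vb) := by
    intro j
    induction j using Nat.strong_induction_on with
    | _ j ih =>
      intro hj
      have hp := List.all_eq_true.1 pts_ok j (List.mem_range.2 hj)
      rw [ptOK] at hp
      rcases Nat.eq_zero_or_pos j with rfl | hpos
      · refine ⟨1, one_mem M, ?_⟩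
        rw [one_smul, one_smul, hva, hvb]
        exact Nat.eq_of_beq_eq_true hp
      · rw [show Nat.beq j 0 = false from Bool.eq_false_iff.2 fun e => hpos.ne' (Nat.eq_of_beq_eq_true e)] at hp
        simp only [cond_false, Bool.and_eq_true] at hp
        obtain ⟨⟨hlt, hgen⟩, heq⟩ := hp
        obtain ⟨m, mM, hm⟩ := ih _ (Nat.le_of_ble_eq_true hlt) (lt_trans (Nat.le_of_ble_eq_true hlt) hj)
        obtain ⟨g', gM', ge⟩ := hall _ (Nat.le_of_ble_eq_true hgen)
        refine ⟨g' * m, mul_mem gM' mM, ?_⟩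
        rw [mul_smul, mul_smul, ge, ge, ← Nat.eq_of_beq_eq_true heq, hm, rcp]
        have hb : enc (m • vb) < 256 := enc_lt _
        have e1 : Nat.shiftRight (256 * enc (m • va) + enc (m • vb)) 8 = enc (m • va) := by
          show _ >>> 8 = _
          rw [Nat.shiftRight_eq_div_pow]; omega
        have e2 : Nat.land (256 * enc (m • va) + enc (m • vb)) 255 = enc (m • vb) := by
          show _ &&& (2 ^ 8 - 1) = _
          rw [Nat.and_two_pow_sub_one_eq_mod]; omega
        rw [e1, e2]; rfl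
  refine (Subgroup.eq_top_iff' M).2 fun c => ?_
  have hc := List.all_eq_true.1 cov_ok (enc (c • va)) (List.mem_range.2 (enc_lt _))
  have hc' := List.all_eq_true.1 hc (enc (c • vb)) (List.mem_range.2 (enc_lt _))
  rw [pair_enc.1 (pair0.smul c)] at hc'
  simp only [Bool.not_true, Bool.false_or, Bool.and_eq_true] at hc'
  obtain ⟨hlt, heq⟩ := hc'
  obtain ⟨m, mM, hm⟩ := hlist _ (Nat.le_of_ble_eq_true hlt)
  rw [Nat.eq_of_beq_eq_true heq] at hm
  replace hm : 256 * enc (c • va) + enc (c • vb) = 256 * enc (m • va) + enc (m • vb) := hm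
  have := enc_lt (c • vb); have := enc_lt (m • vb)
  have ea : c • va = m • va := enc_injective (by omega)
  have eb : c • vb = m • vb := enc_injective (by omega)
  have hfix : m⁻¹ * c ∈ M := h0 (mem_C0.2 (comm_of_fix (by rw [mul_smul, ea, inv_smul_smul])
    (by rw [mul_smul, eb, inv_smul_smul])))
  have := mul_mem mM hfix
  rwa [mul_inv_cancel_left] at this

end Cfsg.Agent.Spor.CoAmal.Cz
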