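import Cfsg.Agent.Lib.Spor.CoAmal.Setting
import Cfsg.Agent.Lib.Spor.CoAmal.CzGen

/-!
In a group of Conway type the eight involutions generate the centraliser of the central involution.
-/

set_option autoImplicit false
set_option maxRecDepth 100000

namespace Cfsg.Agent.Spor.CoAmal

open Cfsg.Agent.Spor.CoT Cfsg.Agent.Spor.CoT.Three Cfsg.Agent.Classical

universe u

variable {G : Type u} [Group G] [Finite G] {z : G} {Q : Subgroup G}

/-- the group of the eight involutions -/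
def Setting.H (S : Setting z Q) : Subgroup G := Subgroup.closure (S.m '' {x | x < 8})

theorem Setting.mem_H (S : Setting z Q) {x : ℕ} (hx : x < 8) : S.m x ∈ S.H :=
  Subgroup.subset_closure ⟨x, hx, rfl⟩

theorem Setting.z_mem (S : Setting z Q) : z ∈ S.H := by
  have := S.mem_H (x := 0) (by norm_num)
  rwa [S.m0] at this

theorem Setting.comm_y_mem (S : Setting z Q) {d : G} (hd : Commute d S.K.y) : d ∈ S.H :=
  S.gen (commute_zp S.K hd)

/-- the image of the part in the centraliser of the involution -/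
noncomputable def Setting.M (S : Setting z Q) : Subgroup Ga :=
  (S.H.subgroupOf (Subgroup.centralizer ({z} : Set G))).map S.K.F.π

theorem Setting.mem_M (S : Setting z Q) {d : G} (hd : Commute d z) (h : d ∈ S.H) : S.K.F.π (cC hd) ∈ S.M :=
  ⟨cC hd, h, rfl⟩

theorem Setting.C0_le (S : Setting z Q) : C0 ≤ S.M := fun g hg => by
  obtain ⟨d, hd, hdy, e⟩ := S.K.exists_liftY (mem_C0.1 hg)
  exact e ▸ S.mem_M hd (S.comm_y_mem hdy)

theorem plane_smul (A : V) : g0 • A + A = pol A vb • (va + vb) + pol A va • va := by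
  rw [Cz.rot_smul rot0 A]
  calc A + pol A vb • (va + vb) + pol A va • va + A
      = (A + A) + (pol A vb • (va + vb) + pol A va • va) := by abel
    _ = _ := by rw [ZModModule.add_self, zero_add]

theorem plane_point (A : V) (h : g0 • A + A ≠ 0) : ∃ i < 3, g0 • A + A = g0 ^ i • va := by
  obtain ⟨p0, p1, p2, -⟩ := pow_vals
  rw [plane_smul A] at h ⊢
  rcases (show ∀ t : ZMod 2, t = 0 ∨ t = 1 by decide) (pol A vb) with a | a <;>
    rcases (show ∀ t : ZMod 2, t = 0 ∨ t = 1 by decide) (pol A va) with b | b <;>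
    rw [a, b] at h ⊢ <;> simp only [zero_smul, one_smul, zero_add, add_zero] at h ⊢
  · exact absurd rfl h
  · exact ⟨0, by norm_num, p0.symm⟩
  · exact ⟨2, by norm_num, p2.symm⟩
  · refine ⟨1, by norm_num, ?_⟩
    rw [p1, add_comm va vb, add_assoc, ZModModule.add_self, add_zero]

theorem Setting.M_top (S : Setting z Q) : S.M = ⊤ := by
  set s := S.K.F.π (cC S.sz) with hs
  have hg : g0 ∈ S.M := S.C0_le (mem_C0.2 (Commute.refl g0))
  have sM : s ∈ S.M := S.mem_M S.sz (S.mem_H (by norm_num))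
  obtain ⟨A, B, hA, e⟩ := S.meet
  have hB : g0 • B + B ≠ 0 := fun h0 => hA (by rw [← e, h0, smul_zero'])
  obtain ⟨i, -, hi⟩ := plane_point A hA
  obtain ⟨k, -, hk⟩ := plane_point B hB
  set d := (g0 ^ i)⁻¹ * s * g0 ^ k with hd
  have hdva : d • va = va := by
    rw [hd, mul_smul, mul_smul, ← hk, e, hi, inv_smul_smul]
  have hci : Commute (g0 ^ k) g0 := (Commute.refl g0).pow_left k
  have hconj : d * g0 * d⁻¹ = (g0 ^ i)⁻¹ * (s * g0 * s⁻¹) * g0 ^ i := by
    rw [hd, show (g0 ^ i)⁻¹ * s * g0 ^ k * g0 * ((g0 ^ i)⁻¹ * s * g0 ^ k)⁻¹ =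
      (g0 ^ i)⁻¹ * s * (g0 ^ k * g0 * (g0 ^ k)⁻¹) * s⁻¹ * g0 ^ i by group, hci.eq, mul_inv_cancel_right]
    group
  refine Cz.eq_top_of S.M S.C0_le hdva (fun hc => S.nocomm ?_) ?_
  · have h1 := (Commute.conj_iff (g0 ^ i)).2 hc
    rw [hconj, ((Commute.refl g0).pow_left i).eq, mul_inv_cancel_right] at h1
    rw [show g0 ^ i * ((g0 ^ i)⁻¹ * (s * g0 * s⁻¹) * g0 ^ i) * (g0 ^ i)⁻¹ = s * g0 * s⁻¹ by group] at h1
    exact h1
  · rw [hconj]
    exact mul_mem (mul_mem (inv_mem (pow_mem hg i)) (mul_mem (mul_mem sM hg) (inv_mem sM))) (pow_mem hg i)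

theorem Setting.Q_le (S : Setting z Q) : Q ≤ S.H := by
  let K := S.K
  -- liftings of vectors
  let Vh : Set V := {v | ∃ q, q ∈ Q ∧ q ∈ S.H ∧ K.F.vec q = v}
  have hin : ∀ v, InF v → v ∈ Vh := fun v hv => by
    obtain ⟨q, hq, e⟩ := K.F.vec_surj v
    exact ⟨q, hq, S.comm_y_mem ((K.comm_iff hq).2 (e ▸ hv)), e⟩
  have hsm : ∀ c : Ga, ∀ v ∈ Vh, c • v ∈ Vh := by
    intro c v ⟨q, hq, hqH, e⟩
    obtain ⟨d, hdH, hdc⟩ := (S.M_top.symm ▸ Subgroup.mem_top c : c ∈ S.M)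
    refine ⟨(d : G) * q * (d : G)⁻¹, K.h.norm _ (mem_C.1 d.2) _ hq, mul_mem (mul_mem hdH hqH) (inv_mem hdH), ?_⟩
    rw [K.F.vec_conj d q hq, hdc, e]
  have hadd : ∀ a ∈ Vh, ∀ b ∈ Vh, a + b ∈ Vh := by
    rintro _ ⟨a, ha, ha', rfl⟩ _ ⟨b, hb, hb', rfl⟩
    exact ⟨a * b, mul_mem ha hb, mul_mem ha' hb', K.F.vec_mul a ha b hb⟩
  obtain ⟨c, hca, hcb⟩ := exists_move pair1
  have hI : InF a2 ∧ InF b2 := by
    refine ⟨⟨?_, ?_⟩, ?_, ?_⟩ <;> decide +kernel
  have hva : va ∈ Vh := by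
    have := hsm c⁻¹ _ (hin _ hI.1)
    rwa [← hca, inv_smul_smul] at this
  have hvb : vb ∈ Vh := by
    have := hsm c⁻¹ _ (hin _ hI.2)
    rwa [← hcb, inv_smul_smul] at this
  have h0 : (0 : V) ∈ Vh := ⟨1, one_mem Q, one_mem _, vec_one K.F K.h⟩
  have hall : ∀ v, v ∈ Vh := by
    intro v
    obtain ⟨u, hu, ha, hb⟩ := Three.decomp pair0 v
    rw [hu]
    refine hadd _ (hin u ⟨ha, hb⟩) _ (hadd _ ?_ _ ?_)
    · rcases (show ∀ t : ZMod 2, t = 0 ∨ t = 1 by decide) (pol v vb) with e | e <;> rw [e]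
      · rw [zero_smul]; exact h0
      · rw [one_smul]; exact hva
    · rcases (show ∀ t : ZMod 2, t = 0 ∨ t = 1 by decide) (pol v va) with e | e <;> rw [e]
      · rw [zero_smul]; exact h0
      · rw [one_smul]; exact hvb
  intro q hq
  obtain ⟨q', hq', hH, e⟩ := hall (K.F.vec q)
  rcases vec_eq K.F hq hq' K.h e.symm with r | r <;> rw [r]
  · exact hH
  · exact mul_mem hH S.z_mem

/-- the centraliser of the involution lies in the group -/
theorem Setting.cent_le (S : Setting z Q) : Subgroup.centralizer ({z} : Set G) ≤ S.H := by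
  intro g hg
  obtain ⟨d, hdH, hd⟩ := (S.M_top.symm ▸ Subgroup.mem_top _ : S.K.F.π ⟨g, hg⟩ ∈ S.M)
  have hQ : ((d⁻¹ * ⟨g, hg⟩ : Subgroup.centralizer ({z} : Set G)) : G) ∈ Q :=
    (S.K.F.π_ker _).1 (by rw [map_mul, map_inv, hd, inv_mul_cancel])
  have hm := mul_mem (show (d : G) ∈ S.H from hdH) (S.Q_le hQ)
  rwa [Subgroup.coe_mul, Subgroup.coe_inv, mul_inv_cancel_left] at hm

end Cfsg.Agent.Spor.CoAmal
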