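import Cfsg.Agent.Lib.Spor.CoAmal.Bound

/-!
Lifting the relations of the seven involutions of the Suzuki group through a central extension by a group of
exponent three.
-/

set_option autoImplicit false
set_option maxRecDepth 100000
set_option linter.unusedSectionVars false
set_option linter.unusedSimpArgs false

namespace Cfsg.Agent.Spor.CoAmal

open Cfsg.Agent.Spor.CC

variable {M N : Type*} [Group M] [Group N]

/-- a central extension by a group of exponent three -/
structure Ext3 (p : M →* N) : Prop where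
  surj : Function.Surjective p
  cen : ∀ k, p k = 1 → ∀ a, Commute k a
  cube : ∀ k, p k = 1 → k ^ 3 = 1

variable {p : M →* N} (X : Ext3 p)
include X

theorem Ext3.sq_one {k : M} (hk : p k = 1) (h : k * k = 1) : k = 1 := by
  have := X.cube k hk
  rwa [pow_three, h, mul_one] at this

theorem Ext3.uniq {a b : M} (ha : a * a = 1) (hb : b * b = 1) (h : p a = p b) : a = b := by
  have hk : p (a⁻¹ * b) = 1 := by rw [map_mul, map_inv, h, inv_mul_cancel]
  have e : b = a * (a⁻¹ * b) := by group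
  have h1 : a⁻¹ * b = 1 := by
    refine X.sq_one hk ?_
    rw [e, (X.cen _ hk a).mul_mul_mul_comm, ha, one_mul] at hb
    exact hb
  exact inv_mul_eq_one.1 h1

theorem Ext3.exists_invol {n : N} (hn : n * n = 1) : ∃ a, p a = n ∧ a * a = 1 := by
  obtain ⟨a, rfl⟩ := X.surj n
  have hk : p (a * a) = 1 := by rw [map_mul, hn]
  refine ⟨a * (a * a), by rw [map_mul, hk, mul_one], ?_⟩
  have h3 := X.cube _ hk
  calc a * (a * a) * (a * (a * a)) = (a * a) ^ 3 := by simp only [pow_succ, pow_zero, one_mul, mul_assoc]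
    _ = 1 := h3

theorem Ext3.comm_of {a b : M} {n : ℕ} (ha : a ^ n = 1) (hn : Nat.Coprime 3 n) (h : Commute (p a) (p b)) :
    Commute a b := by
  set k := b * a * b⁻¹ * a⁻¹ with hk
  have hpk : p k = 1 := by
    rw [hk, map_mul, map_mul, map_mul, map_inv, map_inv, ← h.eq, mul_inv_cancel_right, mul_inv_cancel]
  have e : b * a * b⁻¹ = k * a := by rw [hk, inv_mul_cancel_right]
  have hn1 : k ^ n = 1 := by
    have h1 : (k * a) ^ n = 1 := by rw [← e, conj_pow, ha]; group
    rwa [(X.cen k hpk a).mul_pow, ha, mul_one] at h1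
  have hk1 : k = 1 := orderOf_eq_one_iff.1 (Nat.eq_one_of_dvd_coprimes hn
    (orderOf_dvd_of_pow_eq_one (X.cube k hpk)) (orderOf_dvd_of_pow_eq_one hn1))
  rw [hk1, one_mul] at e
  exact (mul_inv_eq_iff_eq_mul.1 e).symm

theorem Ext3.pow_trick {a j : M} {n : ℕ} (hj : j * a * j⁻¹ = a⁻¹) (hn : p a ^ n = 1) : a ^ n = 1 := by
  have hk : p (a ^ n) = 1 := by rw [map_pow, hn]
  refine X.sq_one hk ?_
  have e : (a ^ n)⁻¹ = j * a ^ n * j⁻¹ := by rw [← inv_pow, ← hj, conj_pow]
  rw [← (X.cen _ hk j).eq, mul_inv_cancel_right] at e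
  nth_rw 1 [← e]
  exact inv_mul_cancel _

theorem Ext3.pair {a b : M} {n : ℕ} (ha : a * a = 1) (hb : b * b = 1) (h : (p a * p b) ^ n = 1) :
    (a * b) ^ n = 1 := by
  refine X.pow_trick (j := a) ?_ (by rwa [map_mul])
  rw [mul_inv_rev, inv_eq_of_mul_eq_one_right ha, inv_eq_of_mul_eq_one_right hb, ← mul_assoc a a b, ha, one_mul]

theorem Ext3.cube_inverted {a j : M} (hj : p j * p a * (p j)⁻¹ = (p a)⁻¹) (h3 : p a ^ 3 = 1) : a ^ 3 = 1 := by
  set k := j * a * j⁻¹ * a with hk
  have hpk : p k = 1 := by rw [hk, map_mul, map_mul, map_mul, map_inv, hj, inv_mul_cancel]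
  have ht : p (a ^ 3) = 1 := by rw [map_pow, h3]
  refine X.sq_one ht ?_
  have e : j * a * j⁻¹ = k * a⁻¹ := by rw [hk, mul_inv_cancel_right]
  have e3 : j * a ^ 3 * j⁻¹ = (a ^ 3)⁻¹ := by
    rw [← conj_pow, e, (X.cen k hpk a⁻¹).mul_pow, X.cube k hpk, one_mul, inv_pow]
  rw [← (X.cen _ ht j).eq, mul_inv_cancel_right] at e3
  nth_rw 1 [e3]
  exact inv_mul_cancel _

/-- the seven involutions satisfy the relations of the centre-extended group -/
theorem Ext3.rels7 {a b c d e f g : M} (ha : a * a = 1) (hb : b * b = 1) (hc : c * c = 1) (hd : d * d = 1)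
    (he : e * e = 1) (hf : f * f = 1) (hg : g * g = 1)
    (R : SuzAmal.Rels (p a) (p b) (p c) (p d) (p e) (p f) (p g))
    (hj : ∃ j, p j * p ((b * c * d * c * d) ^ 5 * e) * (p j)⁻¹ = (p ((b * c * d * c * d) ^ 5 * e))⁻¹)
    {m : ℕ → M} (m0 : m 0 = a) (m1 : m 1 = b) (m2 : m 2 = c) (m3 : m 3 = d) (m4 : m 4 = e) (m5 : m 5 = f)
    (m6 : m 6 = g) : ∀ r ∈ relK, wp m r = 1 := by
  have ci : ∀ {u v : M}, u * u = 1 → Commute (p u) (p v) → Commute u v := fun hu h =>
    X.comm_of (n := 2) (by rwa [pow_two]) (by norm_num) h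
  have c2 : ∀ {u v : M}, u * u = 1 → v * v = 1 → Commute (p u) (p v) → (u * v) ^ 2 = 1 := fun hu hv h =>
    SuzAmal.comm_pair hu hv (ci hu h)
  have hcd : (c * d) ^ 8 = 1 := X.pair hc hd R.cd
  have hfg : (f * g) ^ 4 = 1 := X.pair hf hg R.fg
  have hx1 : a * (c * d) ^ 4 = 1 := by
    have hw : (c * d) ^ 4 * (c * d) ^ 4 = 1 := by rw [← pow_add]; exact hcd
    rw [← X.uniq ha hw (by rw [map_pow, map_mul]; exact R.x1), ha]
  have hx2 : a * (f * g) ^ 2 = 1 := by
    have hw : (f * g) ^ 2 * (f * g) ^ 2 = 1 := by rw [← pow_add]; exact hfg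
    rw [← X.uniq ha hw (by rw [map_pow, map_mul]; exact R.x2), ha]
  have hx3 : (a * b * c * f) ^ 5 = 1 := by
    refine X.pow_trick (j := c * f * a) ?_ (by simp only [map_mul]; exact R.x3)
    have q1 : Commute (c * f) a := (ci hc R.ac.symm).mul_left (ci hf R.af.symm)
    have q2 : c * f * (c * f) = 1 := by rw [← pow_two]; exact c2 hc hf R.cf
    set q := c * f with hq
    rw [show a * b * c * f = a * b * q by rw [hq]; group, mul_inv_rev q a, mul_inv_rev (a * b) q, mul_inv_rev a b,
      inv_eq_of_mul_eq_one_right q2, inv_eq_of_mul_eq_one_right ha, inv_eq_of_mul_eq_one_right hb]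
    calc q * a * (a * b * q) * (a * q) = q * (a * a) * b * (q * a) * q := by simp only [mul_assoc]
      _ = q * b * (a * q) * q := by rw [ha, mul_one, q1.eq]
      _ = q * (b * a) := by rw [show q * b * (a * q) * q = q * b * a * (q * q) by group, q2, mul_one, mul_assoc]
  have hx4 : p ((b * f * g) ^ 5) = 1 := by simp only [map_pow, map_mul]; exact R.x4
  have hx5 : ((b * c * d * c * d) ^ 5 * e) ^ 3 = 1 := by
    obtain ⟨j, hj⟩ := hj
    exact X.cube_inverted hj (by simp only [map_pow, map_mul]; exact R.x5)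
  have hpw : ∀ (k : ℕ) (w : List ℕ), wp m (powW k w) = wp m w ^ k := fun k w => prod_powW m k w
  have hpair : ∀ i j : ℕ, wp m [i, j] = m i * m j := fun i j => by simp [wp]
  have hx : wp m xW = (b * f * g) ^ 5 := by
    rw [xW, hpw]; simp [wp, m1, m5, m6, mul_assoc]
  have hrev : wp m xW.reverse = ((b * f * g) ^ 5)⁻¹ := by
    rw [show xW.reverse = powW 5 [6, 5, 1] from rfl, hpw, ← inv_pow, mul_inv_rev, mul_inv_rev,
      inv_eq_of_mul_eq_one_right hb, inv_eq_of_mul_eq_one_right hf, inv_eq_of_mul_eq_one_right hg]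
    simp [wp, m1, m5, m6]
  intro r hr
  simp only [relK, List.mem_append, List.mem_cons, List.not_mem_nil, or_false, List.mem_map, List.mem_range] at hr
  rcases hr with hr | ⟨i, hi, rfl⟩
  · rcases hr with rfl | rfl | rfl | rfl | rfl | rfl | rfl | rfl | rfl | rfl | rfl | rfl | rfl | rfl | rfl | rfl |
      rfl | rfl | rfl | rfl | rfl | rfl | rfl | rfl | rfl | rfl <;>
      simp only [hpw, wp_append, hpair, m0, m1, m2, m3, m4, m5, m6]
    · exact X.pair ha hb R.ab
    · exact X.pair hb hc R.bc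
    · exact hcd
    · exact X.pair hd he R.de
    · exact X.pair hb hf R.bf
    · exact hfg
    · exact X.pair hg hb R.gb
    · exact c2 ha hc R.ac
    · exact c2 ha hd R.ad
    · exact c2 ha he R.ae
    · exact c2 ha hf R.af
    · exact c2 ha hg R.ag
    · exact c2 hb hd R.bd
    · exact c2 hb he R.be
    · exact c2 hc he R.ce
    · exact c2 hc hf R.cf
    · exact c2 hc hg R.cg
    · exact c2 hd hf R.df
    · exact c2 hd hg R.dg
    · exact c2 he hf R.ef
    · exact c2 he hg R.eg
    · simpa [wp, m0] using hx1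
    · simpa [wp, m0] using hx2
    · simpa [wp, m0, m1, m2, m5, mul_assoc] using hx3
    · simpa [wp, m1, m2, m3, m4, mul_assoc] using hx5
    · rw [hx]; exact X.cube _ hx4
  · rw [wp_append, wp_append, wp_append, hx, hrev]
    have hi' : wp m [i] = m i := by simp [wp]
    have hii : m i * m i = 1 := by interval_cases i <;> simp [m0, m1, m2, m3, m4, m5, m6, *]
    rw [hi', (X.cen _ hx4 (m i)).eq, mul_inv_cancel_right, hii]

end Cfsg.Agent.Spor.CoAmal
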