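import Cfsg.Agent.Lib.Spor.CoAmal.RecMain

/-!
A group of Conway type is the first Conway group.
-/

set_option autoImplicit false
set_option maxRecDepth 100000
set_option linter.style.haveILetI false

namespace Cfsg.Agent.Spor.CoAmal

open Cfsg Cfsg.Agent.Spor Cfsg.Agent.Spor.Co1Invol
open Cfsg.Agent.Solv.CITGroups (orderOf_two_iff)

universe u

variable {G : Type u} [Group G] [Finite G] {z : G} {Q : Subgroup G} {S : Setting z Q} (e : Emb S)

theorem wC_facts : wC * wC = 1 ∧ wC ≠ 1 ∧ ¬ InA wC := by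
  refine ⟨rep_wC.invol rep_checks.2.2.2.2.2.2.2.2, rep_wC.ne_one rep_checks.2.2.2.2.2.2.2.1, fun h => ?_⟩
  obtain ⟨g, hg⟩ := QuotientGroup.mk_surjective wC
  exact (lift_data h hg).2 (lift_wC (IsConj.refl _) hg).2

include e in
/-- every conjugate of the central involution is in the image -/
theorem Emb.class_mem {v : G} (hv : IsConj z v) : v ∈ S.H := by
  obtain ⟨hw, hw1, hwA⟩ := wC_facts
  have ht : e.φ wC * e.φ wC = 1 := by rw [← map_mul, hw, map_one]
  have ht1 : e.φ wC ≠ 1 := fun h => hw1 (e.inj (h.trans (map_one _).symm))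
  obtain ⟨c, hc⟩ := isConj_iff.1 hv.symm
  have hvv : v * v = 1 ∧ v ≠ 1 := by
    obtain ⟨c', rfl⟩ := isConj_iff.1 hv
    exact ⟨by rw [conj_mul, CoT.zz S.K.h]; group, fun h1 => CoT.z_ne S.K.h (conj_eq_one_iff.1 h1)⟩
  rcases dihedral ht hvv.1 ht1 hvv.2 with ⟨d, -, hd⟩ | ⟨u, -, huu, hu1, hut, huv, huc⟩
  · exact absurd (e.inA_iff.1 (hv.trans (isConj_iff.2 ⟨d, hd⟩).symm)) hwA
  obtain ⟨a, rfl⟩ := e.exists_of_mem (e.cent_wC u (by rintro _ rfl; exact hut))
  have haa : a * a = 1 := e.inj (by rw [map_mul, huu, map_one])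
  have ha1 : a ≠ 1 := fun h => hu1 (by rw [h, map_one])
  rcases involution_cases haa ha1 with hA | hC | hB
  · exact e.cent_A hA huv.symm
  · obtain ⟨b, hb⟩ := isConj_iff.1 hC
    have h := (Commute.conj_iff (e.φ b)⁻¹).2 huv
    rw [← hb, map_mul, map_mul, map_inv, inv_inv,
      show (e.φ b)⁻¹ * (e.φ b * e.φ wC * (e.φ b)⁻¹) * e.φ b = e.φ wC by group] at h
    have h' := e.cent_wC _ (by rintro _ rfl; exact h.symm)
    have := mul_mem (mul_mem (e.mem b) h') (inv_mem (e.mem b))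
    rwa [show e.φ b * ((e.φ b)⁻¹ * v * e.φ b) * (e.φ b)⁻¹ = v by group] at this
  · exfalso
    have hcu : Commute (c * e.φ a * c⁻¹) z := by
      have := (Commute.conj_iff c).2 huv
      rwa [hc] at this
    obtain ⟨a', ha'⟩ := e.exists_of_mem (S.cz_mem hcu)
    have ha'a : a' * a' = 1 := e.inj (by rw [map_mul, ha', conj_mul, huu, map_one]; group)
    have ha'1 : a' ≠ 1 := fun h => hu1 (conj_eq_one_iff.1 (by rw [← ha', h, map_one]))
    have hB' : InB a' := hB.conj (e.conj_reflect haa ha1 ha'a ha'1 (isConj_iff.2 ⟨c, ha'.symm⟩))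
    have hcom : Commute a' zC := e.inj (by rw [map_mul, map_mul, e.map_z, ha']; exact hcu.eq)
    have hB2 := hB'.mul_zC hcom
    have hprod : IsConj (e.φ a * v) (e.φ (a' * zC)) :=
      isConj_iff.2 ⟨c, by
        rw [map_mul, e.map_z, ha']
        calc c * (e.φ a * v) * c⁻¹ = c * e.φ a * c⁻¹ * (c * v * c⁻¹) := by group
          _ = c * e.φ a * c⁻¹ * z := by rw [hc]⟩
    rcases huc with h | h
    · refine hB2.not_C (e.conj_reflect hw hw1 ?_ ?_ (h.trans hprod))
      · calc a' * zC * (a' * zC) = a' * (zC * a') * zC := by group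
          _ = a' * a' * (zC * zC) := by rw [← hcom.eq]; group
          _ = 1 := by rw [ha'a, zC_facts.1, one_mul]
      · intro h0
        have h1 := h.trans hprod
        rw [h0, map_one, isConj_one_left] at h1
        exact ht1 h1
    · exact hB2.not_A (e.inA_iff.1 (hv.trans (h.trans hprod)))

/-- the image is everything -/
theorem Emb.surj : Function.Surjective e.φ := fun g => by
  refine e.exists_of_mem ?_
  obtain ⟨a, ha⟩ := e.exists_of_mem (e.class_mem (isConj_iff.2 ⟨g, rfl⟩ : IsConj z (g * z * g⁻¹)))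
  obtain ⟨b, rfl⟩ := isConj_iff.1 (e.inA_iff.1 (ha ▸ isConj_iff.2 ⟨g, rfl⟩ : IsConj z (e.φ a)))
  rw [map_mul, map_mul, map_inv, e.map_z] at ha
  have hm : Commute ((e.φ b)⁻¹ * g) z := by
    refine mul_inv_eq_iff_eq_mul.1 ?_
    rw [show (e.φ b)⁻¹ * g * z * ((e.φ b)⁻¹ * g)⁻¹ = (e.φ b)⁻¹ * (g * z * g⁻¹) * e.φ b by group, ← ha]
    group
  have := mul_mem (e.mem b) (S.cz_mem hm)
  rwa [mul_inv_cancel_left] at this

theorem iso_co1 {G : Type u} [Group G] [Finite G] {z : G} {Q : Subgroup G} (h : CoT.Hyp z Q) :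
    Nonempty (G ≃* Cfsg.Spor.Co1) := by
  obtain ⟨S⟩ := exists_setting h
  obtain ⟨e⟩ := exists_emb S
  exact ⟨(MulEquiv.ofBijective e.φ ⟨e.inj, e.surj⟩).symm⟩

end Cfsg.Agent.Spor.CoAmal
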