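import Cfsg.Agent.Lib.Spor.CoAmal.Cz

/-!
Conjugates of the central involution inside the extraspecial subgroup are reached inside the group of the eight
involutions.
-/

set_option autoImplicit false
set_option maxRecDepth 100000

namespace Cfsg.Agent.Spor.CoAmal

open Cfsg.Agent.Spor.CoT Cfsg.Agent.Spor.CoT.Three

universe u

variable {G : Type u} [Group G] [Finite G] {z : G} {Q : Subgroup G}

theorem Setting.cz_mem (S : Setting z Q) {g : G} (hg : Commute g z) : g ∈ S.H := S.cent_le (mem_C.2 hg)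

theorem Setting.mem_of_conj (S : Setting z Q) {g : G} (hgQ : g * z * g⁻¹ ∈ Q) (hgz : g * z * g⁻¹ ≠ z) : g ∈ S.H := by
  obtain ⟨x, B, hxy⟩ := exists_base0 S.K
  obtain ⟨a, hay, ha⟩ := S.K.conj_base B hxy
  have h := S.K.h
  have hgg : g * z * g⁻¹ * (g * z * g⁻¹) = 1 := by rw [conj_mul, zz h]; group
  have hg1 : g * z * g⁻¹ ≠ 1 := fun e => z_ne h (conj_eq_one_iff.1 e)
  obtain ⟨c, hc⟩ := move_sing S.K.F h B.mem B.sq B.ne1 B.nez hgQ hgg hg1 hgz
  have hm : Commute (g⁻¹ * ((c : G) * a)) z := by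
    refine mul_inv_eq_iff_eq_mul.1 ?_
    rw [show g⁻¹ * ((c : G) * a) * z * (g⁻¹ * ((c : G) * a))⁻¹ = g⁻¹ * ((c : G) * (a * z * a⁻¹) * (c : G)⁻¹) * g by
      group, ha, hc]
    group
  have hd := mul_mem (mul_mem (S.cent_le c.2) (S.comm_y_mem hay)) (inv_mem (S.cz_mem hm))
  rwa [show (c : G) * a * (g⁻¹ * ((c : G) * a))⁻¹ = g by group] at hd

end Cfsg.Agent.Spor.CoAmal
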