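import Cfsg.Agent.Lib.Lie.HJType.FiveNormalizer

/-!
Groups of Hall–Janko type: an element of order five inverted by the central involution and commuting with an
element of order three fixed by it has its centraliser complemented by an alternating group fixed by the involution.
-/

set_option autoImplicit false
set_option maxRecDepth 100000
set_option linter.unusedSectionVars false
set_option linter.style.haveILetI false

namespace Cfsg.Agent.Spor.CoAmal.Hall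

open Cfsg.Agent.Lie Cfsg.Agent.Lie.HJType Equiv

local notation "A5" => alternatingGroup (Fin 5)

/-- a three-cycle -/
def y0 : A5 := ⟨swap 0 1 * swap 1 2, Perm.mem_alternatingGroup.2 (by decide +kernel)⟩

/-- an involution -/
def t0 : A5 := ⟨swap 1 3 * swap 2 4, Perm.mem_alternatingGroup.2 (by decide +kernel)⟩

/-- the words -/
def wordsA : List (List Bool) :=
  ([[], [0], [1], [0, 0], [0, 1], [1, 0], [0, 0, 1], [0, 1, 0], [1, 0, 0], [1, 0, 1], [0, 0, 1, 0], [0, 1, 0, 0],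
    [0, 1, 0, 1], [1, 0, 0, 1], [1, 0, 1, 0], [0, 0, 1, 0, 0], [0, 0, 1, 0, 1], [0, 1, 0, 0, 1], [0, 1, 0, 1, 0],
    [1, 0, 0, 1, 0], [1, 0, 1, 0, 0], [1, 0, 1, 0, 1], [0, 0, 1, 0, 0, 1], [0, 0, 1, 0, 1, 0], [0, 1, 0, 0, 1, 0],
    [0, 1, 0, 1, 0, 0], [0, 1, 0, 1, 0, 1], [1, 0, 0, 1, 0, 1], [1, 0, 1, 0, 0, 1], [0, 0, 1, 0, 0, 1, 0],
    [0, 0, 1, 0, 1, 0, 0], [0, 0, 1, 0, 1, 0, 1], [0, 1, 0, 0, 1, 0, 1], [0, 1, 0, 1, 0, 0, 1],
    [1, 0, 0, 1, 0, 1, 0], [1, 0, 1, 0, 0, 1, 0], [0, 0, 1, 0, 0, 1, 0, 1], [0, 0, 1, 0, 1, 0, 0, 1],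
    [0, 1, 0, 0, 1, 0, 1, 0], [0, 1, 0, 1, 0, 0, 1, 0], [1, 0, 0, 1, 0, 1, 0, 0], [1, 0, 0, 1, 0, 1, 0, 1],
    [1, 0, 1, 0, 0, 1, 0, 1], [0, 0, 1, 0, 0, 1, 0, 1, 0], [0, 0, 1, 0, 1, 0, 0, 1, 0], [0, 1, 0, 0, 1, 0, 1, 0, 0],
    [0, 1, 0, 0, 1, 0, 1, 0, 1], [0, 1, 0, 1, 0, 0, 1, 0, 1], [1, 0, 0, 1, 0, 1, 0, 0, 1],
    [1, 0, 1, 0, 0, 1, 0, 1, 0], [0, 0, 1, 0, 0, 1, 0, 1, 0, 0], [0, 0, 1, 0, 0, 1, 0, 1, 0, 1],
    [0, 0, 1, 0, 1, 0, 0, 1, 0, 1], [0, 1, 0, 0, 1, 0, 1, 0, 0, 1], [1, 0, 0, 1, 0, 1, 0, 0, 1, 0],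
    [1, 0, 1, 0, 0, 1, 0, 1, 0, 0], [0, 1, 0, 0, 1, 0, 1, 0, 0, 1, 0], [1, 0, 0, 1, 0, 1, 0, 0, 1, 0, 1],
    [1, 0, 1, 0, 0, 1, 0, 1, 0, 0, 1], [0, 1, 0, 0, 1, 0, 1, 0, 0, 1, 0, 1]] : List (List ℕ)).map
    fun w => w.map fun i => Nat.beq i 1

theorem words_all : ∀ σ : A5, ∃ w ∈ wordsA, (w.map fun b => cond b t0 y0).prod = σ := by decide +kernel

theorem y0_facts : y0 ^ 3 = 1 ∧ y0 ≠ 1 ∧ t0 * t0 = 1 ∧ t0 ≠ 1 ∧ (t0 * y0) ^ 5 = 1 ∧ t0 * y0 ≠ 1 ∧
    y0 * y0 * t0 * (y0 * y0)⁻¹ ≠ t0 ∧ y0 * y0 * (y0 * y0) * t0 * (y0 * y0 * (y0 * y0))⁻¹ ≠ t0 := by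
  decide +kernel

theorem t_cases : ∀ t : A5, t * t = 1 → (t * y0) ^ 5 = 1 →
    t = 1 ∨ t = t0 ∨ t = y0 * t0 * y0⁻¹ ∨ t = y0 * y0 * t0 * (y0 * y0)⁻¹ ∨
      ∃ a : A5, a * (t * y0) * a⁻¹ = (t0 * y0) ^ 2 ∨ a * (t * y0) * a⁻¹ = (t0 * y0) ^ 3 := by decide +kernel

theorem to_y0 : ∀ g : A5, g ^ 3 = 1 → g ≠ 1 → ∃ s : A5, s * g * s⁻¹ = y0 := by decide +kernel

universe u

variable {W : Type u} [Group W] [Finite W] {z : W} {E : Subgroup W}

/-- an element normalising the abelian group of order twenty-five cannot act with the two eigenvalues -/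
theorem no_outer (h : Hyp z E) {r k n : W} (ho : orderOf r = 5) (hk : k ^ 5 = 1) (hkr : Commute k r)
    (hkn : k ∉ Subgroup.zpowers r) (hnr : n * r * n⁻¹ = r⁻¹) {i : ℤ} (hnk : n * k * n⁻¹ = k ^ 2 * r ^ i) : False := by
  haveI : Fact (Nat.Prime 5) := ⟨by norm_num⟩
  have hr5 : r ^ (5 : ℤ) = 1 := by
    rw [show (5 : ℤ) = ((5 : ℕ) : ℤ) from rfl, zpow_natCast, ← ho, pow_orderOf_eq_one]
  have hr5n : r ^ 5 = 1 := by rw [← ho, pow_orderOf_eq_one]
  have hkr' : ∀ a b : ℤ, Commute (k ^ a) (r ^ b) := fun a b => (hkr.zpow_left a).zpow_right b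
  let H : Subgroup W :=
    { carrier := {x | ∃ a b : ℤ, x = r ^ a * k ^ b}
      one_mem' := ⟨0, 0, by simp⟩
      mul_mem' := by
        rintro _ _ ⟨a, b, rfl⟩ ⟨c, d, rfl⟩
        exact ⟨a + c, b + d, by rw [(hkr' b c).mul_mul_mul_comm, ← zpow_add, ← zpow_add]⟩
      inv_mem' := by
        rintro _ ⟨a, b, rfl⟩
        exact ⟨-a, -b, by rw [mul_inv_rev, ← zpow_neg, ← zpow_neg, (hkr' _ _).eq]⟩ }
  have hrH : r ∈ H := ⟨1, 0, by simp⟩
  have hkH : k ∈ H := ⟨0, 1, by simp⟩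
  have hH : IsPGroup 5 H := fun x => ⟨1, by
    obtain ⟨a, b, hab⟩ := x.2
    refine Subtype.ext ?_
    rw [Subgroup.coe_pow, hab, pow_one, (hkr' b a).symm.mul_pow, ← zpow_natCast, ← zpow_natCast, ← zpow_mul,
      ← zpow_mul, mul_comm a, mul_comm b, zpow_mul, zpow_mul, zpow_natCast k 5, hk]
    simp [hr5n]⟩
  obtain ⟨P, hP⟩ := hH.exists_le_sylow
  have h25 : Nat.card P = 25 := card_five_part h P
  have hHP : H = P := by
    refine Subgroup.eq_of_le_of_card_ge hP ?_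
    have hd := Subgroup.card_dvd_of_le hP
    rw [show Nat.card (P : Subgroup W) = 5 ^ 2 from h25] at hd ⊢
    obtain ⟨j, hj, e⟩ := (Nat.dvd_prime_pow (by norm_num)).1 hd
    rw [e]
    refine Nat.pow_le_pow_right (by norm_num) ?_
    by_contra hlt
    refine hkn ?_
    have hle : Subgroup.zpowers r ≤ H := Subgroup.zpowers_le.2 hrH
    rw [Subgroup.eq_of_le_of_card_ge hle (by
      rw [e, Nat.card_zpowers, ho]
      calc 5 ^ j ≤ 5 ^ 1 := Nat.pow_le_pow_right (by norm_num) (by omega)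
        _ = 5 := pow_one 5)]
    exact hkH
  set u := k * r ^ (2 * i) with hu
  have huP : u ∈ (P : Subgroup W) := hP (mul_mem hkH (H.zpow_mem hrH _))
  have hne : u ≠ 1 := fun e => hkn (by
    rw [eq_inv_of_mul_eq_one_left e]
    exact inv_mem (Subgroup.zpow_mem_zpowers r _))
  have hu5 : orderOf u = 5 := orderOf_eq_prime (by
    rw [hu, (hkr.zpow_right _).mul_pow, hk, one_mul, ← zpow_natCast, ← zpow_mul, mul_comm (2 * i), zpow_mul]
    simp [hr5n]) hne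
  have hnr' : ∀ b : ℤ, n * r ^ b * n⁻¹ = r ^ (-b) := fun b => by
    rw [← conj_zpow, hnr, inv_zpow, zpow_neg]
  refine not_conj_sq h P huP (five_cases h hu5) (n := n) ?_ ?_
  · rw [Subgroup.mem_normalizer_iff_map_conj_eq]
    refine Subgroup.eq_of_le_of_card_ge ?_ (by
      rw [Subgroup.card_map_of_injective (MulAut.conj n).injective])
    rw [← hHP]
    rintro _ ⟨x, ⟨a, b, rfl⟩, rfl⟩
    show n * (r ^ a * k ^ b) * n⁻¹ ∈ H
    rw [← conj_mul, hnr', ← conj_zpow, hnk]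
    exact mul_mem (H.zpow_mem hrH _) (H.zpow_mem (mul_mem (H.pow_mem hkH 2) (H.zpow_mem hrH i)) b)
  · rw [hu, ← conj_mul, hnk, hnr', (hkr.zpow_right _).mul_pow, ← zpow_natCast (r ^ (2 * i)) 2, ← zpow_mul,
      mul_assoc, ← zpow_add]
    refine congrArg (k ^ 2 * ·) ?_
    rw [show 2 * i * ((2 : ℕ) : ℤ) = i + -(2 * i) + 5 * i by push_cast; ring, zpow_add _ (i + -(2 * i)),
      zpow_mul r 5 i, hr5, one_zpow, mul_one]

/-- the complement in the centraliser -/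
theorem exists_a5 (h : Hyp z E) {r y : W} (ho : orderOf r = 5) (hrz : z * r * z⁻¹ = r⁻¹) (hy : orderOf y = 3)
    (hyz : Commute y z) (hyr : Commute y r) :
    ∃ χ : A5 →* W, Function.Injective χ ∧ (∀ σ, Commute (χ σ) z ∧ Commute (χ σ) r) ∧ χ y0 = y := by
  classical
  haveI : Fact (Nat.Prime 5) := ⟨by norm_num⟩
  have hr5n : r ^ 5 = 1 := by rw [← ho, pow_orderOf_eq_one]
  have hzz : z * z = 1 := h.S.xt.sq
  have hr5 : r ^ (5 : ℤ) = 1 := by
    rw [show (5 : ℤ) = ((5 : ℕ) : ℤ) from rfl, zpow_natCast, ← ho, pow_orderOf_eq_one]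
  set C := Subgroup.centralizer ({r} : Set W) with hC
  have hd : DType z r := (five_cases h ho).resolve_right fun hk => by
    have h3 := Subgroup.orderOf_dvd_natCard C (Subgroup.mem_centralizer_singleton_iff.2 hyr.eq)
    rw [hy, card_cent_k h hk] at h3
    norm_num at h3
  obtain ⟨-, ρ₀, hρs₀, hρ₀, -⟩ := five_big h hd
  set cy : C := ⟨y, Subgroup.mem_centralizer_singleton_iff.2 hyr.eq⟩ with hcy
  have hy3 : ρ₀ cy ^ 3 = 1 := by
    rw [← map_pow, show cy ^ 3 = 1 from Subtype.ext (by rw [Subgroup.coe_pow]; show y ^ 3 = 1; rw [← hy, pow_orderOf_eq_one]),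
      map_one]
  have hy1 : ρ₀ cy ≠ 1 := fun e => by
    have h5 := orderOf_dvd_of_mem_zpowers ((hρ₀ cy).1 e)
    rw [show ((cy : C) : W) = y from rfl, hy, ho] at h5
    norm_num at h5
  obtain ⟨s, hs⟩ := to_y0 _ hy3 hy1
  set ρ : C →* A5 := (MulAut.conj s).toMonoidHom.comp ρ₀ with hρd
  have hρs : Function.Surjective ρ := (MulAut.conj s).surjective.comp hρs₀
  have hρ : ∀ x, ρ x = 1 ↔ (x : W) ∈ Subgroup.zpowers r := fun x => by
    rw [← hρ₀]
    exact MulEquiv.map_eq_one_iff (MulAut.conj s)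
  have hρy : ρ cy = y0 := hs
  -- conjugation by the involution
  have hzC : ∀ c : C, z * (c : W) * z⁻¹ ∈ C := fun c => by
    refine Subgroup.mem_centralizer_singleton_iff.2 ?_
    have h2 := ((Commute.conj_iff z).2 (show Commute (c : W) r from Subgroup.mem_centralizer_singleton_iff.1 c.2))
    rw [hrz] at h2
    exact (Commute.inv_right_iff.1 h2).eq
  let cz : C →* C :=
    { toFun := fun c => ⟨_, hzC c⟩
      map_one' := Subtype.ext (show z * 1 * z⁻¹ = (1 : W) by group)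
      map_mul' := fun a b => Subtype.ext
        (show z * ((a : W) * b) * z⁻¹ = z * (a : W) * z⁻¹ * (z * (b : W) * z⁻¹) by group) }
  have hczz : ∀ c, cz (cz c) = c := fun c => Subtype.ext (by
    show z * (z * (c : W) * z⁻¹) * z⁻¹ = c
    rw [show z * (z * (c : W) * z⁻¹) * z⁻¹ = z * z * (c : W) * (z * z)⁻¹ by group, hzz]
    group)
  have hzr : ∀ b : ℤ, z * r ^ b * z⁻¹ = r ^ (-b) := fun b => by rw [← conj_zpow, hrz, inv_zpow, zpow_neg]
  have hker : ρ.ker ≤ (ρ.comp cz).ker := fun c hc => by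
    obtain ⟨b, hb⟩ := Subgroup.mem_zpowers_iff.1 ((hρ c).1 hc)
    refine (hρ _).2 ?_
    show z * (c : W) * z⁻¹ ∈ _
    rw [← hb, hzr]
    exact Subgroup.zpow_mem_zpowers r _
  let θ : A5 →* A5 := ρ.liftOfSurjective hρs ⟨ρ.comp cz, hker⟩
  have hθ : ∀ c, θ (ρ c) = ρ (cz c) := fun c => MonoidHom.liftOfRightInverse_comp_apply _ _ _ _ c
  have hθθ : ∀ σ, θ (θ σ) = σ := fun σ => by
    obtain ⟨c, rfl⟩ := hρs σ
    rw [hθ, hθ, hczz]
  have hθy : θ y0 = y0 := by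
    rw [← hρy, hθ]
    exact congrArg ρ (Subtype.ext (by show z * y * z⁻¹ = y; rw [← hyz.eq, mul_inv_cancel_right]))
  obtain ⟨f1, f2, f3, f4, f5, f6, f7, f8⟩ := y0_facts
  have ht : θ t0 = t0 := by
    rcases t_cases (θ t0) (by rw [← map_mul, f3, map_one])
      (by rw [← hθy, ← map_mul, ← map_pow, f5, map_one]) with e | e | e | e | ⟨a, e⟩
    · exfalso
      have := hθθ t0
      rw [e, map_one] at this
      exact f4 this.symm
    · exact e
    · exfalso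
      have := hθθ t0
      rw [e, map_mul, map_mul, map_inv, hθy, e] at this
      refine f7 ?_
      rw [show y0 * y0 * t0 * (y0 * y0)⁻¹ = y0 * (y0 * t0 * y0⁻¹) * y0⁻¹ by group]
      exact this
    · exfalso
      have := hθθ t0
      rw [e, map_mul, map_mul, map_inv, map_mul, hθy, e] at this
      refine f8 ?_
      rw [show y0 * y0 * (y0 * y0) * t0 * (y0 * y0 * (y0 * y0))⁻¹ =
        y0 * y0 * (y0 * y0 * t0 * (y0 * y0)⁻¹) * (y0 * y0)⁻¹ by group]
      exact this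
    · exfalso
      obtain ⟨ca, hca⟩ := hρs a
      obtain ⟨k, hk⟩ := hρs (t0 * y0)
      set n : W := (ca : W) * z with hn
      have hcar : Commute (ca : W) r := Subgroup.mem_centralizer_singleton_iff.1 ca.2
      have hnr : n * r * n⁻¹ = r⁻¹ := by
        rw [show n * r * n⁻¹ = (ca : W) * (z * r * z⁻¹) * (ca : W)⁻¹ by rw [hn]; group, hrz, hcar.inv_right.eq,
          mul_inv_cancel_right]
      have hnr' : ∀ b : ℤ, n * r ^ b * n⁻¹ = r ^ (-b) := fun b => by rw [← conj_zpow, hnr, inv_zpow, zpow_neg]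
      have hkr : Commute (k : W) r := Subgroup.mem_centralizer_singleton_iff.1 k.2
      have himg : ρ (ca * cz k * ca⁻¹) = a * (θ t0 * y0) * a⁻¹ := by
        rw [map_mul, map_mul, map_inv, hca, ← hθ, hk, map_mul, hθy]
      have hkn : (k : W) ∉ Subgroup.zpowers r := fun hm => f6 (by rw [← hk]; exact (hρ k).2 hm)
      obtain ⟨ex, hex, he⟩ : ∃ ex : ℕ, (ex = 2 ∨ ex = 3) ∧ ∃ i : ℤ, n * (k : W) * n⁻¹ = (k : W) ^ ex * r ^ i := by
        have key : ∀ ex : ℕ, a * (θ t0 * y0) * a⁻¹ = (t0 * y0) ^ ex →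
            ∃ i : ℤ, n * (k : W) * n⁻¹ = (k : W) ^ ex * r ^ i := fun ex he => by
          obtain ⟨i, hi⟩ := Subgroup.mem_zpowers_iff.1 ((hρ ((k ^ ex)⁻¹ * (ca * cz k * ca⁻¹))).1 (by
            rw [map_mul, map_inv, map_pow, himg, hk, he, inv_mul_cancel]))
          refine ⟨i, ?_⟩
          rw [show r ^ i = (((k ^ ex)⁻¹ * (ca * cz k * ca⁻¹) : C) : W) from hi]
          show n * (k : W) * n⁻¹ = (k : W) ^ ex * (((k : W) ^ ex)⁻¹ * ((ca : W) * (z * k * z⁻¹) * (ca : W)⁻¹))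
          rw [hn]; group
        rcases e with e | e
        · exact ⟨2, Or.inl rfl, key 2 e⟩
        · exact ⟨3, Or.inr rfl, key 3 e⟩
      obtain ⟨i, hi⟩ := he
      have hk5 : (k : W) ^ 5 = 1 := by
        obtain ⟨l, hl⟩ := Subgroup.mem_zpowers_iff.1 ((hρ (k ^ 5)).1 (by rw [map_pow, hk, f5]))
        rw [Subgroup.coe_pow] at hl
        have e1 : n * (k : W) ^ 5 * n⁻¹ = r ^ (l * ex) := by
          rw [← conj_pow, hi, ((hkr.pow_left ex).zpow_right i).mul_pow, ← pow_mul, mul_comm ex, pow_mul, ← hl,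
            ← zpow_natCast (r ^ i) 5, ← zpow_natCast (r ^ l) ex, ← zpow_mul, ← zpow_mul, mul_comm i, zpow_mul r _ i]
          simp [hr5n]
        rw [← hl, hnr'] at e1
        rw [← hl]
        have hz0 : r ^ (l * (ex + 1)) = 1 := by
          rw [mul_add, mul_one, zpow_add, ← e1, zpow_neg, inv_mul_cancel]
        have hdvd : (5 : ℤ) ∣ l * (ex + 1) := by
          have := orderOf_dvd_iff_zpow_eq_one.2 hz0
          rwa [ho] at this
        have : (5 : ℤ) ∣ l := by rcases hex with rfl | rfl <;> omega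
        obtain ⟨q, rfl⟩ := this
        rw [zpow_mul, hr5, one_zpow]
      rcases hex with rfl | rfl
      · exact no_outer h ho hk5 hkr hkn hnr hi
      · -- use the inverse
        refine no_outer h ho hk5 hkr hkn (n := n⁻¹) (i := 2 * i) ?_ ?_
        · rw [inv_inv]
          calc n⁻¹ * r * n = n⁻¹ * (n * r⁻¹ * n⁻¹) * n := by
                rw [show n * r⁻¹ * n⁻¹ = r by simpa using hnr' (-1)]
            _ = r⁻¹ := by group
        · have e2 : n * (k : W) ^ 2 * n⁻¹ = (k : W) * r ^ (2 * i) := by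
            rw [← conj_pow, hi, ((hkr.pow_left 3).zpow_right i).mul_pow, ← pow_mul,
              show (k : W) ^ (3 * 2) = k by rw [show 3 * 2 = 5 + 1 from rfl, pow_succ, hk5, one_mul],
              ← zpow_natCast (r ^ i) 2, ← zpow_mul, mul_comm i]
            rfl
          rw [inv_inv]
          have e3 : n * ((k : W) ^ 2 * r ^ (2 * i)) * n⁻¹ = k := by
            rw [← conj_mul, e2, hnr', mul_assoc, ← zpow_add, add_neg_cancel, zpow_zero, mul_one]
          nth_rw 1 [← e3]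
          group
  have hfix : ∀ σ, θ σ = σ := fun σ => by
    obtain ⟨w, -, rfl⟩ := words_all σ
    rw [map_list_prod, List.map_map]
    refine congrArg List.prod (List.map_congr_left fun b _ => ?_)
    cases b
    · exact hθy
    · exact ht
  set X := C ⊓ Subgroup.centralizer ({z} : Set W) with hX
  let f : X →* A5 := ρ.comp (Subgroup.inclusion inf_le_left)
  have hf : Function.Bijective f := by
    refine ⟨(injective_iff_map_eq_one f).2 fun x hx => Subtype.ext ?_, fun σ => ?_⟩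
    · obtain ⟨b, hb⟩ := Subgroup.mem_zpowers_iff.1 ((hρ _).1 hx)
      change r ^ b = (x : W) at hb
      have hc : Commute (x : W) z := Subgroup.mem_centralizer_singleton_iff.1 x.2.2
      rw [← hb] at hc
      have e := hzr b
      rw [← hc.eq, mul_inv_cancel_right] at e
      have hd5 := orderOf_dvd_iff_zpow_eq_one.2 (show r ^ (b + b) = 1 by
        rw [zpow_add]
        nth_rw 1 [e]
        rw [← zpow_add, neg_add_cancel, zpow_zero])
      rw [ho] at hd5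
      obtain ⟨q, hq⟩ : (5 : ℤ) ∣ b := by omega
      show (x : W) = 1
      rw [← hb, hq, zpow_mul, hr5, one_zpow]
    · obtain ⟨c, rfl⟩ := hρs σ
      obtain ⟨i, hi⟩ := Subgroup.mem_zpowers_iff.1 ((hρ (c⁻¹ * cz c)).1 (by
        rw [map_mul, map_inv, ← hθ, hfix, inv_mul_cancel]))
      have hi' : z * (c : W) * z⁻¹ = c * r ^ i := by
        rw [show r ^ i = (c : W)⁻¹ * (z * c * z⁻¹) from hi]; group
      have hm : (c : W) * r ^ (3 * i) ∈ C := mul_mem c.2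
        (C.zpow_mem (Subgroup.mem_centralizer_singleton_iff.2 rfl) _)
      refine ⟨⟨(c : W) * r ^ (3 * i), hm, Subgroup.mem_centralizer_singleton_iff.2 ?_⟩, ?_⟩
      · have e : z * ((c : W) * r ^ (3 * i)) * z⁻¹ = c * r ^ (3 * i) := by
          rw [← conj_mul, hi', hzr, mul_assoc, ← zpow_add,
            show i + -(3 * i) = 3 * i + 5 * (-i) by ring, zpow_add, zpow_mul r 5, hr5, one_zpow, mul_one]
        exact (mul_inv_eq_iff_eq_mul.1 e).symm
      · show ρ ⟨_, hm⟩ = ρ c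
        rw [show (⟨_, hm⟩ : C) = c * ⟨r ^ (3 * i), C.zpow_mem (Subgroup.mem_centralizer_singleton_iff.2 rfl) _⟩
          from rfl, map_mul, (hρ ⟨_, _⟩).2 (Subgroup.zpow_mem_zpowers r _), mul_one]
  let e := MulEquiv.ofBijective f hf
  refine ⟨X.subtype.comp e.symm.toMonoidHom, X.subtype_injective.comp e.symm.injective,
    fun σ => ⟨Subgroup.mem_centralizer_singleton_iff.1 (e.symm σ).2.2,
      Subgroup.mem_centralizer_singleton_iff.1 (e.symm σ).2.1⟩, ?_⟩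
  have hyX : y ∈ X := ⟨cy.2, Subgroup.mem_centralizer_singleton_iff.2 hyz.eq⟩
  have : e.symm y0 = ⟨y, hyX⟩ := e.symm_apply_eq.2 (hρy.symm.trans (congrArg ρ (Subtype.ext rfl)))
  exact congrArg Subtype.val this

end Cfsg.Agent.Spor.CoAmal.Hall
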