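import Cfsg.Agent.Lib.Spor.CoAmal.Co1Top
import Cfsg.Agent.Lib.Spor.CoAmal.Cert.Main

/-!
The group of the eight involutions in a group of Conway type is the first Conway group.
-/

set_option autoImplicit false
set_option maxRecDepth 100000
set_option linter.style.haveILetI false

namespace Cfsg.Agent.Spor.CoAmal

open Cfsg.Agent.Spor.CC Cfsg.Agent.Spor.Co1Invol

universe u

theorem wp_pair {A B : Type*} [Group A] [Group B] (a : ℕ → A) (b : ℕ → B) :
    ∀ r : List ℕ, wp (fun x => (a x, b x)) r = (wp a r, wp b r)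
  | [] => rfl
  | x :: r => by
    have h := wp_pair a b r
    rw [wp, wp, wp] at h ⊢
    rw [List.map_cons, List.map_cons, List.map_cons, List.prod_cons, List.prod_cons, List.prod_cons, h]
    rfl

theorem rels_pair {A B : Type*} [Group A] [Group B] {a : ℕ → A} {b : ℕ → B} (ha : Rels8 a) (hb : Rels8 b) :
    Rels8 (fun x => (a x, b x)) where
  sq x := Prod.ext (ha.sq x) (hb.sq x)
  relK r hr := by rw [wp_pair, ha.relK r hr, hb.relK r hr]; rfl
  comm x hx := Prod.ext (ha.comm x hx).eq (hb.comm x hx).eq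
  relS r hr := by rw [wp_pair, ha.relS r hr, hb.relS r hr]; rfl

variable {G : Type u} [Group G] [Finite G] {z : G} {Q : Subgroup G}

/-- the first Conway group maps onto the group of the eight involutions -/
theorem exists_hom (S : Setting z Q) :
    ∃ φ : Cfsg.Spor.Co1 →* G, Function.Injective φ ∧ φ.range = S.H ∧ φ zC = z := by
  haveI := finite_co1
  obtain ⟨S1⟩ := exists_setting hyp_std
  set p : ℕ → Cfsg.Spor.Co1 × G := fun x => (S1.m x, S.m x) with hp
  set K := Subgroup.closure (p '' {x | x < 8}) with hK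
  obtain ⟨hfin, hcard⟩ := finite_bound (rels_pair S1.rels S.rels)
  let f : K →* Cfsg.Spor.Co1 := (MonoidHom.fst _ _).comp K.subtype
  have hsurj : Function.Surjective f := by
    intro x
    have e : K.map (MonoidHom.fst _ _) = ⊤ := by
      rw [hK, MonoidHom.map_closure, Set.image_image]; exact setting_top S1
    obtain ⟨k, hk, e'⟩ := e.symm ▸ Subgroup.mem_top x
    exact ⟨⟨k, hk⟩, e'⟩
  have hN : Nat.card Cfsg.Spor.Co1 = 4157776806543360000 := card_co1
  have hbij : Function.Bijective f := (Nat.bijective_iff_surjective_and_card f).2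
    ⟨hsurj, le_antisymm (by rw [hN]; exact hcard) (Nat.card_le_card_of_surjective f hsurj)⟩
  let e := MulEquiv.ofBijective f hbij
  let φ : Cfsg.Spor.Co1 →* G := ((MonoidHom.snd _ _).comp K.subtype).comp e.symm.toMonoidHom
  have hφ : ∀ k : K, φ (f k) = (k : Cfsg.Spor.Co1 × G).2 := fun k => by
    show ((e.symm (e k) : K) : Cfsg.Spor.Co1 × G).2 = _
    rw [e.symm_apply_apply]
  have h0 : φ zC = z := by
    have hk : (zC, z) ∈ K := Subgroup.subset_closure ⟨0, by norm_num, Prod.ext S1.m0 S.m0⟩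
    exact hφ ⟨_, hk⟩
  have hrange : φ.range = S.H := by
    refine le_antisymm ?_ ?_
    · rintro _ ⟨x, rfl⟩
      obtain ⟨k, rfl⟩ := hsurj x
      rw [hφ, Setting.H]
      have := Subgroup.mem_map_of_mem (MonoidHom.snd Cfsg.Spor.Co1 G) k.2
      have e : K.map (MonoidHom.snd Cfsg.Spor.Co1 G) = Subgroup.closure (S.m '' {x | x < 8}) := by
        rw [hK, MonoidHom.map_closure, Set.image_image]; rfl
      exact e ▸ this
    · refine (Subgroup.closure_le _).2 ?_
      rintro _ ⟨x, hx, rfl⟩
      exact ⟨_, hφ ⟨p x, Subgroup.subset_closure ⟨x, hx, rfl⟩⟩⟩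
  refine ⟨φ, ?_, hrange, h0⟩
  haveI : IsSimpleGroup Cfsg.Spor.Co1 := simple_co1
  rw [← MonoidHom.ker_eq_bot_iff]
  refine (IsSimpleGroup.eq_bot_or_eq_top_of_normal φ.ker inferInstance).resolve_right fun e' => CoT.z_ne S.K.h ?_
  rw [← h0]
  exact MonoidHom.mem_ker.1 (e' ▸ Subgroup.mem_top _)

end Cfsg.Agent.Spor.CoAmal
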