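import Cfsg.Agent.Lib.Spor.CoAmal.Classes

/-!
The centraliser of the dodecad involution consists of monomial elements.
-/

set_option autoImplicit false
set_option maxRecDepth 100000
set_option linter.style.haveILetI false

namespace Cfsg.Agent.Spor.CoAmal

open Cfsg Cfsg.Agent.Spor Cfsg.Agent.Spor.Co1Invol
open scoped Pointwise

local notation "Zv" => GolayPt → ℤ
set_option quotPrecheck false in
local notation "Lv" => ↥leechLattice

/-- the word of the dodecad -/
abbrev dW : GolayPt → ZMod 2 := ofMaskW baseDod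

/-- supported on one side of the dodecad -/
def OnSide (b : ZMod 2) (x : Zv) : Prop := ∀ p, dW p ≠ b → x p = 0

theorem code_facts : (∀ m ∈ codeMasks, inCode m = true) ∧
    (∀ m ∈ codeMasks, m &&& baseDod = m → m = 0 ∨ m = baseDod) ∧
    (∀ m ∈ codeMasks, m &&& (baseDod ^^^ 16777215) = m → m = 0 ∨ m = baseDod ^^^ 16777215) := by
  decide +kernel

theorem side_facts : ((Finset.univ.filter fun p => dW p = 0).card = 12 ∧
    (Finset.univ.filter fun p => dW p = 1).card = 12) ∧
    (∀ b : ZMod 2, ∀ p, dW p = b → ∃ q, q ≠ p ∧ dW q = b) ∧ (∀ b : ZMod 2, ∃ q, dW q ≠ b) ∧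
    (∀ p, dW p = 0 ↔ Nat.testBit (baseDod ^^^ 16777215) (idx p) = true) := by decide +kernel

theorem side_word {w : GolayPt → ZMod 2} (hw : w ∈ golayCode) {b : ZMod 2} (h : ∀ p, dW p ≠ b → w p = 0) :
    (∀ p, w p = 0) ∨ ∀ p, dW p = b → w p = 1 := by
  have hb : (b = 1 ∧ ∀ p, dW p = b ↔ Nat.testBit baseDod (idx p) = true) ∨
      (b = 0 ∧ ∀ p, dW p = b ↔ Nat.testBit (baseDod ^^^ 16777215) (idx p) = true) := by
    rcases (show ∀ t : ZMod 2, t = 1 ∨ t = 0 by decide) b with rfl | rfl
    · exact Or.inl ⟨rfl, fun p => by simp [ofMaskW]⟩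
    · exact Or.inr ⟨rfl, side_facts.2.2.2⟩
  have main : ∀ M : ℕ, M < 2 ^ 24 → (∀ p, dW p = b ↔ Nat.testBit M (idx p) = true) →
      (∀ m ∈ codeMasks, m &&& M = m → m = 0 ∨ m = M) → (∀ p, w p = 0) ∨ ∀ p, dW p = b → w p = 1 := by
    intro M hM hiff hwords
    have hsub : wmask w &&& M = wmask w := by
      have hs : support₂ w ∩ ofMask M = support₂ w := Finset.inter_eq_left.2 fun p hp => by
        rw [mem_ofMask, ← hiff]
        by_contra hne
        exact mem_support₂.1 hp (h p hne)
      have e := mask_inter (support₂ w) (ofMask M)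
      rw [hs, mask_ofMask hM] at e
      exact e.symm
    have hw' : w = ofMaskW (wmask w) :=
      support₂_injective (by rw [support₂_ofMaskW, wmask, ofMask_mask])
    rcases hwords _ (mem_code.1 hw) hsub with e | e <;> rw [hw', e]
    · left; intro p; simp [ofMaskW]
    · right; intro p hp; simp [ofMaskW, (hiff p).1 hp]
  rcases hb with ⟨-, h1⟩ | ⟨-, h1⟩
  · exact main baseDod baseDod_lt h1 code_facts.2.1
  · exact main _ (Nat.xor_lt_two_pow baseDod_lt (by norm_num)) h1 code_facts.2.2

theorem norm_sum (x : Zv) : sqNorm x = ∑ p, x p * x p := by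
  simp [sqNorm, pow_two]

theorem root_four {x : Zv} (hx : x ∈ leechLattice) {b : ZMod 2} (hs : OnSide b x) (hn : sqNorm x = 32) :
    ∀ p, x p % 4 = 0 := by
  obtain ⟨m, h2, -, hd⟩ := mem_leech.1 hx
  obtain ⟨q, hq⟩ := side_facts.2.2.1 b
  have hm : m % 2 = 0 := by have := h2 q; rw [hs q hq] at this; omega
  have hev : ∀ p, x p % 2 = 0 := fun p => by rw [h2 p]; exact hm
  rcases side_word hd (b := b) (fun p hp => by simp [digit, hs p hp]) with h | h
  · intro p
    have h0 := h p
    rw [digit, ZMod.intCast_zmod_eq_zero_iff_dvd] at h0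
    push_cast at h0
    have := hev p
    omega
  · exfalso
    have hb : ∀ p, dW p = b → 4 ≤ x p * x p := fun p hp => by
      have h1 := h p hp
      rw [digit, ← Int.cast_one, ZMod.intCast_eq_intCast_iff'] at h1
      push_cast at h1
      have := hev p
      have hne : x p ≠ 0 := fun e => by rw [e] at h1; norm_num at h1
      rcases lt_or_gt_of_ne hne with h' | h'
      · have : x p ≤ -2 := by omega
        nlinarith
      · have : 2 ≤ x p := by omega
        nlinarith
    have hc : (Finset.univ.filter fun p => dW p = b).card = 12 := by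
      rcases (show ∀ t : ZMod 2, t = 0 ∨ t = 1 by decide) b with rfl | rfl
      exacts [side_facts.1.1, side_facts.1.2]
    have h48 : (48 : ℤ) ≤ ∑ p ∈ Finset.univ.filter (fun p => dW p = b), x p * x p := by
      have := Finset.card_nsmul_le_sum (Finset.univ.filter fun p => dW p = b) (fun p => x p * x p) 4
        (fun p hp => hb p (Finset.mem_filter.1 hp).2)
      rw [hc] at this
      simpa using this
    have hle : ∑ p ∈ Finset.univ.filter (fun p => dW p = b), x p * x p ≤ ∑ p, x p * x p :=
      Finset.sum_le_sum_of_subset_of_nonneg (Finset.filter_subset _ _) fun p _ _ => mul_self_nonneg _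
    rw [← norm_sum, hn] at hle
    omega

theorem pair_root {i j : GolayPt} (hij : i ≠ j) (s : ℤ) (hs : s = 4 ∨ s = -4) :
    (Pi.single i 4 + Pi.single j s : Zv) ∈ leechLattice ∧ sqNorm (Pi.single i 4 + Pi.single j s : Zv) = 32 := by
  have hval : ∀ p, (Pi.single i 4 + Pi.single j s : Zv) p % 4 = 0 := fun p => by
    by_cases h1 : p = i <;> by_cases h2 : p = j <;> rcases hs with rfl | rfl <;> simp [Pi.single_apply, h1, h2, hij]
  have hd : digit (Pi.single i 4 + Pi.single j s : Zv) = 0 := funext fun p => by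
    have := hval p
    rw [digit, Pi.zero_apply, ZMod.intCast_zmod_eq_zero_iff_dvd]
    push_cast
    omega
  refine ⟨mem_leech.2 ⟨0, fun p => by have := hval p; omega, ?_, hd ▸ zero_mem golayCode⟩, ?_⟩
  · rw [show ∑ p, (Pi.single i 4 + Pi.single j s : Zv) p = 4 + s by simp [Finset.sum_add_distrib]]
    rcases hs with rfl | rfl <;> norm_num
  · rw [sqNorm_add]
    rcases hs with rfl | rfl <;> simp [sqNorm, dotInt, Pi.single_apply, hij, Ne.symm hij]

theorem one_entry {x : Zv} {b : ZMod 2} (hs : OnSide b x) (hn : sqNorm x = 64)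
    (hd : ∀ z ∈ leechLattice, OnSide b z → sqNorm z = 32 → dotInt x z % 32 = 0) : x ∈ stdCross := by
  have hpair : ∀ i j, i ≠ j → dW i = b → dW j = b → (x i + x j) % 8 = 0 ∧ (x i - x j) % 8 = 0 := by
    intro i j hij hi hj
    have key : ∀ s : ℤ, (s = 4 ∨ s = -4) → (4 * x i + s * x j) % 32 = 0 := fun s h4 => by
      obtain ⟨h1, h2⟩ := pair_root hij s h4
      have hside : OnSide b (Pi.single i 4 + Pi.single j s : Zv) := fun p hp => by
        have hpi : p ≠ i := fun e => hp (e ▸ hi)
        have hpj : p ≠ j := fun e => hp (e ▸ hj)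
        simp [hpi, hpj]
      have := hd _ h1 hside h2
      rwa [show dotInt x (Pi.single i 4 + Pi.single j s : Zv) = 4 * x i + s * x j by
        simp [dotInt, mul_add, Finset.sum_add_distrib, Pi.single_apply, mul_comm]] at this
    have := key 4 (Or.inl rfl)
    have := key (-4) (Or.inr rfl)
    omega
  have h8 : ∀ i, x i % 8 = 0 := by
    by_contra hh
    push Not at hh
    obtain ⟨i, hi⟩ := hh
    have hib : dW i = b := by by_contra h; exact hi (by rw [hs i h]; rfl)
    have h16 : ∀ j, dW j = b → 16 ≤ x j * x j := fun j hj => by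
      obtain ⟨q, hqi, hqb⟩ := side_facts.2.1 b i hib
      have a1 := hpair i q (Ne.symm hqi) hib hqb
      have hj4 : x j % 8 = 4 := by
        by_cases hji : i = j
        · subst hji; omega
        · have a2 := hpair i j hji hib hj; omega
      rcases show x j ≥ 4 ∨ x j ≤ -4 by omega with h' | h' <;> nlinarith
    have hc : (Finset.univ.filter fun p => dW p = b).card = 12 := by
      rcases (show ∀ t : ZMod 2, t = 0 ∨ t = 1 by decide) b with rfl | rfl
      exacts [side_facts.1.1, side_facts.1.2]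
    have h192 : (192 : ℤ) ≤ ∑ p ∈ Finset.univ.filter (fun p => dW p = b), x p * x p := by
      have := Finset.card_nsmul_le_sum (Finset.univ.filter fun p => dW p = b) (fun p => x p * x p) 16
        (fun p hp => h16 p (Finset.mem_filter.1 hp).2)
      rw [hc] at this
      simpa using this
    have hle : ∑ p ∈ Finset.univ.filter (fun p => dW p = b), x p * x p ≤ ∑ p, x p * x p :=
      Finset.sum_le_sum_of_subset_of_nonneg (Finset.filter_subset _ _) fun p _ _ => mul_self_nonneg _
    rw [← norm_sum, hn] at hle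
    omega
  obtain ⟨i, hi⟩ : ∃ i, x i ≠ 0 := by
    by_contra hh
    push Not at hh
    rw [norm_sum] at hn
    simp [hh] at hn
  have hbig : ∀ j, x j ≠ 0 → 64 ≤ x j * x j := fun j hj => by
    have := h8 j
    rcases show x j ≥ 8 ∨ x j ≤ -8 by omega with h' | h' <;> nlinarith
  have hzero : ∀ j, j ≠ i → x j = 0 := fun j hj => by
    by_contra hne
    have : x i * x i + x j * x j ≤ ∑ p, x p * x p := by
      have := Finset.sum_le_sum_of_subset_of_nonneg (f := fun p => x p * x p) (Finset.subset_univ {i, j})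
        (fun p _ _ => mul_self_nonneg _)
      rwa [Finset.sum_pair (Ne.symm hj)] at this
    rw [← norm_sum, hn] at this
    have := hbig i hi; have := hbig j hne; omega
  have hxi : x i * x i = 64 := by
    rw [← hn, norm_sum, Finset.sum_eq_single i (fun j _ hj => by rw [hzero j hj, mul_zero]) (by simp)]
  refine ⟨i, x i, ?_, funext fun p => ?_⟩
  · rcases mul_self_eq_mul_self_iff.1 (show x i * x i = 8 * 8 by rw [hxi]; norm_num) with e | e
    · exact Or.inl e
    · exact Or.inr e
  · by_cases hp : p = i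
    · subst hp; rw [Pi.single_eq_same]
    · rw [Pi.single_eq_of_ne hp, hzero p hp]

theorem side_iff {b : ZMod 2} {x : Zv} :
    OnSide b x ↔ ∀ p, sgn dW x p = if b = 1 then -x p else x p := by
  constructor <;> intro h p
  · by_cases hp : dW p = b
    · rcases (show ∀ t : ZMod 2, t = 0 ∨ t = 1 by decide) b with rfl | rfl <;> simp [sgn, hp]
    · simp [sgn, h p hp]
  · intro hp
    have := h p
    rcases (show ∀ t : ZMod 2, t = 0 ∨ t = 1 by decide) b with rfl | rfl <;>
      rcases (show ∀ t : ZMod 2, t = 0 ∨ t = 1 by decide) (dW p) with e | e <;>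
      first | exact absurd e hp | (simp [sgn, e] at this; omega)

theorem std_of_signs {g d : ↥Co0} (hd : ∀ v : Lv, ((d • v : Lv) : Zv) = sgn dW (v : Zv))
    (h : toCo1 (g * d) = toCo1 (d * g)) : StdStab g := by
  have hdx : ∀ x ∈ leechLattice, act d x = sgn dW x := fun x hx => by
    rw [show x = ((⟨x, hx⟩ : Lv) : Zv) from rfl, act_coe, hd]
  obtain ⟨k, hk⟩ : ∃ k : ZMod 2, ∀ x ∈ leechLattice,
      ∀ p, sgn dW (act g x) p = if k = 1 then -act g (sgn dW x) p else act g (sgn dW x) p := by
    rcases toCo1_eq h with e | e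
    · refine ⟨0, fun x hx p => ?_⟩
      rw [if_neg (by decide), ← hdx x hx, ← hdx _ (act_mem g hx), ← act_mul _ _ hx, ← act_mul _ _ hx, e]
    · refine ⟨1, fun x hx p => ?_⟩
      rw [if_pos rfl, ← hdx x hx, ← hdx _ (act_mem g hx), ← act_mul _ _ hx, ← act_mul _ _ hx, e,
        act_mul _ _ hx, nEl_act (act_mem _ hx)]
      rfl
  have hfwd : ∀ {b : ZMod 2} {x : Zv}, x ∈ leechLattice → OnSide b x → OnSide (b + k) (act g x) := by
    intro b x hx hs
    refine side_iff.2 fun p => ?_
    rw [hk x hx p]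
    have hsx : sgn dW x = if b = 1 then -x else x := funext fun q => by
      rw [side_iff.1 hs q]; split <;> rfl
    rw [hsx]
    rcases (show ∀ t : ZMod 2, t = 0 ∨ t = 1 by decide) b with rfl | rfl <;>
      rcases (show ∀ t : ZMod 2, t = 0 ∨ t = 1 by decide) k with rfl | rfl <;>
      simp [act_neg g hx, show (1 : ZMod 2) + 1 = 0 from rfl]
  have hback : ∀ {b : ZMod 2} {x : Zv}, x ∈ leechLattice → OnSide (b + k) x → OnSide b (act g⁻¹ x) := by
    intro b x hx hs p hp
    refine (show ∀ q, dW q ≠ b → act g⁻¹ x q = 0 from ?_) p hp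
    set y := act g⁻¹ x with hy
    have hym : y ∈ leechLattice := act_mem _ hx
    have hgy : act g y = x := by rw [hy, ← act_mul _ _ hx, mul_inv_cancel, act_one hx]
    have h1 : ∀ p, act g (sgn dW y) p = if b = 1 then -x p else x p := fun p => by
      have := hk y hym p
      rw [hgy, side_iff.1 hs p] at this
      rcases (show ∀ t : ZMod 2, t = 0 ∨ t = 1 by decide) b with rfl | rfl <;>
        rcases (show ∀ t : ZMod 2, t = 0 ∨ t = 1 by decide) k with rfl | rfl <;>
        simp [show (1 : ZMod 2) + 1 = 0 from rfl] at this ⊢ <;> omega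
    refine side_iff.2 fun p => ?_
    have h2 : sgn dW y = if b = 1 then -y else y := by
      refine act_inj g (sgn_mem (dec_code (by decide +kernel) baseDod_lt) hym) ?_ (funext fun p => ?_)
      · split
        · exact neg_mem hym
        · exact hym
      · rw [h1 p]
        split
        · rw [act_neg g hym, hgy]; rfl
        · rw [hgy]
    rw [h2]; split <;> rfl
  rintro v ⟨i, s, hs, e⟩
  have hsi : ((g • e8 i : Lv) : Zv) ∈ stdCross := by
    rw [← act_coe]
    have hei : OnSide (dW i) (e8 i : Zv) := fun p hp => by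
      have : p ≠ i := fun e => hp (e ▸ rfl)
      simp [e8, this]
    refine one_entry (hfwd (e8 i).2 hei) (by rw [act_norm g (e8 i).2]; exact e8_norm i) fun z hz hzs hzn => ?_
    have hz' := root_four (act_mem g⁻¹ hz) (hback hz hzs) (by rw [act_norm _ hz, hzn])
    have hdot : dotInt (act g (e8 i : Zv)) z = dotInt (e8 i : Zv) (act g⁻¹ z) := by
      conv_lhs => rw [show z = act g (act g⁻¹ z) by rw [← act_mul _ _ hz, mul_inv_cancel, act_one hz]]
      exact (by rw [act_coe, show act g (act g⁻¹ z) = ((g • (⟨_, act_mem g⁻¹ hz⟩ : Lv) : Lv) : Zv) from act_coe g ⟨_, _⟩,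
        co0_dot])
    rw [hdot, show dotInt (e8 i : Zv) (act g⁻¹ z) = 8 * act g⁻¹ z i by
      simp [dotInt, e8, Pi.single_apply]]
    have := hz' i
    omega
  obtain ⟨j, t, ht, e'⟩ := hsi
  rcases hs with rfl | rfl
  · rw [show v = e8 i from Subtype.ext e]; exact ⟨j, t, ht, e'⟩
  · refine ⟨j, -t, by rcases ht with rfl | rfl <;> norm_num, ?_⟩
    have hv : (v : Zv) = -(e8 i : Zv) := by rw [e]; simp [e8, Pi.single_neg]
    rw [← act_coe, hv, act_neg g (e8 i).2, act_coe, e', Pi.single_neg]

theorem lift_pair {x y : Cfsg.Spor.Co1} {g k : ↥Co0} (hg : toCo1 g = x) (hk : toCo1 k = y) (h : Commute x y) :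
    toCo1 (g * k) = toCo1 (k * g) := by
  rw [toCo1_mul, toCo1_mul, hg, hk]; exact h.eq

theorem Rep1.mEq_of {x : Cfsg.Spor.Co1} {m n : MEl} (hx : Rep1 x m) (hy : Rep1 x n) : mEq m n = true := by
  obtain ⟨hm, hm2, g, hg, rfl⟩ := hx
  obtain ⟨hn, hn2, k, hk, e⟩ := hy
  have hperm : lperm m.1 = lperm n.1 → ((List.range 24).all fun i => Nat.beq (m.1.getD i 0) (n.1.getD i 0)) = true :=
    fun e1 => List.all_eq_true.2 fun i hi => by
      rw [List.mem_range] at hi
      have a := rep_lperm hm (pt i)
      have b := rep_lperm hn (pt i)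
      rw [idx_pt i hi, e1] at a
      rw [idx_pt i hi] at b
      rw [a, b, Nat.beq_refl]
  rw [mEq, Bool.and_eq_true, Bool.or_eq_true]
  rcases toCo1_eq e with r | r
  · subst r
    obtain ⟨e1, e2⟩ := mono_unique fun v => (hg v).symm.trans (hk v)
    refine ⟨hperm e1, Or.inl ?_⟩
    have := congrArg (fun w => mask (support₂ w)) e2
    simp only [support₂_ofMaskW] at this
    rw [mask_ofMask hm2, mask_ofMask hn2] at this
    rw [this, show Nat.xor n.2 n.2 = n.2 ^^^ n.2 from rfl, Nat.xor_self]; rfl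
  · subst r
    have hall : ∀ p, ofMaskW 16777215 p = 1 := by decide +kernel
    have h2 : ∀ v : Lv, (((nEl * k) • v : Lv) : Zv) = sgn (ofMaskW (Nat.xor 16777215 n.2)) (prm (lperm n.1) (v : Zv)) :=
      fun v => by
      rw [← act_coe, act_mul _ _ v.2, nEl_act (act_mem _ v.2), act_coe, hk v, ← ofMaskW_add]
      funext p
      rcases (show ∀ t : ZMod 2, t = 0 ∨ t = 1 by decide) (ofMaskW n.2 p) with a | a <;>
        simp [sgn, a, hall p, show (1 : ZMod 2) + 1 = 0 from rfl]
    obtain ⟨e1, e2⟩ := mono_unique fun v => (hg v).symm.trans (h2 v)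
    refine ⟨hperm e1, Or.inr ?_⟩
    have := congrArg (fun w => mask (support₂ w)) e2
    simp only [support₂_ofMaskW] at this
    rw [mask_ofMask hm2, mask_ofMask (m := Nat.xor 16777215 n.2) (Nat.xor_lt_two_pow (by norm_num) hn2)] at this
    rw [this, show Nat.xor (Nat.xor 16777215 n.2) n.2 = 16777215 ^^^ n.2 ^^^ n.2 from rfl, Nat.xor_assoc, Nat.xor_self]
    rfl

/-- elements commuting with the dodecad involution are monomial -/
theorem exists_rep_of_comm {x : Cfsg.Spor.Co1} (h : Commute x wC) : ∃ m, mOK m = true ∧ Rep1 x m := by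
  obtain ⟨g, rfl⟩ := QuotientGroup.mk_surjective x
  obtain ⟨-, -, d, hd, hdw⟩ := rep_wC
  have hd' : ∀ v : Lv, ((d • v : Lv) : Zv) = sgn dW (v : Zv) := fun v => by
    rw [hd v, show mW.1 = List.range 24 from rfl, lperm_one]; funext p; simp [sgn, prm, mW]; rfl
  obtain ⟨σ, hσ, w, hw, hgm⟩ := std_form (std_of_signs hd' (lift_pair rfl hdw h))
  set l := (List.range 24).map fun i => idx (σ (pt i)) with hl
  have hrep : ∀ p, l.getD (idx p) 0 = idx (σ p) := fun p => by
    rw [List.getD_eq_getElem _ _ (by simpa [hl] using idx_lt p)]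
    simp [hl, pt_idx]
  have hlok : lok l = true := by
    simp only [lok, Bool.and_eq_true, beq_iff_eq, List.all_eq_true, decide_eq_true_eq, List.elem_iff]
    refine ⟨⟨by simp [hl], fun a ha => ?_⟩, fun i hi => ?_⟩
    · obtain ⟨k, -, rfl⟩ := List.mem_map.1 ha; exact idx_lt _
    · rw [List.mem_range] at hi
      exact List.mem_map.2 ⟨idx (σ.symm (pt i)), List.mem_range.2 (idx_lt _),
        by rw [pt_idx, Equiv.apply_symm_apply, idx_pt i hi]⟩
  have hlp : lperm l = σ := Equiv.ext fun p => idx_injective (by rw [← (rep_lperm hlok) p, hrep])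
  have hwm : ofMaskW (wmask w) = w := support₂_injective (by rw [support₂_ofMaskW, wmask, ofMask_mask])
  have hlt : wmask w < 2 ^ 24 := mask_lt _
  refine ⟨(l, wmask w), ?_, hlok, hlt, g, fun v => by rw [hlp, hwm]; exact hgm v, rfl⟩
  simp only [mOK, m24ok, Bool.and_eq_true, List.all_eq_true]
  refine ⟨⟨⟨hlok, fun c hc => ?_⟩, code_facts.1 _ (mem_code.1 hw)⟩, by simpa [Nat.blt] using hlt⟩
  refine code_facts.1 _ ?_
  have hmem : c ∈ codeMasks ∧ c < 2 ^ 24 := by revert c; decide +kernel
  have := actW_mem (hlp.symm ▸ hσ : lperm l ∈ M24) (word_of_mask hmem.1)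
  rw [actW_mask hlok hmem.2, mem_code, wmask_ofMaskW (pm_lt hlok hmem.2)] at this
  exact this

end Cfsg.Agent.Spor.CoAmal
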