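import Cfsg.Agent.Lib.Spor.CoAmal.Mono

/-!
The recursion over elementary subgroups in the centraliser of the dodecad involution: the checks and what they give.
-/

set_option autoImplicit false
set_option maxRecDepth 100000
set_option linter.style.haveILetI false

namespace Cfsg.Agent.Spor.CoAmal

open Cfsg Cfsg.Agent.Spor Cfsg.Agent.Spor.Co1Invol
open scoped Pointwise

/-- the element of a list form -/
noncomputable def el (m : MEl) : Cfsg.Spor.Co1 := by
  classical
  exact if h : ∃ x, Rep1 x m then h.choose else 1

theorem rep_el {m : MEl} (h : mOK m = true) : Rep1 (el m) m := by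
  classical
  rw [el, dif_pos (Rep1.of_ok h)]
  exact (Rep1.of_ok h).choose_spec

/-- in the class of the central involution -/
def isA (m : MEl) : Bool := mSq m && mTr m

/-- in the class, and not the identity -/
def isA1 (m : MEl) : Bool := isA m && !mEq m mOne

theorem inA_of {x : Cfsg.Spor.Co1} {m : MEl} (hx : Rep1 x m) (h : isA1 m = true) : InA x := by
  simp only [isA1, isA, Bool.and_eq_true, Bool.not_eq_true'] at h
  have hxx : x * x = 1 := by
    obtain ⟨hl, hm, g, hg, rfl⟩ := hx
    rw [← toCo1_mul, (sq_one_iff hl hm hg).2 h.1.1]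
    rfl
  exact (hx.inA_iff hxx (hx.ne_one h.2)).2 (by rw [h.1.1, h.1.2]; rfl)

theorem isA_of {x : Cfsg.Spor.Co1} {m : MEl} (hx : Rep1 x m) (h : InA x) : isA m = true :=
  (hx.inA_iff h.invol.1 h.invol.2).1 h

/-- commuting in list form -/
def mComm (m n : MEl) : Bool := mEq (mMul m n) (mMul n m)

theorem Rep1.comm {x y : Cfsg.Spor.Co1} {m n : MEl} (hx : Rep1 x m) (hy : Rep1 y n) (h : mComm m n = true) :
    Commute x y :=
  (hx.mul hy).eq (hy.mul hx) h

theorem Rep1.mComm_of {x y : Cfsg.Spor.Co1} {m n : MEl} (hx : Rep1 x m) (hy : Rep1 y n) (h : Commute x y) :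
    mComm m n = true :=
  (hx.mul hy).mEq_of (h.eq ▸ hy.mul hx)

/-! ### spans with images -/

/-- images of a mask under several lists -/
def pmv (ls : List (List ℕ)) (m : ℕ) : List ℕ := ls.map fun l => pm l m 0

/-- the span with images -/
def spanP (k : ℕ) : List (ℕ × List ℕ) → List (ℕ × List ℕ)
  | [] => [(0, List.replicate k 0)]
  | g :: gs => spanP k gs ++ (spanP k gs).map fun p => (Nat.xor p.1 g.1, List.zipWith Nat.xor p.2 g.2)

theorem pm_xor {l : List ℕ} (hl : lok l = true) {a b : ℕ} (ha : a < 2 ^ 24) (hb : b < 2 ^ 24) :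
    pm l (Nat.xor a b) 0 = Nat.xor (pm l a 0) (pm l b 0) := by
  have h : actW (lperm l) (ofMaskW a + ofMaskW b) = actW (lperm l) (ofMaskW a) + actW (lperm l) (ofMaskW b) :=
    actW_add _ _ _
  rw [ofMaskW_add, actW_mask (m := Nat.xor a b) hl (Nat.xor_lt_two_pow ha hb), actW_mask hl ha, actW_mask hl hb,
    ofMaskW_add] at h
  have := congrArg wmask h
  rwa [wmask_ofMaskW (m := pm l (Nat.xor a b) 0) (pm_lt hl (Nat.xor_lt_two_pow ha hb)),
    wmask_ofMaskW (m := Nat.xor (pm l a 0) (pm l b 0)) (Nat.xor_lt_two_pow (pm_lt hl ha) (pm_lt hl hb))] at this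

theorem xorSpan_lt : ∀ {bs : List ℕ}, (∀ g ∈ bs, g < 2 ^ 24) → ∀ m ∈ xorSpan bs, m < 2 ^ 24
  | [], _, m, hm => by simp [xorSpan] at hm; subst hm; norm_num
  | g :: gs, h, m, hm => by
    simp only [xorSpan, List.mem_append, List.mem_map] at hm
    rcases hm with hm | ⟨a, ha, rfl⟩
    · exact xorSpan_lt (fun x hx => h x (by simp [hx])) m hm
    · exact Nat.xor_lt_two_pow (xorSpan_lt (fun x hx => h x (by simp [hx])) a ha) (h g (by simp))

theorem pm_zero {l : List ℕ} (hl : lok l = true) : pm l 0 0 = 0 := by
  have := pm_xor hl (a := 0) (b := 0) (by norm_num) (by norm_num)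
  rw [show Nat.xor 0 0 = 0 from rfl] at this
  rw [this]; exact Nat.xor_self _

theorem spanP_eq {ls : List (List ℕ)} (hls : ∀ l ∈ ls, lok l = true) : ∀ {bs : List ℕ}, (∀ g ∈ bs, g < 2 ^ 24) →
    spanP ls.length (bs.map fun g => (g, pmv ls g)) = (xorSpan bs).map fun m => (m, pmv ls m)
  | [], _ => by
    simp only [List.map_nil, spanP, xorSpan, List.map_cons, pmv]
    congr 2
    refine (List.eq_replicate_iff.2 ⟨by simp, fun b hb => ?_⟩).symm
    obtain ⟨l, hl, rfl⟩ := List.mem_map.1 hb
    exact pm_zero (hls l hl)
  | g :: gs, h => by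
    have ih := spanP_eq hls (bs := gs) (fun x hx => h x (by simp [hx]))
    rw [List.map_cons, spanP, ih, xorSpan, List.map_append]
    congr 1
    rw [List.map_map, List.map_map]
    refine List.map_congr_left fun a ha => Prod.ext rfl ?_
    have ha' := xorSpan_lt (fun x hx => h x (by simp [hx])) a ha
    simp only [Function.comp_apply, pmv, List.zipWith_map, List.zipWith_self]
    refine List.map_congr_left fun l hl => ?_
    exact (pm_xor (hls l hl) ha' (h g (by simp))).symm

/-! ### the permutations -/

/-- the octad of the first involution -/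
def octM : ℕ := 9347075

/-- equality of lists of naturals -/
def leq : List ℕ → List ℕ → Bool
  | [], [] => true
  | a :: p, b :: q => Nat.beq a b && leq p q
  | _, _ => false

theorem leq_eq : ∀ {p q : List ℕ}, leq p q = true → p = q
  | [], [], _ => rfl
  | a :: p, b :: q, h => by
    simp only [leq, Bool.and_eq_true] at h
    rw [Nat.eq_of_beq_eq_true h.1, leq_eq h.2]
  | [], _ :: _, h => by simp [leq] at h
  | _ :: _, [], h => by simp [leq] at h

theorem lok_ext {p q : List ℕ} (hp : lok p = true) (hq : lok q = true) (h : lperm p = lperm q) : p = q := by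
  have l1 : p.length = 24 := by simp only [lok, Bool.and_eq_true, beq_iff_eq] at hp; exact hp.1.1
  have l2 : q.length = 24 := by simp only [lok, Bool.and_eq_true, beq_iff_eq] at hq; exact hq.1.1
  refine List.ext_getElem (l1.trans l2.symm) fun i h1 h2 => ?_
  have a := rep_lperm hp (pt i)
  have b := rep_lperm hq (pt i)
  rw [idx_pt i (by omega), List.getD_eq_getElem _ _ h1] at a
  rw [idx_pt i (by omega), List.getD_eq_getElem _ _ h2] at b
  rw [a, b, h]

/-! ### nodes -/

/-! ### fast traces -/

/-- bit counts of bytes -/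
def bytePc (b : ℕ) : ℕ := ((List.range 8).countP fun i => Nat.testBit b i)

/-- packed bit counts -/
def pcTable : ℕ :=
  0x8776766576656554766565546554544376656554655454436554544354434332766565546554544365545443544343326554544354434332544343324332322176656554655454436554544354434332655454435443433254434332433232216554544354434332544343324332322154434332433232214332322132212110

/-- the bit count of a byte from the table -/
def pc8 (b : ℕ) : ℕ := Nat.land (Nat.shiftRight pcTable (Nat.mul 4 b)) 15

/-- the bit count of a mask -/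
def pc24 (m : ℕ) : ℕ :=
  Nat.add (pc8 (Nat.land m 255))
    (Nat.add (pc8 (Nat.land (Nat.shiftRight m 8) 255)) (pc8 (Nat.land (Nat.shiftRight m 16) 255)))

/-- the mask of the fixed points -/
def fixM (l : List ℕ) : ℕ :=
  (List.range 24).foldr (fun i r => Nat.lor (bif Nat.beq (l.getD i 0) i then Nat.shiftLeft 1 i else 0) r) 0

/-- the trace is nonzero -/
def trF (F x : ℕ) : Bool := !Nat.beq (Nat.mul 2 (pc24 (Nat.land x F))) (pc24 F)

theorem pc8_eq : ∀ b < 256, pc8 b = bytePc b := by decide +kernel

theorem countP_shift (m k : ℕ) :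
    (List.range 8).countP (fun i => Nat.testBit m (k + i)) = pc8 (Nat.land (Nat.shiftRight m k) 255) := by
  rw [pc8_eq (Nat.land (Nat.shiftRight m k) 255) (lt_of_le_of_lt Nat.and_le_right (by norm_num)), bytePc]
  refine List.countP_congr fun i hi => ?_
  rw [List.mem_range] at hi
  rw [show Nat.land (Nat.shiftRight m k) 255 = (m >>> k) &&& (2 ^ 8 - 1) from rfl, Nat.testBit_and,
    Nat.testBit_two_pow_sub_one, Nat.testBit_shiftRight]
  simp [hi]

theorem pc24_eq (m : ℕ) : (List.range 24).countP (fun i => Nat.testBit m i) = pc24 m := by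
  have e0 := countP_shift m 0
  have h : List.range 24 = List.range 8 ++ ((List.range 8).map fun i => 8 + i) ++ ((List.range 8).map fun i => 16 + i) := by
    decide
  rw [h, List.countP_append, List.countP_append, List.countP_map, List.countP_map]
  simp only [Nat.zero_add] at e0
  simp only [Function.comp_def]
  rw [e0, countP_shift m 8, countP_shift m 16, pc24]
  exact Nat.add_assoc _ _ _

theorem testBit_foldr (f : ℕ → Bool) (i : ℕ) : ∀ L : List ℕ,
    Nat.testBit (L.foldr (fun j r => Nat.lor (bif f j then Nat.shiftLeft 1 j else 0) r) 0) i = (L.contains i && f i)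
  | [] => by simp
  | j :: L => by
    rw [List.foldr_cons, show ∀ a b, Nat.lor a b = a ||| b from fun _ _ => rfl, Nat.testBit_or, testBit_foldr f i L,
      List.contains_cons]
    by_cases hij : i = j
    · subst hij
      cases hf : f i <;> simp [Nat.shiftLeft_eq]
    · have : Nat.testBit (bif f j then Nat.shiftLeft 1 j else 0) i = false := by
        cases f j
        · simp
        · show Nat.testBit (1 <<< j) i = false
          rw [Nat.one_shiftLeft, Nat.testBit_two_pow_of_ne (Ne.symm hij)]
      rw [this, show (i == j) = false from beq_false_of_ne hij, Bool.false_or, Bool.false_or]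

theorem trF_eq (l : List ℕ) (c : ℕ) : mTr (l, c) = trF (fixM l) c := by
  have hF : ∀ i ∈ List.range 24, Nat.testBit (fixM l) i = Nat.beq (l.getD i 0) i := fun i hi => by
    rw [fixM, testBit_foldr, List.contains_iff_mem.2 hi, Bool.true_and]
  rw [mTr, trF, ← pc24_eq, ← pc24_eq]
  congr 2
  · show 2 * _ = 2 * _
    congr 1
    refine List.countP_congr fun i hi => ?_
    rw [show Nat.land c (fixM l) = c &&& fixM l from rfl, Nat.testBit_and, hF i hi, Bool.and_comm]
  · refine List.countP_congr fun i hi => ?_
    rw [hF i hi]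

/-! ### nodes -/

/-- precomputed data of a permutation at a node -/
structure Row where
  /-- the permutation -/
  perm : List ℕ
  /-- its fixed points -/
  fixed : ℕ
  /-- images of the signs of the elements, and fixed points of the products -/
  info : List (ℕ × ℕ)
  /-- a basis of the sign masks fixed by the permutation, with images -/
  span : List (ℕ × List ℕ)
  /-- a complement, with images -/
  comp : List (ℕ × List ℕ)
  /-- the basis words as sums of the new basis -/
  expr : List (List ℕ)
  /-- remaining sign masks -/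
  left : List ℕ

/-- a node: an elementary subgroup, an element and the remaining involutions -/
structure Node where
  /-- the elements -/
  E : List MEl
  /-- some elements generating the others -/
  gens : List MEl
  /-- the element moved about -/
  s : MEl
  /-- its partner -/
  e1 : MEl
  /-- the remaining involutions, by permutation: sign mask, next node, conjugating element, targets -/
  tab : List (List ℕ × List (ℕ × ℕ × MEl × List ℕ))
  /-- the data of the permutations -/
  rows : List Row

/-- the first involution of every node -/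
def rM : MEl := (List.range 24, octM)

/-- the closure used by the transport -/
def Node.ext (N : Node) (u : MEl) : List MEl := N.E ++ N.E.map (mMul u)

/-- equality of lists -/
def beqL {α : Type} (f : α → α → Bool) : List α → List α → Bool
  | [], [] => true
  | a :: p, b :: q => f a b && beqL f p q
  | _, _ => false

theorem beqL_eq {α : Type} {f : α → α → Bool} (hf : ∀ a b, f a b = true → a = b) :
    ∀ {p q : List α}, beqL f p q = true → p = q
  | [], [], _ => rfl
  | a :: p, b :: q, h => by
    simp only [beqL, Bool.and_eq_true] at h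
    rw [hf _ _ h.1, beqL_eq hf h.2]
  | [], _ :: _, h => by simp [beqL] at h
  | _ :: _, [], h => by simp [beqL] at h

/-- equality of pairs -/
def peq (a b : ℕ × ℕ) : Bool := Nat.beq a.1 b.1 && Nat.beq a.2 b.2

/-- equality of spans -/
def seq' (a b : ℕ × List ℕ) : Bool := Nat.beq a.1 b.1 && leq a.2 b.2

/-- the code words without the constant one -/
def halfBasis : List ℕ := codeBasis.take 11

/-- the data are right -/
def rowOK (N : Node) (R : Row) : Bool :=
  Nat.beq R.fixed (fixM R.perm) &&
    beqL peq R.info (N.E.map fun a => (pm R.perm a.2 0, fixM (lmul R.perm a.1))) &&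
    beqL seq' R.span (R.span.map fun g => (g.1, pmv (R.perm :: N.E.map Prod.fst) g.1)) &&
    beqL seq' R.comp (R.comp.map fun g => (g.1, pmv [R.perm] g.1)) &&
    R.span.all (fun g => Nat.blt g.1 16777216 && Nat.beq (Nat.xor g.1 (g.2.headD 0)) 0) &&
    R.comp.all (fun g => Nat.blt g.1 16777216) &&
    beqL Nat.beq halfBasis (R.expr.map fun l => l.foldr Nat.xor 0) &&
    R.expr.all (fun l => l.all fun x => (R.span ++ R.comp).any fun g => Nat.beq g.1 x) &&
    (spanP 1 R.comp).all (fun p => !Nat.beq (Nat.xor p.1 (p.2.headD 0)) 0 || Nat.beq p.1 0) &&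
    R.left.all (fun c => ((N.tab.filter fun t => leq t.1 R.perm).flatMap Prod.snd).any fun e => Nat.beq e.1 c)

/-- one candidate: the commutator masks are read off the data -/
def candOK (E : List MEl) (R : Row) (c : ℕ) (v : List ℕ) : Bool :=
  !(Nat.beq (Nat.xor c (v.headD 0)) 0 &&
      (List.zip (List.zip E R.info) v.tail).all (fun x =>
        Nat.beq (Nat.xor (Nat.xor c x.1.2.1) (Nat.xor x.1.1.2 x.2)) 0 ||
          Nat.beq (Nat.xor (Nat.xor c x.1.2.1) (Nat.xor x.1.1.2 x.2)) 16777215) &&
      trF R.fixed (Nat.xor octM c)) ||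
    trF R.fixed c ||
    (List.zip (List.zip E R.info) v.tail).any (fun x =>
      Nat.beq (Nat.xor (Nat.xor c x.1.2.1) (Nat.xor x.1.1.2 x.2)) 0 && trF x.1.2.2 (Nat.xor c x.1.2.1)) ||
    R.left.any (Nat.beq c)

/-- all candidates over one permutation -/
def permOK (N : Node) (σ : List ℕ) : Bool :=
  !(N.E.all fun a => leq (lmul σ a.1) (lmul a.1 σ)) ||
    N.rows.any fun R => leq R.perm σ && rowOK N R &&
      (spanP (N.E.length + 1) R.span).all fun p => candOK N.E R p.1 p.2

/-- the node is well formed -/
def baseOK (N : Node) : Bool :=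
  N.E.all (fun a => mOK a && mSq a && mComm rM a && mComm N.s a && (mEq a mOne || !isA (mMul rM a))) &&
    N.E.any (fun a => mEq a mW) && N.E.any (fun a => mEq a N.e1) && mOK N.e1 && !mEq N.e1 mOne &&
    mOK N.s && isA1 N.s && isA1 (mMul N.s N.e1)

/-- products of some of the generators -/
def mProds : List MEl → List MEl
  | [] => [mOne]
  | g :: gs => mProds gs ++ (mProds gs).map (mMul g)

/-- the generators generate -/
def closedOK (N : Node) : Bool :=
  N.gens.all mOK && N.E.all fun a => (mProds N.gens).any fun b => mEq a b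

/-- one witness -/
def witOK (N : Node) (nodes : List Node) (k : ℕ) (u : MEl) (e : ℕ × MEl × List ℕ) : Bool :=
  mOK u && Nat.blt k e.1 && Nat.blt e.1 nodes.length && mOK e.2.1 &&
    Nat.beq e.2.2.length (nodes.getD e.1 ⟨[], [], mOne, mOne, [], []⟩).gens.length &&
    (List.zip (nodes.getD e.1 ⟨[], [], mOne, mOne, [], []⟩).gens e.2.2).all fun p =>
      Nat.blt p.2 (N.ext u).length && mEq (mMul e.2.1 p.1) (mMul ((N.ext u).getD p.2 mOne) e.2.1)

/-- witnesses of part of a node -/
def tabOK (N : Node) (nodes : List Node) (k : ℕ) (tb : List (List ℕ × List (ℕ × ℕ × MEl × List ℕ))) : Bool :=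
  tb.all fun t => t.2.all fun e => witOK N nodes k (t.1, e.1) e.2

end Cfsg.Agent.Spor.CoAmal
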