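import Cfsg.Agent.Lib.Spor.CoAmal.RecPerm

/-!
Checks at a node of the recursion.
-/

set_option autoImplicit false
set_option maxRecDepth 100000
set_option Elab.async false

namespace Cfsg.Agent.Spor.CoAmal

open RecDat

theorem base0 : baseOK node0 = true := by decide +kernel

theorem closed0 : closedOK node0 = true := by decide +kernel

theorem tab0p0 : tabOK node0 nodes 0 ((node0.tab.drop 0).take 4) = true := by decide +kernel

theorem tab0p1 : tabOK node0 nodes 0 ((node0.tab.drop 4).take 4) = true := by decide +kernel

theorem tab0p2 : tabOK node0 nodes 0 ((node0.tab.drop 8).take 4) = true := by decide +kernel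

theorem tab0p3 : tabOK node0 nodes 0 ((node0.tab.drop 12).take 4) = true := by decide +kernel

theorem tab0p4 : tabOK node0 nodes 0 ((node0.tab.drop 16).take 4) = true := by decide +kernel

theorem tab0p5 : tabOK node0 nodes 0 ((node0.tab.drop 20).take 4) = true := by decide +kernel

theorem tab0p6 : tabOK node0 nodes 0 ((node0.tab.drop 24).take 4) = true := by decide +kernel

theorem tab0p7 : tabOK node0 nodes 0 ((node0.tab.drop 28).take 4) = true := by decide +kernel

theorem tab0p8 : tabOK node0 nodes 0 ((node0.tab.drop 32).take 4) = true := by decide +kernel

theorem perm0p0 : ((invols.drop 0).take 17).all (permOK node0) = true := by decide +kernel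

theorem perm0p1 : ((invols.drop 17).take 17).all (permOK node0) = true := by decide +kernel

theorem perm0p2 : ((invols.drop 34).take 17).all (permOK node0) = true := by decide +kernel

theorem perm0p3 : ((invols.drop 51).take 17).all (permOK node0) = true := by decide +kernel

end Cfsg.Agent.Spor.CoAmal
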