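import Cfsg.Agent.Lib.Spor.CoAmal.RecPerm

/-!
Checks at a node of the recursion.
-/

set_option autoImplicit false
set_option maxRecDepth 100000
set_option Elab.async false

namespace Cfsg.Agent.Spor.CoAmal

open RecDat

theorem base3 : baseOK node3 = true := by decide +kernel

theorem closed3 : closedOK node3 = true := by decide +kernel

theorem tab3p0 : tabOK node3 nodes 3 ((node3.tab.drop 0).take 4) = true := by decide +kernel

theorem perm3p0 : ((invols.drop 0).take 17).all (permOK node3) = true := by decide +kernel

theorem perm3p1 : ((invols.drop 17).take 17).all (permOK node3) = true := by decide +kernel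

theorem perm3p2 : ((invols.drop 34).take 17).all (permOK node3) = true := by decide +kernel

theorem perm3p3 : ((invols.drop 51).take 17).all (permOK node3) = true := by decide +kernel

end Cfsg.Agent.Spor.CoAmal
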