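import Cfsg.Agent.Lib.Spor.CoAmal.RecPerm

/-!
Checks at a node of the recursion.
-/

set_option autoImplicit false
set_option maxRecDepth 100000
set_option Elab.async false

namespace Cfsg.Agent.Spor.CoAmal

open RecDat

theorem base5 : baseOK node5 = true := by decide +kernel

theorem closed5 : closedOK node5 = true := by decide +kernel

theorem tab5p0 : tabOK node5 nodes 5 ((node5.tab.drop 0).take 4) = true := by decide +kernel

theorem perm5p0 : ((invols.drop 0).take 17).all (permOK node5) = true := by decide +kernel

theorem perm5p1 : ((invols.drop 17).take 17).all (permOK node5) = true := by decide +kernel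

theorem perm5p2 : ((invols.drop 34).take 17).all (permOK node5) = true := by decide +kernel

theorem perm5p3 : ((invols.drop 51).take 17).all (permOK node5) = true := by decide +kernel

end Cfsg.Agent.Spor.CoAmal
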