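import Cfsg.Agent.Lib.Spor.CoAmal.RecSound
import Cfsg.Agent.Lib.Spor.CoAmal.RecNode0
import Cfsg.Agent.Lib.Spor.CoAmal.RecNode1
import Cfsg.Agent.Lib.Spor.CoAmal.RecNode2
import Cfsg.Agent.Lib.Spor.CoAmal.RecNode3
import Cfsg.Agent.Lib.Spor.CoAmal.RecNode4
import Cfsg.Agent.Lib.Spor.CoAmal.RecNode5

/-!
The centraliser of the dodecad involution lies in the image.
-/

set_option autoImplicit false
set_option maxRecDepth 100000
set_option linter.style.haveILetI false

namespace Cfsg.Agent.Spor.CoAmal

open Cfsg Cfsg.Agent.Spor Cfsg.Agent.Spor.Co1Invol RecDat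
open scoped Pointwise

theorem forall_of_chunks {α : Type} {L : List α} {f : α → Bool} (w : ℕ) (hw : 0 < w) (n : ℕ) (hn : L.length ≤ w * n)
    (h : ∀ q, q < n → ((L.drop (w * q)).take w).all f = true) : ∀ x ∈ L, f x = true := by
  intro x hx
  obtain ⟨i, hi, rfl⟩ := List.getElem_of_mem hx
  have hd := Nat.div_add_mod i w
  have hlt := Nat.mod_lt i hw
  have hq : i / w < n := (Nat.div_lt_iff_lt_mul hw).2 (by rw [mul_comm n w]; omega)
  refine List.all_eq_true.1 (h _ hq) _ (List.mem_iff_getElem.2 ⟨i % w, ?_, ?_⟩)
  · simp only [List.length_take, List.length_drop]; omega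
  · rw [List.getElem_take, List.getElem_drop]
    congr 1

theorem invols_len : invols.length ≤ 17 * 4 := by decide +kernel

universe u

variable {G : Type u} [Group G] [Finite G] {z : G} {Q : Subgroup G} {S : Setting z Q} (e : Emb S)

/-- the node with the given number -/
abbrev nodeAt (j : ℕ) : Node := nodes.getD j ⟨[], [], mOne, mOne, [], []⟩

theorem gens_ok : ∀ j, j < nodes.length → ∀ a ∈ (nodeAt j).gens, mOK a = true := by
  intro j hj a ha
  have h : ∀ N ∈ nodes, closedOK N = true := by
    simp only [nodes, List.mem_cons, List.not_mem_nil, or_false, forall_eq_or_imp, forall_eq]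
    exact ⟨closed0, closed1, closed2, closed3, closed4, closed5⟩
  rw [nodeAt, List.getD_eq_getElem _ _ hj] at ha
  have := h _ (List.getElem_mem hj)
  simp only [closedOK, Bool.and_eq_true, List.all_eq_true] at this
  exact this.1 a ha

theorem Emb.node_all {N : Node} {k : ℕ} (n : ℕ) (hbase : baseOK N = true) (hclosed : closedOK N = true)
    (hn : N.tab.length ≤ 4 * n) (htab : ∀ q, q < n → tabOK N nodes k ((N.tab.drop (4 * q)).take 4) = true)
    (hperm : ∀ q, q < 4 → ((invols.drop (17 * q)).take 17).all (permOK N) = true)
    (hnext : ∀ j, k < j → j < nodes.length → e.Cent (setEl (nodeAt j).gens)) : e.Cent (setEl N.gens) := by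
  have hE : ∀ a ∈ N.E, mOK a = true := by
    have h := hbase
    simp only [baseOK, Bool.and_eq_true, List.all_eq_true] at h
    exact fun a ha => (h.1.1.1.1.1.1.1 a ha).1.1.1.1
  refine e.cent_gens hclosed hE (e.node_cent (nodes := nodes) (k := k) hbase (fun t ht w hw => ?_)
    (forall_of_chunks 17 (by norm_num) 4 invols_len hperm) (fun j _ hj => gens_ok j hj) hnext)
  exact List.all_eq_true.1 (forall_of_chunks 4 (by norm_num) n hn htab t ht) w hw

theorem Emb.cent5 : e.Cent (setEl (nodeAt 5).gens) :=
  e.node_all (k := 5) 1 base5 closed5 (by decide +kernel)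
    (fun q hq => by
      interval_cases q
      · exact tab5p0)
    (fun q hq => by
      interval_cases q
      · exact perm5p0
      · exact perm5p1
      · exact perm5p2
      · exact perm5p3)
    (fun j h1 h2 => by
      have h3 : j < 6 := h2
      omega)

theorem Emb.cent4 : e.Cent (setEl (nodeAt 4).gens) :=
  e.node_all (k := 4) 1 base4 closed4 (by decide +kernel)
    (fun q hq => by
      interval_cases q
      · exact tab4p0)
    (fun q hq => by
      interval_cases q
      · exact perm4p0
      · exact perm4p1
      · exact perm4p2
      · exact perm4p3)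
    (fun j h1 h2 => by
      have h3 : j < 6 := h2
      interval_cases j
      · exact e.cent5)

theorem Emb.cent3 : e.Cent (setEl (nodeAt 3).gens) :=
  e.node_all (k := 3) 1 base3 closed3 (by decide +kernel)
    (fun q hq => by
      interval_cases q
      · exact tab3p0)
    (fun q hq => by
      interval_cases q
      · exact perm3p0
      · exact perm3p1
      · exact perm3p2
      · exact perm3p3)
    (fun j h1 h2 => by
      have h3 : j < 6 := h2
      interval_cases j
      · exact e.cent4
      · exact e.cent5)

theorem Emb.cent2 : e.Cent (setEl (nodeAt 2).gens) :=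
  e.node_all (k := 2) 2 base2 closed2 (by decide +kernel)
    (fun q hq => by
      interval_cases q
      · exact tab2p0
      · exact tab2p1)
    (fun q hq => by
      interval_cases q
      · exact perm2p0
      · exact perm2p1
      · exact perm2p2
      · exact perm2p3)
    (fun j h1 h2 => by
      have h3 : j < 6 := h2
      interval_cases j
      · exact e.cent3
      · exact e.cent4
      · exact e.cent5)

theorem Emb.cent1 : e.Cent (setEl (nodeAt 1).gens) :=
  e.node_all (k := 1) 1 base1 closed1 (by decide +kernel)
    (fun q hq => by
      interval_cases q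
      · exact tab1p0)
    (fun q hq => by
      interval_cases q
      · exact perm1p0
      · exact perm1p1
      · exact perm1p2
      · exact perm1p3)
    (fun j h1 h2 => by
      have h3 : j < 6 := h2
      interval_cases j
      · exact e.cent2
      · exact e.cent3
      · exact e.cent4
      · exact e.cent5)

theorem Emb.cent0 : e.Cent (setEl (nodeAt 0).gens) :=
  e.node_all (k := 0) 9 base0 closed0 (by decide +kernel)
    (fun q hq => by
      interval_cases q
      · exact tab0p0
      · exact tab0p1
      · exact tab0p2
      · exact tab0p3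
      · exact tab0p4
      · exact tab0p5
      · exact tab0p6
      · exact tab0p7
      · exact tab0p8)
    (fun q hq => by
      interval_cases q
      · exact perm0p0
      · exact perm0p1
      · exact perm0p2
      · exact perm0p3)
    (fun j h1 h2 => by
      have h3 : j < 6 := h2
      interval_cases j
      · exact e.cent1
      · exact e.cent2
      · exact e.cent3
      · exact e.cent4
      · exact e.cent5)

theorem Emb.cent_wC : e.Cent {wC} := by
  intro g hg
  refine e.cent0 g ?_
  rintro _ ⟨a, ha, rfl⟩
  have h : mOK a = true ∧ mEq a mW = true := by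
    revert a
    decide +kernel
  rw [(rep_el h.1).eq rep_wC h.2]
  exact hg _ rfl

end Cfsg.Agent.Spor.CoAmal
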