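import Cfsg.Agent.Lib.Spor.CoAmal.RecData

/-!
The involutions of the Mathieu group fixing the octad and the pair of dodecads.
-/

set_option autoImplicit false
set_option maxRecDepth 100000
set_option linter.style.haveILetI false

namespace Cfsg.Agent.Spor.CoAmal

open Cfsg Cfsg.Agent.Spor Cfsg.Agent.Spor.Co1Invol RecDat
open scoped Pointwise

/-- the list is of an involution -/
def isInvol (l : List ℕ) : Bool := leq (lmul l l) (List.range 24)

/-- the involutions -/
def invols : List (List ℕ) := (stab ++ stab.map (lmul swapL)).filter isInvol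

/-- five base points -/
def baseFive : List ℕ := inBoth ++ inDod.take 1

/-- every choice of images is listed -/
def transOK : Bool :=
  inBoth.all fun a => inBoth.all fun b => inBoth.all fun c => inBoth.all fun d => inDod.all fun e =>
    Nat.beq a b || Nat.beq a c || Nat.beq a d || Nat.beq b c || Nat.beq b d || Nat.beq c d ||
      stab.any fun l => leq (baseFive.map fun i => l.getD i 0) [a, b, c, d, e]

/-- facts about the lists -/
def stabOK : Bool :=
  stab.all (fun l => m24ok l && Nat.beq (pm l baseDod 0) baseDod) && m24ok swapL && isInvol swapL &&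
    Nat.beq (pm swapL (Nat.xor baseDod 16777215) 0) baseDod && Nat.beq (pm swapL octM 0) octM &&
    Nat.beq baseFive.length 5 &&
    baseFive.all (fun i => Nat.blt i 24 && Nat.testBit baseDod i) && baseFive.Nodup &&
    (List.range 24).all (fun i => inBoth.contains i == (Nat.testBit octM i && Nat.testBit baseDod i)) &&
    (List.range 24).all (fun i => inDod.contains i == (!Nat.testBit octM i && Nat.testBit baseDod i))

theorem stab_ok : stabOK = true := by decide +kernel

theorem trans_ok : transOK = true := by decide +kernel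

theorem range_lok : lok (List.range 24) = true := by decide +kernel

theorem mask_testBit {l : List ℕ} (hl : lok l = true) {m : ℕ} (hm : m < 2 ^ 24) {i : ℕ} (hi : i < 24)
    (he : pm l m 0 = m) : Nat.testBit m (l.getD i 0) = Nat.testBit m i := by
  have h1 := (rep_lperm hl) (pt i)
  rw [idx_pt i hi] at h1
  have h2 : lperm l • ofMask m = ofMask m := mask_injective (by rw [mask_smul_lperm hl, mask_ofMask hm, he])
  have h3 : lperm l (pt i) ∈ ofMask m ↔ pt i ∈ ofMask m := by
    conv_lhs => rw [← h2]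
    exact Finset.smul_mem_smul_finset_iff (lperm l)
  rw [mem_ofMask, mem_ofMask, ← h1, idx_pt i hi] at h3
  exact Bool.eq_iff_iff.2 h3

theorem pm_lmul {p q : List ℕ} (hp : lok p = true) (hq : lok q = true) {m : ℕ} (hm : m < 2 ^ 24) :
    pm (lmul p q) m 0 = pm p (pm q m 0) 0 := by
  obtain ⟨hl, he⟩ := lok_lmul hp hq
  have := mask_smul_lperm hl (ofMask m)
  rw [he, mul_smul, mask_smul_lperm hp, mask_smul_lperm hq, mask_ofMask hm] at this
  exact this.symm

theorem stab_complete {l : List ℕ} (hl : lok l = true) (hM : lperm l ∈ M24) (hD : pm l baseDod 0 = baseDod)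
    (hO : pm l octM 0 = octM) : l ∈ stab := by
  have hs := stab_ok
  simp only [stabOK, Bool.and_eq_true, List.all_eq_true, List.mem_range, beq_iff_eq, decide_eq_true_eq] at hs
  obtain ⟨⟨⟨⟨⟨⟨⟨⟨⟨hstab, -⟩, -⟩, -⟩, -⟩, hlen⟩, hfive⟩, hnd⟩, hB⟩, hE⟩ := hs
  have hOlt : octM < 2 ^ 24 := by norm_num [octM]
  have himg : ∀ i, i < 24 → l.getD i 0 < 24 := fun i hi => by
    have := rep_lperm hl (pt i); rw [idx_pt i hi] at this; rw [this]; exact idx_lt _
  have hb : ∀ i ∈ inBoth, l.getD i 0 ∈ inBoth := fun i hi => by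
    have hi24 : i < 24 := by revert i; decide +kernel
    have h := hB (l.getD i 0) (himg i hi24)
    rw [mask_testBit hl hOlt hi24 hO, mask_testBit hl baseDod_lt hi24 hD, ← hB i hi24] at h
    rw [List.contains_iff_mem.2 hi] at h
    exact List.contains_iff_mem.1 h
  have he : ∀ i ∈ inDod, l.getD i 0 ∈ inDod := fun i hi => by
    have hi24 : i < 24 := by revert i; decide +kernel
    have h := hE (l.getD i 0) (himg i hi24)
    rw [mask_testBit hl hOlt hi24 hO, mask_testBit hl baseDod_lt hi24 hD, ← hE i hi24] at h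
    rw [List.contains_iff_mem.2 hi] at h
    exact List.contains_iff_mem.1 h
  obtain ⟨a, b, c, d, e, hbase⟩ : ∃ a b c d e, baseFive = [a, b, c, d, e] := ⟨_, _, _, _, _, rfl⟩
  have hmem : a ∈ inBoth ∧ b ∈ inBoth ∧ c ∈ inBoth ∧ d ∈ inBoth ∧ e ∈ inDod := by
    have h1 : baseFive.take 4 = inBoth := by decide +kernel
    have h2 : baseFive.drop 4 = inDod.take 1 := by decide +kernel
    rw [hbase] at h1 h2
    simp only [List.take_succ_cons, List.take_zero, List.drop_succ_cons, List.drop_zero] at h1 h2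
    refine ⟨?_, ?_, ?_, ?_, List.mem_of_mem_take (i := 1) (by rw [← h2]; simp)⟩ <;> rw [← h1] <;> simp
  rw [hbase] at hnd hfive
  have hfive' : ∀ i ∈ [a, b, c, d, e], i < 24 ∧ Nat.testBit baseDod i = true := fun i hi =>
    ⟨Nat.le_of_ble_eq_true (hfive i hi).1, (hfive i hi).2⟩
  have hne : ∀ i ∈ [a, b, c, d, e], ∀ j ∈ [a, b, c, d, e], l.getD i 0 = l.getD j 0 → i = j := fun i hi j hj h => by
    have a1 := rep_lperm hl (pt i)
    have a2 := rep_lperm hl (pt j)
    rw [idx_pt i (hfive' i hi).1] at a1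
    rw [idx_pt j (hfive' j hj).1, ← h, a1] at a2
    have := congrArg idx ((lperm l).injective (idx_injective a2))
    rwa [idx_pt i (hfive' i hi).1, idx_pt j (hfive' j hj).1] at this
  have ht := trans_ok
  simp only [transOK, List.all_eq_true] at ht
  have h5 := ht _ (hb a hmem.1) _ (hb b hmem.2.1) _ (hb c hmem.2.2.1) _ (hb d hmem.2.2.2.1) _ (he e hmem.2.2.2.2)
  have hnd0 := hnd
  simp only [List.nodup_cons, List.mem_cons, not_or] at hnd
  have nb : ∀ i ∈ [a, b, c, d, e], ∀ j ∈ [a, b, c, d, e], i ≠ j → Nat.beq (l.getD i 0) (l.getD j 0) = false :=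
    fun i hi j hj hij => Bool.eq_false_iff.2 fun h => hij (hne i hi j hj (Nat.eq_of_beq_eq_true h))
  rw [nb a (by simp) b (by simp) hnd.1.1, nb a (by simp) c (by simp) hnd.1.2.1,
    nb a (by simp) d (by simp) hnd.1.2.2.1, nb b (by simp) c (by simp) hnd.2.1.1,
    nb b (by simp) d (by simp) hnd.2.1.2.1, nb c (by simp) d (by simp) hnd.2.2.1.1] at h5
  simp only [Bool.false_or, List.any_eq_true] at h5
  obtain ⟨k, hk, hkl⟩ := h5
  obtain ⟨hk1, hk2⟩ := hstab k hk
  have hkl' := leq_eq hkl
  rw [hbase] at hkl'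
  have heq : ∀ i ∈ [a, b, c, d, e], k.getD i 0 = l.getD i 0 := by
    simp only [List.map_cons, List.map_nil, List.cons.injEq, and_true] at hkl'
    obtain ⟨q1, q2, q3, q4, q5⟩ := hkl'
    intro i hi
    simp only [List.mem_cons, List.not_mem_nil, or_false] at hi
    rcases hi with rfl | rfl | rfl | rfl | rfl <;> assumption
  have hko := m24ok_lok hk1
  let x : Fin 5 ↪ GolayPt := ⟨fun i => pt ([a, b, c, d, e].get i), fun i j hij => by
    have := congrArg idx hij
    simp only at this
    rw [idx_pt _ (hfive' _ (List.get_mem _ _)).1, idx_pt _ (hfive' _ (List.get_mem _ _)).1] at this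
    exact List.nodup_iff_injective_get.1 hnd0 this⟩
  have hstabD : ∀ {p : List ℕ}, lok p = true → pm p baseDod 0 = baseDod → lperm p • ofMask baseDod = ofMask baseDod :=
    fun hp e' => mask_injective (by rw [mask_smul_lperm hp, mask_ofMask baseDod_lt, e'])
  have h1 := dodecad_fix_five baseDod_mem (g := (lperm k)⁻¹ * lperm l) (mul_mem (inv_mem (lperm_mem hk1)) hM)
    (by rw [mul_smul, hstabD hl hD, inv_smul_eq_iff, hstabD hko (Nat.eq_of_beq_eq_true hk2)]) x
    (fun i => by
      have h' := hfive' _ (List.get_mem [a, b, c, d, e] i)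
      show pt _ ∈ _
      rw [mem_ofMask, idx_pt _ h'.1]; exact h'.2)
    (fun i => by
      have h' := hfive' _ (List.get_mem [a, b, c, d, e] i)
      have a1 := rep_lperm hl (pt ([a, b, c, d, e].get i))
      have a2 := rep_lperm hko (pt ([a, b, c, d, e].get i))
      rw [idx_pt _ h'.1] at a1 a2
      show (lperm k).symm (lperm l (pt _)) = pt _
      rw [Equiv.symm_apply_eq]
      exact idx_injective (by rw [← a1, ← a2, heq _ (List.get_mem _ _)]))
  rw [lok_ext hl hko (inv_mul_eq_one.1 h1).symm]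
  exact hk

theorem invols_complete {l : List ℕ} (hl : lok l = true) (hM : lperm l ∈ M24) (hO : pm l octM 0 = octM)
    (hD : pm l baseDod 0 = baseDod ∨ pm l baseDod 0 = Nat.xor baseDod 16777215) (hi : isInvol l = true) :
    l ∈ invols := by
  refine List.mem_filter.2 ⟨?_, hi⟩
  rcases hD with hD | hD
  · exact List.mem_append_left _ (stab_complete hl hM hD hO)
  refine List.mem_append_right _ (List.mem_map.2 ⟨lmul swapL l, ?_, ?_⟩)
  · have hs := stab_ok
    simp only [stabOK, Bool.and_eq_true] at hs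
    obtain ⟨⟨⟨⟨⟨⟨⟨⟨⟨-, hsw⟩, -⟩, hswD⟩, hswO⟩, -⟩, -⟩, -⟩, -⟩, -⟩ := hs
    have hso := m24ok_lok hsw
    refine stab_complete (lok_lmul hso hl).1 ((lok_lmul hso hl).2 ▸ mul_mem (lperm_mem hsw) hM) ?_ ?_
    · rw [pm_lmul hso hl baseDod_lt, hD]; exact Nat.eq_of_beq_eq_true hswD
    · rw [pm_lmul hso hl (by norm_num [octM]), hO]; exact Nat.eq_of_beq_eq_true hswO
  · have hs := stab_ok
    simp only [stabOK, Bool.and_eq_true] at hs
    obtain ⟨⟨⟨⟨⟨⟨⟨⟨⟨-, hsw⟩, hinv⟩, -⟩, -⟩, -⟩, -⟩, -⟩, -⟩, -⟩ := hs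
    have hso := m24ok_lok hsw
    have h2 := (lok_lmul hso hl).1
    refine lok_ext (lok_lmul hso h2).1 hl ?_
    rw [(lok_lmul hso h2).2, (lok_lmul hso hl).2, ← mul_assoc, ← (lok_lmul hso hso).2, leq_eq hinv, lperm_one, one_mul]

end Cfsg.Agent.Spor.CoAmal
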