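import Cfsg.Agent.Lib.Spor.CoAmal.RecPerm

/-!
What the checks at a node of the recursion give.
-/

set_option autoImplicit false
set_option maxRecDepth 100000
set_option linter.style.haveILetI false

namespace Cfsg.Agent.Spor.CoAmal

open Cfsg Cfsg.Agent.Spor Cfsg.Agent.Spor.Co1Invol RecDat
open scoped Pointwise

/-- the elements of a list -/
def setEl (L : List MEl) : Set Cfsg.Spor.Co1 := {x | ∃ a ∈ L, el a = x}

theorem lmul_range_left {l : List ℕ} (hl : lok l = true) : lmul (List.range 24) l = l := by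
  obtain ⟨h, he⟩ := lok_lmul range_lok hl
  exact lok_ext h hl (by rw [he, lperm_one, one_mul])

theorem lmul_range_right {l : List ℕ} (hl : lok l = true) : lmul l (List.range 24) = l := by
  obtain ⟨h, he⟩ := lok_lmul hl range_lok
  exact lok_ext h hl (by rw [he, lperm_one, mul_one])

theorem pm_range {m : ℕ} (hm : m < 2 ^ 24) : pm (List.range 24) m 0 = m := by
  have h := mask_smul_lperm range_lok (ofMask m)
  rw [lperm_one, one_smul, mask_ofMask hm] at h
  exact h.symm

theorem mEq_perm {m n : MEl} (hm : lok m.1 = true) (hn : lok n.1 = true) (h : mEq m n = true) : m.1 = n.1 := by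
  simp only [mEq, Bool.and_eq_true] at h
  exact lok_ext hm hn (lperm_congr hm hn h.1)

theorem mEq_mask {m n : MEl} (h : mEq m n = true) : Nat.xor m.2 n.2 = 0 ∨ Nat.xor m.2 n.2 = 16777215 := by
  simp only [mEq, Bool.and_eq_true, Bool.or_eq_true] at h
  exact h.2.imp Nat.eq_of_beq_eq_true Nat.eq_of_beq_eq_true

theorem leq_refl : ∀ l : List ℕ, leq l l = true
  | [] => rfl
  | a :: l => by simp [leq, Nat.beq_refl, leq_refl l]

theorem peq_eq (a b : ℕ × ℕ) (h : peq a b = true) : a = b := by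
  simp only [peq, Bool.and_eq_true] at h
  exact Prod.ext (Nat.eq_of_beq_eq_true h.1) (Nat.eq_of_beq_eq_true h.2)

theorem seq'_eq (a b : ℕ × List ℕ) (h : seq' a b = true) : a = b := by
  simp only [seq', Bool.and_eq_true] at h
  exact Prod.ext (Nat.eq_of_beq_eq_true h.1) (leq_eq h.2)

theorem mem_xorSpan_self : ∀ {gs : List ℕ} {g : ℕ}, g ∈ gs → g ∈ xorSpan gs
  | h :: gs, g, hg => by
    simp only [xorSpan, List.mem_append, List.mem_map]
    rcases List.mem_cons.1 hg with rfl | hg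
    · exact Or.inr ⟨0, xorSpan_zero gs, Nat.zero_xor _⟩
    · exact Or.inl (mem_xorSpan_self hg)

theorem zip_maps {α β γ : Type} (f : α → β) (g : α → γ) : ∀ E : List α,
    List.zip (List.zip E (E.map f)) (E.map g) = E.map fun a => ((a, f a), g a)
  | [] => rfl
  | a :: E => by simp [zip_maps f g E]

theorem half_span : ∀ m ∈ codeMasks, m ∈ xorSpan halfBasis ∨ Nat.xor m 16777215 ∈ xorSpan halfBasis := by
  intro m hm
  refine xorSpan_induction (P := fun m => m ∈ xorSpan halfBasis ∨ Nat.xor m 16777215 ∈ xorSpan halfBasis)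
    (Or.inl (xorSpan_zero _)) (fun a b ha hb => ?_) (fun g hg => ?_) m hm
  · have e1 : ∀ x y z : ℕ, x ^^^ y ^^^ z = x ^^^ (y ^^^ z) := Nat.xor_assoc
    rcases ha with ha | ha <;> rcases hb with hb | hb
    · exact Or.inl (xorSpan_xor ha hb)
    · right
      have := xorSpan_xor ha hb
      rwa [show a ^^^ Nat.xor b 16777215 = Nat.xor (a ^^^ b) 16777215 from (Nat.xor_assoc _ _ _).symm] at this
    · right
      have := xorSpan_xor ha hb
      rwa [show Nat.xor a 16777215 ^^^ b = Nat.xor (a ^^^ b) 16777215 from by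
        show a ^^^ 16777215 ^^^ b = a ^^^ b ^^^ 16777215
        rw [Nat.xor_assoc, Nat.xor_comm 16777215 b, Nat.xor_assoc]] at this
    · left
      have := xorSpan_xor ha hb
      rwa [show Nat.xor a 16777215 ^^^ Nat.xor b 16777215 = a ^^^ b from by
        show a ^^^ 16777215 ^^^ (b ^^^ 16777215) = a ^^^ b
        rw [Nat.xor_assoc, Nat.xor_comm b, ← Nat.xor_assoc 16777215, Nat.xor_self, Nat.zero_xor]] at this
  · have h : g ∈ halfBasis ∨ g = 16777215 := by revert g; decide +kernel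
    rcases h with h | rfl
    · exact Or.inl (mem_xorSpan_self h)
    · exact Or.inr (by rw [show Nat.xor 16777215 16777215 = 0 from Nat.xor_self _]; exact xorSpan_zero _)

theorem xor_cases {c P D : ℕ} (h : Nat.xor (Nat.xor c P) (Nat.xor D c) = 0 ∨
    Nat.xor (Nat.xor c P) (Nat.xor D c) = 16777215) : P = D ∨ P = Nat.xor D 16777215 := by
  have e : Nat.xor (Nat.xor c P) (Nat.xor D c) = P ^^^ D := by
    show c ^^^ P ^^^ (D ^^^ c) = P ^^^ D
    apply Nat.eq_of_testBit_eq
    intro i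
    simp only [Nat.testBit_xor]
    cases Nat.testBit c i <;> cases Nat.testBit P i <;> cases Nat.testBit D i <;> rfl
  rw [e] at h
  rcases h with h | h
  · left
    apply Nat.eq_of_testBit_eq
    intro i
    have := congrArg (fun x => Nat.testBit x i) h
    simp only [Nat.testBit_xor, Nat.zero_testBit] at this
    revert this
    cases Nat.testBit P i <;> cases Nat.testBit D i <;> simp
  · right
    show P = D ^^^ 16777215
    rw [← h, Nat.xor_comm P D, ← Nat.xor_assoc, Nat.xor_self, Nat.zero_xor]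

theorem Rep1.flip {x : Cfsg.Spor.Co1} {m : MEl} (h : mOK m = true) (hx : Rep1 x m) :
    Rep1 x (m.1, Nat.xor m.2 16777215) ∧ mOK (m.1, Nat.xor m.2 16777215) = true := by
  have hok : mOK (m.1, Nat.xor m.2 16777215) = true := by
    simp only [mOK, Bool.and_eq_true] at h ⊢
    have hlt : m.2 < 2 ^ 24 := Nat.le_of_ble_eq_true h.2
    refine ⟨⟨h.1.1, code_facts.1 _ (codeMasks_xor (inCode_mem h.1.2) (by decide +kernel))⟩, ?_⟩
    exact Nat.ble_eq.mpr (Nat.xor_lt_two_pow (n := 24) hlt (by norm_num))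
  obtain ⟨y, hy⟩ := Rep1.of_ok hok
  have he : mEq m (m.1, Nat.xor m.2 16777215) = true := by
    simp only [mEq, Bool.and_eq_true, Bool.or_eq_true, List.all_eq_true, Nat.beq_refl, implies_true, true_and]
    right
    rw [show Nat.xor m.2 (Nat.xor m.2 16777215) = m.2 ^^^ (m.2 ^^^ 16777215) from rfl, ← Nat.xor_assoc, Nat.xor_self,
      Nat.zero_xor, Nat.beq_refl]
  exact ⟨hx.eq hy he ▸ hy, hok⟩

theorem octM_stab {l : List ℕ} (hl : lok l = true)
    (h : pm l octM 0 = octM ∨ pm l octM 0 = Nat.xor octM 16777215) : pm l octM 0 = octM := by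
  refine h.resolve_right fun e => ?_
  have hlt : octM < 2 ^ 24 := by norm_num [octM]
  have h1 : lperm l • ofMask octM = ofMask (Nat.xor octM 16777215) := mask_injective (by
    rw [mask_smul_lperm hl, mask_ofMask hlt, e, mask_ofMask (m := Nat.xor octM 16777215)
      (Nat.xor_lt_two_pow hlt (by norm_num))])
  have h2 := congrArg Finset.card h1
  rw [Finset.card_smul_finset] at h2
  revert h2
  decide +kernel

theorem rM_ok : mOK rM = true ∧ isA1 rM = true := by decide +kernel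

universe u

variable {G : Type u} [Group G] [Finite G] {z : G} {Q : Subgroup G} {S : Setting z Q} (e : Emb S)

theorem Emb.closed_comm {gens : List MEl} (hg : ∀ a ∈ gens, mOK a = true) {g : G}
    (hc : ∀ x ∈ setEl gens, Commute g (e.φ x)) : ∀ b ∈ mProds gens, ∃ y, Rep1 y b ∧ Commute g (e.φ y) := by
  induction gens with
  | nil =>
    intro b hb
    simp only [mProds, List.mem_singleton] at hb
    exact ⟨1, hb ▸ rep_one, by rw [map_one]; exact Commute.one_right _⟩
  | cons a L ih =>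
    intro b hb
    have ih' := ih (fun x hx => hg x (by simp [hx])) (fun x ⟨c, hc', e'⟩ => hc x ⟨c, by simp [hc'], e'⟩)
    simp only [mProds, List.mem_append, List.mem_map] at hb
    rcases hb with hb | ⟨c, hcm, rfl⟩
    · exact ih' b hb
    · obtain ⟨y, hy, hgy⟩ := ih' c hcm
      refine ⟨el a * y, (rep_el (hg a (by simp))).mul hy, ?_⟩
      rw [map_mul]
      exact (hc _ ⟨a, by simp, rfl⟩).mul_right hgy

theorem Emb.cent_gens {N : Node} (hc : closedOK N = true) (hE : ∀ a ∈ N.E, mOK a = true)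
    (h : e.Cent (setEl N.E)) : e.Cent (setEl N.gens) := by
  intro g hg
  refine h g ?_
  rintro _ ⟨a, ha, rfl⟩
  simp only [closedOK, Bool.and_eq_true, List.all_eq_true, List.any_eq_true] at hc
  obtain ⟨b, hb, hab⟩ := hc.2 a ha
  obtain ⟨y, hy, hgy⟩ := e.closed_comm hc.1 hg b hb
  rw [(rep_el (hE a ha)).eq hy hab]
  exact hgy

theorem Emb.node_cent {N : Node} {nodes : List Node} {k : ℕ} (hb : baseOK N = true)
    (htab : ∀ t ∈ N.tab, ∀ w ∈ t.2, witOK N nodes k (t.1, w.1) w.2 = true)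
    (hperm : ∀ σ ∈ invols, permOK N σ = true)
    (hgens : ∀ j, k < j → j < nodes.length → ∀ a ∈ (nodes.getD j ⟨[], [], mOne, mOne, [], []⟩).gens, mOK a = true)
    (hnext : ∀ j, k < j → j < nodes.length → e.Cent (setEl (nodes.getD j ⟨[], [], mOne, mOne, [], []⟩).gens)) :
    e.Cent (setEl N.E) := by
  simp only [baseOK, Bool.and_eq_true, Bool.or_eq_true, List.all_eq_true, List.any_eq_true, Bool.not_eq_true'] at hb
  obtain ⟨⟨⟨⟨⟨⟨⟨hE, hW⟩, hE1⟩, he1⟩, he1'⟩, hsok⟩, hsA⟩, hsA1⟩ := hb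
  have hEok : ∀ a ∈ N.E, mOK a = true := fun a ha => (hE a ha).1.1.1.1
  obtain ⟨a1, ha1, he1eq⟩ := hE1
  have hel1 : el N.e1 = el a1 := ((rep_el (hEok a1 ha1)).eq (rep_el he1) he1eq).symm
  have hnA : ∀ x ∈ setEl N.E, x ≠ 1 → ¬ InA (el rM * x) := by
    rintro _ ⟨a, ha, rfl⟩ hne hA
    rcases (hE a ha).2 with h1 | h1
    · exact hne ((rep_el (hEok a ha)).eq rep_one h1)
    · rw [isA_of ((rep_el rM_ok.1).mul (rep_el (hEok a ha))) hA] at h1
      cases h1
  refine e.step (r := el rM) (s := el N.s) (e1 := el N.e1) ⟨a1, ha1, hel1.symm⟩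
    ((rep_el he1).ne_one he1') (inA_of (rep_el rM_ok.1) rM_ok.2) (inA_of (rep_el hsok) hsA) ?_ ?_
    (inA_of ((rep_el hsok).mul (rep_el he1)) hsA1) hnA ?_
  · rintro _ ⟨a, ha, rfl⟩
    exact (rep_el rM_ok.1).comm (rep_el (hEok a ha)) (hE a ha).1.1.2
  · rintro _ ⟨a, ha, rfl⟩
    exact (rep_el hsok).comm (rep_el (hEok a ha)) (hE a ha).1.2
  intro u huu hu1 hur hru huE huA huEA
  have huni : ∀ a ∈ N.E, el a ≠ u := fun a ha e' =>
    hnA u ⟨a, ha, e'⟩ hu1 hru
  -- the element as a monomial element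
  obtain ⟨aw, haw, hawW⟩ := hW
  have hwC : el aw = wC := (rep_el (hEok aw haw)).eq rep_wC hawW
  obtain ⟨m0, hm0, hu0⟩ := exists_rep_of_comm (x := u) (hwC ▸ huE _ ⟨aw, haw, rfl⟩)
  obtain ⟨m, hm, hu, hspan⟩ : ∃ m, mOK m = true ∧ Rep1 u m ∧ m.2 ∈ xorSpan halfBasis := by
    have hc : m0.2 ∈ codeMasks := by
      simp only [mOK, Bool.and_eq_true] at hm0
      exact inCode_mem hm0.1.2
    rcases half_span _ hc with h | h
    · exact ⟨m0, hm0, hu0, h⟩
    · exact ⟨_, (hu0.flip hm0).2, (hu0.flip hm0).1, h⟩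
  obtain ⟨hl, hc2, gu, hgu, hgux⟩ := id hu
  have hM : lperm m.1 ∈ M24 := by
    simp only [mOK, Bool.and_eq_true] at hm
    exact lperm_mem hm.1.1
  have hinv : lmul m.1 m.1 = List.range 24 :=
    mEq_perm (m := mMul m m) (n := mOne) (lok_lmul hl hl).1 range_lok ((hu.mul hu).mEq_of (huu ▸ rep_one))
  have hEl : ∀ a ∈ N.E, lok a.1 = true ∧ a.2 < 2 ^ 24 := fun a ha => ⟨(rep_el (hEok a ha)).1, (rep_el (hEok a ha)).2.1⟩
  have hcomm : ∀ a ∈ N.E, mComm m a = true := fun a ha => hu.mComm_of (rep_el (hEok a ha)) (huE _ ⟨a, ha, rfl⟩)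
  have hperms : ∀ a ∈ N.E, lmul m.1 a.1 = lmul a.1 m.1 := fun a ha =>
    mEq_perm (m := mMul m a) (n := mMul a m) (lok_lmul hl (hEl a ha).1).1 (lok_lmul (hEl a ha).1 hl).1 (hcomm a ha)
  have hrange : ∀ {M : ℕ}, M < 2 ^ 24 → mComm m (List.range 24, M) = true →
      pm m.1 M 0 = M ∨ pm m.1 M 0 = Nat.xor M 16777215 := fun {M} _ h => by
    have h' : mEq (mMul m (List.range 24, M)) (mMul (List.range 24, M) m) = true := h
    have := mEq_mask h'
    simp only [mMul, pm_range hc2] at this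
    exact xor_cases this
  have hO : pm m.1 octM 0 = octM :=
    octM_stab hl (hrange (by norm_num [octM]) (hu.mComm_of (rep_el rM_ok.1) hur))
  have hD : pm m.1 baseDod 0 = baseDod ∨ pm m.1 baseDod 0 = Nat.xor baseDod 16777215 :=
    hrange baseDod_lt (hu.mComm_of rep_wC (hwC ▸ huE _ ⟨aw, haw, rfl⟩))
  have hσ : m.1 ∈ invols := invols_complete hl hM hO hD (by rw [isInvol, hinv]; exact leq_refl _)
  have hp := hperm _ hσ
  simp only [permOK, Bool.or_eq_true, Bool.not_eq_true', List.any_eq_true, Bool.and_eq_true] at hp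
  rcases hp with hp | ⟨R, hR, ⟨hRσ, hRok⟩, hcand⟩
  · rw [List.all_eq_true.2 fun a ha => by rw [hperms a ha]; exact leq_refl _] at hp
    cases hp
  have hRp : R.perm = m.1 := leq_eq hRσ
  simp only [rowOK, Bool.and_eq_true, List.all_eq_true, List.any_eq_true, Bool.or_eq_true, Bool.not_eq_true'] at hRok
  obtain ⟨⟨⟨⟨⟨⟨⟨⟨⟨hfix, hinfo⟩, hspanR⟩, hcompR⟩, hW0⟩, hClt⟩, hexpr⟩, hexmem⟩, hcompl⟩, hleft⟩ := hRok
  rw [hRp] at hfix hinfo hspanR hcompR hleft
  have hfix' := Nat.eq_of_beq_eq_true hfix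
  have hinfo' := beqL_eq peq_eq hinfo
  have hspan' := beqL_eq seq'_eq hspanR
  have hcomp' := beqL_eq seq'_eq hcompR
  -- the sign mask is fixed by the permutation
  have hrm : mMul rM m = (m.1, Nat.xor octM m.2) := by
    simp only [mMul, rM, lmul_range_left hl, pm_range hc2]
  have hrA : isA (m.1, Nat.xor octM m.2) = true := by
    have := isA_of ((rep_el rM_ok.1).mul hu) hru
    rwa [hrm] at this
  have hOlt : octM < 2 ^ 24 := by norm_num [octM]
  have hfixc : Nat.xor m.2 (pm m.1 m.2 0) = 0 := by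
    simp only [isA, mSq, Bool.and_eq_true] at hrA
    have := Nat.eq_of_beq_eq_true hrA.1.2
    rw [pm_xor hl hOlt hc2, hO] at this
    refine Eq.trans ?_ this
    show _ = octM ^^^ m.2 ^^^ (octM ^^^ pm m.1 m.2 0)
    apply Nat.eq_of_testBit_eq
    intro i
    show Nat.testBit (m.2 ^^^ pm m.1 m.2 0) i = _
    simp only [Nat.testBit_xor]
    cases Nat.testBit octM i <;> cases Nat.testBit m.2 i <;> cases Nat.testBit (pm m.1 m.2 0) i <;> rfl
  have hWlt : ∀ g ∈ R.span.map Prod.fst, g < 2 ^ 24 := fun g hg => by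
    obtain ⟨p, hp, rfl⟩ := List.mem_map.1 hg
    exact Nat.le_of_ble_eq_true (hW0 p hp).1
  have hClt' : ∀ g ∈ R.comp.map Prod.fst, g < 2 ^ 24 := fun g hg => by
    obtain ⟨p, hp, rfl⟩ := List.mem_map.1 hg
    exact Nat.le_of_ble_eq_true (hClt p hp)
  have hWfix : ∀ a ∈ xorSpan (R.span.map Prod.fst), a < 2 ^ 24 ∧ pm m.1 a 0 = a := by
    refine xorSpan_induction (P := fun a => a < 2 ^ 24 ∧ pm m.1 a 0 = a) ⟨by norm_num, pm_zero hl⟩
      (fun a b ha hb => ⟨Nat.xor_lt_two_pow ha.1 hb.1, ?_⟩) fun g hg => ⟨hWlt g hg, ?_⟩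
    · have := pm_xor hl ha.1 hb.1; rw [ha.2, hb.2] at this; exact this
    · obtain ⟨p, hp, rfl⟩ := List.mem_map.1 hg
      have h1 := Nat.eq_of_beq_eq_true (hW0 p hp).2
      rw [hspan'] at hp
      obtain ⟨q, -, rfl⟩ := List.mem_map.1 hp
      simp only [pmv, List.map_cons, List.headD_cons] at h1 ⊢
      calc pm m.1 q.1 0 = q.1 ^^^ (q.1 ^^^ pm m.1 q.1 0) := by rw [← Nat.xor_assoc, Nat.xor_self, Nat.zero_xor]
        _ = q.1 := by rw [show q.1 ^^^ pm m.1 q.1 0 = 0 from h1, Nat.xor_zero]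
  have hdec : ∃ a ∈ xorSpan (R.span.map Prod.fst), ∃ b ∈ xorSpan (R.comp.map Prod.fst), m.2 = a ^^^ b := by
    have hadd : ∀ x y : ℕ, (∃ a ∈ xorSpan (R.span.map Prod.fst), ∃ b ∈ xorSpan (R.comp.map Prod.fst), x = a ^^^ b) →
        (∃ a ∈ xorSpan (R.span.map Prod.fst), ∃ b ∈ xorSpan (R.comp.map Prod.fst), y = a ^^^ b) →
        ∃ a ∈ xorSpan (R.span.map Prod.fst), ∃ b ∈ xorSpan (R.comp.map Prod.fst), x ^^^ y = a ^^^ b := by
      rintro x y ⟨a, ha, b, hb, rfl⟩ ⟨a', ha', b', hb', rfl⟩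
      refine ⟨_, xorSpan_xor ha ha', _, xorSpan_xor hb hb', ?_⟩
      apply Nat.eq_of_testBit_eq
      intro i
      simp only [Nat.testBit_xor]
      cases Nat.testBit a i <;> cases Nat.testBit b i <;> cases Nat.testBit a' i <;> cases Nat.testBit b' i <;> rfl
    have h0 : ∃ a ∈ xorSpan (R.span.map Prod.fst), ∃ b ∈ xorSpan (R.comp.map Prod.fst), (0 : ℕ) = a ^^^ b :=
      ⟨0, xorSpan_zero _, 0, xorSpan_zero _, rfl⟩
    refine xorSpan_induction h0 hadd (fun g hg => ?_) _ hspan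
    rw [beqL_eq (fun a b h => Nat.eq_of_beq_eq_true h) hexpr] at hg
    obtain ⟨l, hl', rfl⟩ := List.mem_map.1 hg
    have hmem := hexmem l hl'
    clear hl' hg
    induction l with
    | nil => exact h0
    | cons x l ih =>
      refine hadd x _ ?_ (ih fun y hy => hmem y (by simp [hy]))
      obtain ⟨p, hp, hpx⟩ := hmem x (by simp)
      obtain rfl := Nat.eq_of_beq_eq_true hpx
      rcases List.mem_append.1 hp with hp | hp
      · exact ⟨p.1, mem_xorSpan_self (List.mem_map.2 ⟨p, hp, rfl⟩), 0, xorSpan_zero _, (Nat.xor_zero _).symm⟩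
      · exact ⟨0, xorSpan_zero _, p.1, mem_xorSpan_self (List.mem_map.2 ⟨p, hp, rfl⟩), (Nat.zero_xor _).symm⟩
  have hcW : m.2 ∈ xorSpan (R.span.map Prod.fst) := by
    obtain ⟨a, ha, b, hb, hab⟩ := hdec
    suffices hb0 : b = 0 by rw [hab, hb0, Nat.xor_zero]; exact ha
    have hblt := xorSpan_lt hClt' b hb
    have hbfix : Nat.xor b (pm m.1 b 0) = 0 := by
      have h := hfixc
      rw [hab, show a ^^^ b = Nat.xor a b from rfl, pm_xor hl (hWfix a ha).1 hblt, (hWfix a ha).2] at h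
      refine Eq.trans ?_ h
      show _ = a ^^^ b ^^^ (a ^^^ pm m.1 b 0)
      apply Nat.eq_of_testBit_eq
      intro i
      show Nat.testBit (b ^^^ pm m.1 b 0) i = _
      simp only [Nat.testBit_xor]
      cases Nat.testBit a i <;> cases Nat.testBit b i <;> cases Nat.testBit (pm m.1 b 0) i <;> rfl
    have hmem : (b, pmv [m.1] b) ∈ spanP 1 R.comp := by
      have hsp := spanP_eq (ls := [m.1]) (by simpa using hl) (bs := R.comp.map Prod.fst) hClt'
      rw [List.map_map, show ([m.1] : List (List ℕ)).length = 1 from rfl] at hsp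
      rw [show R.comp = R.comp.map ((fun g => (g, pmv [m.1] g)) ∘ Prod.fst) from hcomp', hsp]
      exact List.mem_map.2 ⟨b, hb, rfl⟩
    have hh := hcompl _ hmem
    rcases hh with hh | hh
    · simp only [pmv, List.map_cons, List.headD_cons] at hh
      rw [hbfix] at hh
      cases hh
    · exact Nat.eq_of_beq_eq_true hh
  -- the candidate
  have hpmem : (m.2, pmv (m.1 :: N.E.map Prod.fst) m.2) ∈ spanP (N.E.length + 1) R.span := by
    have hsp := spanP_eq (ls := m.1 :: N.E.map Prod.fst) (by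
      intro l hl'
      rcases List.mem_cons.1 hl' with rfl | hl'
      · exact hl
      · obtain ⟨a, ha, rfl⟩ := List.mem_map.1 hl'; exact (hEl a ha).1) (bs := R.span.map Prod.fst) hWlt
    rw [List.map_map, show (m.1 :: N.E.map Prod.fst).length = N.E.length + 1 by simp] at hsp
    rw [show R.span = R.span.map ((fun g => (g, pmv (m.1 :: N.E.map Prod.fst) g)) ∘ Prod.fst) from hspan', hsp]
    exact List.mem_map.2 ⟨_, hcW, rfl⟩
  have hk := List.all_eq_true.1 hcand _ hpmem
  have hzip : List.zip (List.zip N.E R.info) (pmv (m.1 :: N.E.map Prod.fst) m.2).tail =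
      N.E.map fun a => ((a, (pm m.1 a.2 0, fixM (lmul m.1 a.1))), pm a.1 m.2 0) := by
    rw [hinfo', pmv, List.map_cons, List.tail_cons, List.map_map]
    exact zip_maps _ _ _
  simp only [candOK] at hk
  rw [hzip, hfix'] at hk
  simp only [pmv, List.map_cons, List.headD_cons, hfixc, ← trF_eq, List.all_map, List.any_map, Function.comp_def,
    Bool.or_eq_true, Bool.not_eq_true', List.any_eq_true, Bool.and_eq_true] at hk
  rcases hk with ((hk | hk) | hk) | hk
  · exfalso
    have h1 : (N.E.all fun a => Nat.beq (Nat.xor (Nat.xor m.2 (pm m.1 a.2 0)) (Nat.xor a.2 (pm a.1 m.2 0))) 0 ||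
        Nat.beq (Nat.xor (Nat.xor m.2 (pm m.1 a.2 0)) (Nat.xor a.2 (pm a.1 m.2 0))) 16777215) = true :=
      List.all_eq_true.2 fun a ha => by
        rcases mEq_mask (m := mMul m a) (n := mMul a m) (hcomm a ha) with h | h <;>
          simp only [mMul] at h <;> rw [h] <;> rfl
    simp only [isA, Bool.and_eq_true] at hrA
    rw [h1, hrA.2] at hk
    cases hk
  · exfalso
    refine huA ((hu.inA_iff huu hu1).2 ?_)
    rw [hk, Bool.and_true]
    simp only [mSq, Bool.and_eq_true, List.all_eq_true]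
    refine ⟨fun i hi => ?_, by rw [hfixc]; rfl⟩
    rw [List.mem_range] at hi
    rw [hinv, List.getD_eq_getElem _ _ (by simpa using hi), List.getElem_range, Nat.beq_refl]
  · exfalso
    obtain ⟨a, ha, hcm, htr⟩ := hk
    obtain ⟨hla, ha2, ga, hga, hgax⟩ := rep_el (hEok a ha)
    have hc0 := Nat.eq_of_beq_eq_true hcm
    have hmask : Nat.xor m.2 (pm m.1 a.2 0) = Nat.xor a.2 (pm a.1 m.2 0) := Nat.xor_left_injective
      (x := Nat.xor a.2 (pm a.1 m.2 0)) (hc0.trans (Nat.xor_self _).symm)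
    have hgg : gu * ga = ga * gu := co0_ext fun v => by
      rw [mono_mul hgu hga, mono_mul hga hgu, actW_mask hl ha2, actW_mask hla hc2, ofMaskW_add, ofMaskW_add,
        ← (lok_lmul hl hla).2, ← (lok_lmul hla hl).2, hperms a ha, hmask]
    have hsa : ga * ga = 1 := (sq_one_iff hla ha2 hga).2 (hE a ha).1.1.1.2
    have hsu : gu * gu = 1 := (sq_one_iff hl hc2 hgu).2 (by
      simp only [mSq, Bool.and_eq_true, List.all_eq_true]
      refine ⟨fun i hi => ?_, by rw [hfixc]; rfl⟩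
      rw [List.mem_range] at hi
      rw [hinv, List.getD_eq_getElem _ _ (by simpa using hi), List.getElem_range, Nat.beq_refl])
    obtain ⟨hl3, hc3, hua⟩ := hu.mul (rep_el (hEok a ha))
    have hsq : (gu * ga) * (gu * ga) = 1 := by
      rw [mul_assoc, ← mul_assoc ga, ← hgg, mul_assoc gu ga, hsa, mul_one, hsu]
    have hmono : IsMono (gu * ga) (lperm (mMul m a).1) (ofMaskW (mMul m a).2) := fun v => by
      rw [mono_mul hgu hga, actW_mask hl ha2, ofMaskW_add, ← (lok_lmul hl hla).2]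
      rfl
    have hS : mSq (mMul m a) = true := (sq_one_iff hl3 hc3 hmono).1 hsq
    have hne : u * el a ≠ 1 := fun h1 => huni a ha (by
      have hvv : u * u = 1 := huu
      calc el a = u * (u * el a) := by rw [← mul_assoc, hvv, one_mul]
        _ = u := by rw [h1, mul_one])
    have hsq1 : u * el a * (u * el a) = 1 := by
      rw [← hgux, ← hgax, ← toCo1_mul, ← toCo1_mul, hsq]; rfl
    refine huEA _ ⟨a, ha, rfl⟩ (((hu.mul (rep_el (hEok a ha))).inA_iff hsq1 hne).2 ?_)
    rw [hS, Bool.true_and]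
    exact htr
  · -- a witness
    obtain ⟨c, hc, hcc⟩ := hk
    obtain rfl := Nat.eq_of_beq_eq_true hcc
    obtain ⟨w, hw, hwc⟩ := hleft _ hc
    obtain ⟨t, ht, hwt⟩ := List.mem_flatMap.1 hw
    obtain ⟨ht1, ht2⟩ := List.mem_filter.1 ht
    have hwit := htab t ht1 w hwt
    rw [leq_eq ht2, Nat.eq_of_beq_eq_true hwc] at hwit
    simp only [witOK, Bool.and_eq_true, List.all_eq_true] at hwit
    obtain ⟨⟨⟨⟨⟨-, hkj⟩, hjn⟩, hhok⟩, hlen⟩, hzipOK⟩ := hwit
    have hkj' := Nat.le_of_ble_eq_true hkj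
    have hjn' := Nat.le_of_ble_eq_true hjn
    intro g hg
    set φh := e.φ (el w.2.2.1) with hφh
    suffices hh : φh⁻¹ * g * φh ∈ S.H by
      have := mul_mem (mul_mem (e.mem (el w.2.2.1)) hh) (inv_mem (e.mem (el w.2.2.1)))
      rwa [← hφh, show φh * (φh⁻¹ * g * φh) * φh⁻¹ = g by group] at this
    refine hnext _ hkj' hjn' _ ?_
    rintro _ ⟨a, ha, rfl⟩
    have hlen' := Nat.eq_of_beq_eq_true hlen
    obtain ⟨i, hi, hia⟩ := List.getElem_of_mem ha
    obtain ⟨hidx, hEq⟩ := hzipOK (a, w.2.2.2[i]'(by omega)) (List.mem_iff_getElem.2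
      ⟨i, by rw [List.length_zip]; omega, by rw [List.getElem_zip, hia]⟩)
    simp only at hidx hEq
    set bi := w.2.2.2[i]'(by omega)
    have hidx' : bi < (N.ext (m.1, m.2)).length := Nat.le_of_ble_eq_true hidx
    rw [List.getD_eq_getElem _ _ hidx'] at hEq
    have hb := List.getElem_mem hidx'
    generalize (N.ext (m.1, m.2))[bi] = b at hb hEq
    obtain ⟨y, hy, hgy⟩ : ∃ y, Rep1 y b ∧ Commute g (e.φ y) := by
      simp only [Node.ext, List.mem_append, List.mem_map] at hb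
      rcases hb with hb | ⟨x, hx, rfl⟩
      · exact ⟨el b, rep_el (hEok b hb), hg _ (Set.mem_insert_of_mem _ ⟨b, hb, rfl⟩)⟩
      · exact ⟨u * el x, hu.mul (rep_el (hEok x hx)), by
          rw [map_mul]; exact (hg u (Set.mem_insert _ _)).mul_right (hg _ (Set.mem_insert_of_mem _ ⟨x, hx, rfl⟩))⟩
    have hconj : el w.2.2.1 * el a = y * el w.2.2.1 :=
      ((rep_el hhok).mul (rep_el (hgens _ hkj' hjn' a ha))).eq (hy.mul (rep_el hhok)) hEq
    have e2 : φh * e.φ (el a) * φh⁻¹ = e.φ y := by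
      rw [hφh, ← map_mul, hconj, map_mul, mul_inv_cancel_right]
    have := (Commute.conj_iff φh⁻¹).2 (e2.symm ▸ hgy)
    rwa [inv_inv, show φh⁻¹ * (φh * e.φ (el a) * φh⁻¹) * φh = e.φ (el a) by group] at this

end Cfsg.Agent.Spor.CoAmal
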