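import Cfsg.Agent.Lib.Spor.CoAmal.Suzuki
import Cfsg.Agent.Lib.Spor.CoAmal.Hall
import Cfsg.Agent.Lib.Spor.CoTypeFive.Central

/-!
Groups of Conway type: eight involutions satisfying the relations.
-/

set_option autoImplicit false
set_option maxRecDepth 100000
set_option linter.unusedSectionVars false
set_option linter.unusedSimpArgs false
set_option linter.style.haveILetI false

namespace Cfsg.Agent.Spor.CoAmal

open Cfsg.Agent.Spor.CC Equiv
open Cfsg.Agent.Classical Fin.NatCast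
open scoped commutatorElement

local notation "A5" => alternatingGroup (Fin 5)

/-- the points moved by two elements share a pair -/
def sharePair (g g' : A5) : Bool :=
  decide (∃ a b : Fin 5, (g : Perm (Fin 5)) a ≠ a ∧
    (((g : Perm (Fin 5)) a = (g' : Perm (Fin 5)) b ∧ a = b) ∨
      ((g : Perm (Fin 5)) a = b ∧ a = (g' : Perm (Fin 5)) b)))

theorem a5_swap : ∀ g : A5, g ^ 3 = 1 → g ≠ 1 → ∀ i j : Fin 5, i ≠ j → (g : Perm (Fin 5)) i = i →
    (g : Perm (Fin 5)) j = j → ∃ s : A5, s * s = 1 ∧ (g * s) ^ 3 = 1 ∧ (g * g * s) ^ 3 = 1 ∧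
      (s : Perm (Fin 5)) i = i ∧ (s : Perm (Fin 5)) j ≠ j ∧ s * g * s * g ≠ g * (s * g * s) ∧
      sharePair g (s * g * s) = true := by decide +kernel

theorem a5_invariant : ∀ g : A5, g ^ 3 = 1 → g ≠ 1 → ∀ i j : Fin 5, i ≠ j → (g : Perm (Fin 5)) i = i →
    (g : Perm (Fin 5)) j = j → ∀ x : Fin 5 → ZMod 2, x i = 0 → x j = 0 → (∀ k, x ((g : Perm (Fin 5)) k) = x k) →
      x 0 + x 1 + x 2 + x 3 + x 4 = 0 → ∀ k, x k = 0 := by decide +kernel

theorem wpt_sum : CoT.Five.wpt 0 + CoT.Five.wpt 1 + CoT.Five.wpt 2 + CoT.Five.wpt 3 + CoT.Five.wpt 4 = 0 := by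
  decide +kernel

theorem fixL_length : CoT.Five.Chk5.fixL.length = 16 := by decide +kernel

universe u

variable {G : Type u} [Group G] [Finite G] {z : G} {Q : Subgroup G}

theorem rels_of_relK_comm {A : Type*} [Group A] {m : ℕ → A} (h : ∀ r ∈ relK, wp m r = 1) (h2 : m 2 * m 2 = 1)
    (h5 : m 5 * m 5 = 1) (h6 : m 6 * m 6 = 1) : Commute (m 2) (m 5) ∧ Commute (m 2) (m 6) := by
  have key : ∀ {a b : A}, a * a = 1 → b * b = 1 → (a * b) ^ 2 = 1 → Commute a b := fun {a b} ha hb e => by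
    calc a * b = (a * b * (a * b)) * (b * a) := by
          simp only [mul_assoc]
          rw [← mul_assoc b b a, hb, one_mul, ha, mul_one]
      _ = b * a := by rw [← pow_two, e, one_mul]
  have e5 := h (powW 2 [2, 5]) (by simp [relK])
  have e6 := h (powW 2 [2, 6]) (by simp [relK])
  rw [wp, prod_powW] at e5 e6
  simp only [List.map_cons, List.map_nil, List.prod_cons, List.prod_nil, mul_one] at e5 e6
  exact ⟨key h2 h5 e5, key h2 h6 e6⟩

/-- the fixed part of the extraspecial subgroup is extraspecial of order thirty-two -/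
theorem five_R (h : CoT.Hyp z Q) {F : CoT.Frame z Q} {b : G} (P : CoT.Five.Five F b) :
    Cfsg.IsExtraspecial 2 ↥(Q ⊓ Subgroup.centralizer ({b} : Set G) : Subgroup G) ∧
      Nat.card ↥(Q ⊓ Subgroup.centralizer ({b} : Set G) : Subgroup G) = 32 := by
  classical
  set R : Subgroup G := Q ⊓ Subgroup.centralizer ({b} : Set G) with hR
  have mem : ∀ {q : G}, q ∈ R ↔ q ∈ Q ∧ CoT.Five.g0 • F.vec q = F.vec q := fun {q} =>
    ⟨fun hq => ⟨hq.1, (CoT.Five.memR h P hq.1).1 (Subgroup.mem_centralizer_singleton_iff.1 hq.2).symm⟩,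
      fun hq => CoT.Five.mem_R hq.1 ((CoT.Five.memR h P hq.1).2 hq.2)⟩
  have hfix : ∀ {v : CoT.V}, CoT.Five.g0 • v = v ↔ CoT.enc v ∈ CoT.Five.Chk5.fixL := fun {v} => by
    have e : CoT.enc (CoT.Five.g0 • v) = CoT.Chk.app (CoT.Chk.wp CoT.Five.Dat.g0w) (CoT.enc v) :=
      CoT.enc_osmul (CoT.we_cols CoT.Five.wlts.1) v
    constructor
    · intro hv
      refine List.mem_filter.2 ⟨List.mem_range.2 (CoT.enc_lt v), ?_⟩
      show Nat.beq _ _ = true
      rw [← e, hv, Nat.beq_refl]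
    · intro hv
      refine CoT.enc_injective (e.trans ?_)
      exact Nat.eq_of_beq_eq_true (List.mem_filter.1 hv).2
  -- the vectors
  let T : Type := {c // c ∈ CoT.Five.Chk5.fixL}
  haveI : Fintype T := Fintype.ofFinset CoT.Five.Chk5.fixL.toFinset fun c => List.mem_toFinset
  have hT : Nat.card T = 16 := by
    rw [Nat.card_eq_fintype_card, Fintype.card_of_subtype CoT.Five.Chk5.fixL.toFinset fun c => List.mem_toFinset,
      List.toFinset_card_of_nodup (show CoT.Five.Chk5.fixL.Nodup from (List.nodup_range).filter _), fixL_length]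
  have hT' : ∀ t : T, ∃ q, q ∈ R ∧ CoT.enc (F.vec q) = t.1 := fun t => by
    obtain ⟨q, hq, hv⟩ := F.vec_surj (CoT.vec t.1)
    have hlt : t.1 < 256 := List.mem_range.1 (List.mem_filter.1 t.2).1
    refine ⟨q, mem.2 ⟨hq, hfix.2 ?_⟩, ?_⟩ <;> rw [hv, CoT.enc_vec _ hlt]
    exact t.2
  choose rep hrep hrepv using hT'
  have hzR : z ∈ R := CoT.Five.mem_R (CoT.zQ h) P.comm
  have hz0 : F.vec z = 0 := (F.vec_zero z (CoT.zQ h)).2 (Or.inr rfl)
  let φ : T × Bool → R := fun p => ⟨bif p.2 then rep p.1 * z else rep p.1, by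
    cases p.2
    · exact hrep p.1
    · exact mul_mem (hrep p.1) hzR⟩
  have hφ : Function.Bijective φ := by
    constructor
    · rintro ⟨t, p⟩ ⟨t', p'⟩ e
      have e' : (bif p then rep t * z else rep t) = bif p' then rep t' * z else rep t' := congrArg Subtype.val e
      have hv : ∀ (s : T) (q : Bool), F.vec (bif q then rep s * z else rep s) = F.vec (rep s) := fun s q => by
        cases q
        · rfl
        · exact CoT.vec_mul_z F h (hrep s).1
      obtain rfl : t = t' := Subtype.ext (by rw [← hrepv t, ← hrepv t', ← hv t p, ← hv t' p', e'])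
      rcases p with _ | _ <;> rcases p' with _ | _ <;> first | rfl | skip
      · exact absurd (left_eq_mul.1 e') (CoT.z_ne h)
      · exact absurd (mul_eq_left.1 e') (CoT.z_ne h)
    · rintro ⟨q, hq⟩
      obtain ⟨hqQ, hqv⟩ := mem.1 hq
      set t : T := ⟨_, hfix.1 hqv⟩
      rcases CoT.vec_eq F hqQ (hrep t).1 h (CoT.enc_injective (hrepv t).symm) with e | e
      · exact ⟨(t, false), Subtype.ext e.symm⟩
      · exact ⟨(t, true), Subtype.ext e.symm⟩
  have hcard : Nat.card R = 32 := by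
    rw [← Nat.card_eq_of_bijective φ hφ, Nat.card_prod, hT]; simp
  refine ⟨?_, hcard⟩
  haveI : Fact (Nat.Prime 2) := ⟨Nat.prime_two⟩
  have hcen : ∀ a : R, a ∈ Subgroup.center R → a = 1 ∨ a = ⟨z, hzR⟩ := fun a ha => by
    obtain ⟨haQ, hav⟩ := mem.1 a.2
    have h0 : F.vec (a : G) = 0 := by
      by_contra h0
      obtain ⟨i, hi⟩ := CoT.Five.fix_dual h0 hav
      obtain ⟨r, hr, hrb, hrv, -⟩ := CoT.Five.exists_rw h P i
      have hc : Commute r (a : G) :=
        congrArg Subtype.val (Subgroup.mem_center_iff.1 ha ⟨r, CoT.Five.mem_R hr hrb⟩)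
      rw [← hrv, (F.comm_iff r hr (a : G) haQ).1 hc] at hi
      exact zero_ne_one hi
    rcases (F.vec_zero (a : G) haQ).1 h0 with e | e
    · exact Or.inl (Subtype.ext e)
    · exact Or.inr (Subtype.ext e)
  have hzc : (⟨z, hzR⟩ : R) ∈ Subgroup.center R :=
    Subgroup.mem_center_iff.2 fun q => Subtype.ext (CoT.Qz h q.2.1).eq
  refine Solv.isExtraspecial_of (IsPGroup.of_card (n := 5) (by rw [hcard]; norm_num)) ?_ (le_antisymm ?_ ?_)
    fun a => ?_
  · rw [Nat.card_eq_two_iff]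
    refine ⟨1, ⟨_, hzc⟩, fun e => CoT.z_ne h (congrArg (fun a : Subgroup.center R => ((a : R) : G)) e).symm,
      Set.eq_univ_of_forall fun a => ?_⟩
    rcases hcen a a.2 with e | e
    · exact Or.inl (Subtype.ext e)
    · exact Or.inr (Subtype.ext e)
  · rw [commutator_def, Subgroup.commutator_le]
    intro x _ y _
    rcases F.comm_or (y : G) y.2.1 (x : G) x.2.1 with e | e
    · rw [show ⁅x, y⁆ = 1 from commutatorElement_eq_one_iff_mul_comm.2 (Subtype.ext e)]
      exact one_mem _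
    · rw [show ⁅x, y⁆ = ⟨z, hzR⟩ from Subtype.ext (by
        show (x : G) * y * (x : G)⁻¹ * (y : G)⁻¹ = z
        rw [e, mul_assoc (y : G) x z, (CoT.Qz h x.2.1).eq]
        simp only [← mul_assoc]
        rw [mul_inv_cancel_right, (CoT.Qz h y.2.1).eq, mul_inv_cancel_right])]
      exact hzc
  · intro a ha
    rcases hcen a ha with rfl | rfl
    · exact one_mem _
    obtain ⟨r, hr, hrb, hrv, -⟩ := CoT.Five.exists_rw h P 0
    obtain ⟨s, hs, hsb, hsv, -⟩ := CoT.Five.exists_rw h P 1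
    have hp : CoT.pol (F.vec r) (F.vec s) = 1 := by
      rw [hrv, hsv, ((CoT.Five.form_row 0).2.2.2.2.2.2 1).1, if_neg (by decide)]
    obtain ⟨e1, -⟩ := CoT.Five.noncomm_conj (F := F) h hr hs hp
    have := Subgroup.commutator_mem_commutator (Subgroup.mem_top (⟨s⁻¹, inv_mem (CoT.Five.mem_R hs hsb)⟩ : R))
      (Subgroup.mem_top (⟨r, CoT.Five.mem_R hr hrb⟩ : R))
    rw [← commutator_def] at this
    convert this using 1
    refine Subtype.ext ?_
    show z = s⁻¹ * r * s⁻¹⁻¹ * r⁻¹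
    rw [show s⁻¹ * r * s⁻¹⁻¹ * r⁻¹ = s⁻¹ * (r * s * r⁻¹) by group, e1, inv_mul_cancel_left]
  · rcases F.sq_or (a : G) a.2.1 with e | e
    · rw [show a ^ 2 = 1 from Subtype.ext (by rw [SubmonoidClass.coe_pow, pow_two, e]; rfl)]; exact one_mem _
    · rw [show a ^ 2 = ⟨z, hzR⟩ from Subtype.ext (by rw [SubmonoidClass.coe_pow, pow_two, e])]; exact hzc

/-- eight involutions with the relations, and the position of the eighth -/
structure Setting (z : G) (Q : Subgroup G) where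
  /-- the context -/
  K : CoT.Three.Ctx z Q
  /-- the family -/
  m : ℕ → G
  m0 : m 0 = z
  rels : Rels8 m
  gen : K.L ≤ Subgroup.closure (m '' {x | x < 8})
  sz : Commute (m 7) z
  nocomm : ¬ Commute (K.F.π (CoT.cC sz) * CoT.Three.g0 * (K.F.π (CoT.cC sz))⁻¹) CoT.Three.g0
  meet : ∃ A B : CoT.V, CoT.Three.g0 • A + A ≠ 0 ∧
    K.F.π (CoT.cC sz) • (CoT.Three.g0 • B + B) = CoT.Three.g0 • A + A

theorem exists_setting (h : CoT.Hyp z Q) : Nonempty (Setting z Q) := by
  classical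
  haveI : Fact (Nat.Prime 5) := ⟨by norm_num⟩
  haveI : IsSimpleGroup A5 := alternatingGroup.isSimpleGroup (by rw [Nat.card_fin])
  obtain ⟨F⟩ := CoT.exists_frame h
  obtain ⟨y, hyz, y3, piy⟩ := CoT.Three.exists_lift3 F h CoT.Three.rot0.cube
  let K : CoT.Three.Ctx z Q := ⟨h, F, y, hyz, y3, piy⟩
  obtain ⟨T⟩ := exists_lifts K
  obtain ⟨m5, hmo, hmz, hmb, hmf, hmg, hmy⟩ := T.five
  have hf0 : F.vec T.f ≠ 0 := fun e => by
    rcases (F.vec_zero _ T.fQ).1 e with e' | e'
    · exact T.fg_ne (e' ▸ Commute.one_left _)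
    · exact T.fg_ne (by rw [e']; exact (CoT.Qz h T.gQ).symm)
  obtain ⟨F', m', P, hzp⟩ := CoT.Five.exists_five F h hmo hmz T.fQ hf0 hmf
  have hm' : ∀ {v : G}, Commute m5 v → Commute v m' := fun {v} hv => by
    obtain ⟨i, hi⟩ := Subgroup.mem_zpowers_iff.1 (hzp ▸ Subgroup.mem_zpowers m' : m' ∈ Subgroup.zpowers m5)
    rw [← hi]
    exact (hv.symm).zpow_right i
  obtain ⟨hR, hR32⟩ := five_R h P
  obtain ⟨E⟩ := CoT.Five.exists_proj h P hR hR32
  set eσ := MulEquiv.ofBijective E.σ (CoT.Five.σ_bij E P.pow) with heσ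
  -- elements of the layer
  have inLay : ∀ {v : G} (hv : Commute m5 v) {n : ℕ}, v ^ n = 1 → Nat.Coprime 5 n →
      ∃ l : CoT.Five.Lay m', ((l : CoT.Five.CB m') : G) = v := fun {v} hv n hn hc =>
    ⟨⟨⟨v, Subgroup.mem_centralizer_singleton_iff.2 (hm' hv).eq⟩, CoT.Five.mem_lay E P.pow _ (n := n) hn hc⟩, rfl⟩
  obtain ⟨lz, hlz⟩ := inLay hmz (n := 2) (by rw [pow_two]; exact CoT.zz h) (by norm_num)
  obtain ⟨lb, hlb⟩ := inLay hmb (n := 2) (by rw [pow_two]; exact T.bb) (by norm_num)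
  obtain ⟨ly, hly⟩ := inLay hmy (n := 3) y3 (by norm_num)
  have coe_inj : Function.Injective (fun l : CoT.Five.Lay m' => ((l : CoT.Five.CB m') : G)) := fun l l' e =>
    Subtype.ext (Subtype.ext e)
  set toG : CoT.Five.Lay m' →* G := (CoT.Five.CB m').subtype.comp (CoT.Five.Lay m').subtype with htoG
  have toG_inj : Function.Injective toG := coe_inj
  have hσz : eσ lz = Lie.J2Cert.tJ 0 := by
    rw [← E.z_img]
    show E.e (lz : CoT.Five.CB m') = _
    exact congrArg E.e (Subtype.ext hlz)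
  have tr : ∀ {l l' : CoT.Five.Lay m'}, Commute (toG l) (toG l') → Commute (eσ l) (eσ l') := fun hc =>
    (show Commute _ _ from toG_inj (by rw [map_mul, map_mul]; exact hc.eq)).map eσ.toMonoidHom
  have hord : ∀ l : CoT.Five.Lay m', orderOf (eσ l) = orderOf (toG l) := fun l => by
    rw [MulEquiv.orderOf_eq, orderOf_injective toG toG_inj]
  have hgz : toG lz = z := hlz
  have hgb : toG lb = T.b := hlb
  have hgy : toG ly = y := hly
  have hzr : toG lz * toG (lz * lb) * (toG lz)⁻¹ = (toG (lz * lb))⁻¹ := by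
    rw [map_mul, hgz, hgb, mul_inv_rev, inv_eq_of_mul_eq_one_right T.bb, ← mul_assoc z z, CoT.zz h, one_mul]
  have hyb : Commute y T.b := (T.comm_y 1).symm
  obtain ⟨χJ, hχJ, hχc, hχy⟩ := Hall.exists_a5 Lie.J2Unique.j2_hyp (r := eσ (lz * lb)) (y := eσ ly)
    (by rw [hord, map_mul, hgz, hgb]; exact T.zb5)
    (by
      rw [← hσz, ← map_inv, ← map_inv, ← map_mul, ← map_mul]
      refine congrArg eσ (toG_inj ?_)
      rw [map_mul, map_mul, map_inv, map_inv]
      exact hzr)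
    (by
      rw [hord, hgy]
      haveI : Fact (Nat.Prime 3) := ⟨Nat.prime_three⟩
      exact orderOf_eq_prime y3 K.y_ne)
    (by rw [← hσz]; exact tr (by rw [hgy, hgz]; exact hyz))
    (tr (by rw [map_mul, hgy, hgz, hgb]; exact hyz.mul_right hyb))
  set χ : A5 →* G := toG.comp (eσ.symm.toMonoidHom.comp χJ) with hχdef
  have hχinj : Function.Injective χ := toG_inj.comp (eσ.symm.injective.comp hχJ)
  have hχz : ∀ σ, Commute (χ σ) z := fun σ => by
    have := (hχc σ).1.map eσ.symm.toMonoidHom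
    rw [← hσz] at this
    simp only [MulEquiv.coe_toMonoidHom, MulEquiv.symm_apply_apply] at this
    rw [← hgz]
    exact this.map toG
  have hχb : ∀ σ, Commute (χ σ) T.b := fun σ => by
    have h2 := ((hχc σ).2.map eσ.symm.toMonoidHom).map toG
    simp only [MulEquiv.coe_toMonoidHom, MulEquiv.symm_apply_apply, map_mul, hgz, hgb] at h2
    have h3 := (hχz σ).mul_right h2
    rwa [← mul_assoc, CoT.zz h, one_mul] at h3
  have hχy' : χ Hall.y0 = y := by
    show toG (eσ.symm (χJ Hall.y0)) = y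
    rw [hχy, MulEquiv.symm_apply_apply, hgy]
  have hχlay : ∀ σ, ∃ l : CoT.Five.Lay m', toG l = χ σ := fun σ => ⟨_, rfl⟩
  have hχm : ∀ σ, Commute (χ σ) m' := fun σ =>
    Subgroup.mem_centralizer_singleton_iff.1 ((eσ.symm (χJ σ) : CoT.Five.Lay m') : CoT.Five.CB m').2
  -- the action on the five points
  let π' : A5 →* CoT.Ga := F'.π.comp (χ.codRestrict _ fun σ => CoT.mem_C.2 (hχz σ))
  have hπ' : ∀ σ, π' σ = F'.π (CoT.cC (hχz σ)) := fun σ => rfl
  let π0 : A5 →* CoT.Five.C0 := π'.codRestrict CoT.Five.C0 fun σ => CoT.Five.mem_C0.2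
    (CoT.Five.pi_comm P (d := CoT.cC (hχz σ)) (hχm σ))
  let φ : A5 →* A5 := CoT.Five.psi.comp π0
  have hφspec : ∀ σ i, π' σ • CoT.Five.wpt i = CoT.Five.wpt ((φ σ : Perm (Fin 5)) i) := fun σ i =>
    CoT.Five.psi_spec (π0 σ) i
  have hyQ : y ∉ Q := K.y_not_mem
  have hφy : φ Hall.y0 ≠ 1 := fun e => by
    obtain ⟨n, hn⟩ := CoT.Five.psi_ker e
    change π' Hall.y0 = CoT.Five.g0 ^ n at hn
    have h3 : π' Hall.y0 ^ 3 = 1 := by rw [← map_pow, Hall.y0_facts.1, map_one]
    have h5 : π' Hall.y0 ^ 5 = 1 := by rw [hn, ← pow_mul, mul_comm, pow_mul, CoT.Five.g0_five, one_pow]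
    have h1 : π' Hall.y0 = 1 := orderOf_eq_one_iff.1 (Nat.eq_one_of_dvd_coprimes (by norm_num : Nat.Coprime 3 5)
      (orderOf_dvd_of_pow_eq_one h3) (orderOf_dvd_of_pow_eq_one h5))
    refine hyQ ?_
    rw [← hχy']
    exact (F'.π_ker _).1 h1
  have hφ : Function.Bijective φ := Finite.injective_iff_bijective.1 ((MonoidHom.ker_eq_bot_iff φ).1
    (((inferInstance : φ.ker.Normal).eq_bot_or_eq_top).resolve_right fun e =>
      hφy (MonoidHom.mem_ker.1 (e ▸ Subgroup.mem_top _))))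
  have hK : ∀ σ, π' σ ∈ CoT.Five.K := by
    have htop : CoT.Five.K.comap π' = ⊤ := a5_top fun σ hσ => by
      have hc : Commute (π' σ) CoT.Five.g0 := CoT.Five.pi_comm P (d := CoT.cC (hχz σ)) (hχm σ)
      obtain ⟨n, hn⟩ := CoT.Five.exists_shift hc
      set k := (CoT.Five.g0 ^ n)⁻¹ * π' σ with hk
      have hkK : k ∈ CoT.Five.K := fun i => by rw [hk, mul_smul, hn, inv_smul_smul]
      have hcn : Commute (CoT.Five.g0 ^ n) (π' σ) := (hc.symm).pow_left n
      have h3 : (CoT.Five.g0 ^ n) ^ 3 = (k ^ 3)⁻¹ := by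
        rw [hk, hcn.inv_left.mul_pow, ← map_pow π', hσ, map_one, mul_one, inv_pow, inv_inv]
      have h3' : CoT.Five.g0 ^ (n * 3) • CoT.Five.upt 0 = CoT.Five.upt 0 := by
        rw [pow_mul, h3]
        exact inv_mem (pow_mem hkK 3) 0
      rw [(CoT.Five.g0_pow _ _).2, zero_add] at h3'
      have hn3 := congrArg Fin.val (CoT.Five.upt_inj h3')
      rw [Fin.val_natCast, Fin.val_zero] at hn3
      have hn0 : CoT.Five.g0 ^ n = 1 := by
        rw [← orderOf_dvd_iff_pow_eq_one, CoT.Five.g0_order]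
        omega
      show π' σ ∈ CoT.Five.K
      rw [hk, hn0, inv_one, one_mul] at hkK
      exact hkK
    exact fun σ => htop.symm.le (Subgroup.mem_top σ)
  -- the two fixed points
  have point : ∀ {q : G}, q ∈ Q → q * q = 1 → Commute m5 q → F'.vec q ≠ 0 → ∃ i, F'.vec q = CoT.Five.wpt i :=
    fun {q} hq hqq hmq hne => CoT.Five.singW hne ((F'.sq_iff q hq).1 hqq)
      ((CoT.Five.memR h P hq).1 (hm' hmq).symm)
  have hvf : ∀ {q q' : G}, q ∈ Q → q' ∈ Q → ¬ Commute q q' → F'.vec q ≠ 0 := fun {q q'} hq hq' hn e => by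
    rcases (F'.vec_zero q hq).1 e with e' | e'
    · exact hn (e' ▸ Commute.one_left _)
    · exact hn (by rw [e']; exact (CoT.Qz h hq').symm)
  obtain ⟨i, hi⟩ := point T.fQ T.ff hmf (hvf T.fQ T.gQ T.fg_ne)
  obtain ⟨j, hj⟩ := point T.gQ T.gg hmg (hvf T.gQ T.fQ fun e => T.fg_ne e.symm)
  have hij : i ≠ j := fun e => T.fg_ne ((F'.comm_iff _ T.fQ _ T.gQ).2 (by
    rw [hi, hj, ((CoT.Five.form_row i).2.2.2.2.2.2 j).1, if_pos e]))
  have conjv : ∀ (σ : A5) {q : G}, q ∈ Q → F'.vec (χ σ * q * (χ σ)⁻¹) = π' σ • F'.vec q := fun σ q hq =>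
    F'.vec_conj (CoT.cC (hχz σ)) q hq
  have fixpt : ∀ {q : G}, q ∈ Q → Commute q y → π' Hall.y0 • F'.vec q = F'.vec q := fun {q} hq hqy => by
    rw [← conjv _ hq, hχy', hqy.symm.eq, mul_inv_cancel_right]
  set gy : A5 := φ Hall.y0 with hgyd
  have hgy3 : gy ^ 3 = 1 := by rw [hgyd, ← map_pow, Hall.y0_facts.1, map_one]
  have hyi : (gy : Perm (Fin 5)) i = i := CoT.Five.wpt_inj (by
    rw [← hφspec, ← hi]; exact fixpt T.fQ (T.comm_y 5))
  have hyj : (gy : Perm (Fin 5)) j = j := CoT.Five.wpt_inj (by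
    rw [← hφspec, ← hj]; exact fixpt T.gQ (T.comm_y 6))
  obtain ⟨sp, s2, s3, s4, si, sj, snc, shp⟩ := a5_swap gy hgy3 hφy i j hij hyi hyj
  obtain ⟨σs, hσs⟩ := hφ.2 sp
  have e2 : σs * σs = 1 := hφ.1 (by rw [map_mul, hσs, s2, map_one])
  have e3 : (Hall.y0 * σs) ^ 3 = 1 := hφ.1 (by rw [map_pow, map_mul, hσs, map_one]; exact s3)
  have e4 : (Hall.y0 * Hall.y0 * σs) ^ 3 = 1 := hφ.1 (by rw [map_pow, map_mul, map_mul, hσs, map_one]; exact s4)
  set s := χ σs with hs
  have hs2 : s * s = 1 := by rw [hs, ← map_mul, e2, map_one]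
  have hsf : Commute s T.f := by
    have hfix : π' (Hall.y0 * Hall.y0 * σs) • F'.vec T.f = F'.vec T.f := by
      rw [hi, hφspec, map_mul, map_mul, hσs]
      show CoT.Five.wpt ((gy : Perm (Fin 5)) ((gy : Perm (Fin 5)) ((sp : Perm (Fin 5)) i))) = _
      rw [si, hyi, hyi]
    have hc : Commute (χ (Hall.y0 * Hall.y0 * σs)) T.f :=
      CoT.Five.fix_comm F' h (c := CoT.cC (hχz _)) (n := 3) ⟨1, rfl⟩
        (by show χ _ ^ 3 = 1; rw [← map_pow, e4, map_one]) T.fQ hfix
    have e : s = y * χ (Hall.y0 * Hall.y0 * σs) := by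
      rw [hs, ← hχy', ← map_mul, ← mul_assoc, ← mul_assoc,
        show Hall.y0 * Hall.y0 * Hall.y0 = 1 by rw [← pow_three', Hall.y0_facts.1], one_mul]
    rw [e]
    exact (T.comm_y 5).symm.mul_left hc
  have hsc : ∀ σ, Commute (χ σ) T.c := by
    have hcom : ∀ {q : G}, q ∈ Q → Commute T.c q → CoT.pol (F'.vec T.c) (F'.vec q) = 0 := fun hq hc =>
      (F'.comm_iff _ T.cQ _ hq).1 hc
    have RR := rels_of_relK_comm T.rel
    have hU : CoT.Five.InU (F'.vec T.c) := a5_invariant gy hgy3 hφy i j hij hyi hyj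
      (fun k => CoT.pol (F'.vec T.c) (CoT.Five.wpt k))
      (by show CoT.pol _ (CoT.Five.wpt i) = 0; rw [← hi]; exact hcom T.fQ (RR T.cc T.ff T.gg).1)
      (by show CoT.pol _ (CoT.Five.wpt j) = 0; rw [← hj]; exact hcom T.gQ (RR T.cc T.ff T.gg).2)
      (fun k => by
        show CoT.pol _ (CoT.Five.wpt _) = CoT.pol _ (CoT.Five.wpt k)
        conv_lhs => rw [← hφspec, ← fixpt T.cQ (T.comm_y 2)]
        exact CoT.smul_pol _ _ _)
      (by simp only [← CoT.pol_add_right, wpt_sum, CoT.pol_zero_right])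
    intro σ
    have htop : (Subgroup.centralizer ({T.c} : Set G)).comap χ = ⊤ := a5_top fun τ hτ =>
      Subgroup.mem_centralizer_singleton_iff.2 (CoT.Five.fix_comm F' h (c := CoT.cC (hχz τ)) (n := 3) ⟨1, rfl⟩
        (by show χ τ ^ 3 = 1; rw [← map_pow, hτ, map_one]) T.cQ (CoT.Five.K_fix_InU (hK τ) hU)).eq
    exact Subgroup.mem_centralizer_singleton_iff.1 (htop.symm.le (Subgroup.mem_top σ))
  -- the complement of the layer
  set Xc := Subgroup.centralizer (((CoT.Five.Lay m').map (CoT.Five.CB m').subtype : Subgroup G) : Set G) with hXc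
  have hXlay : ∀ {a : G}, a ∈ Xc → ∀ l : CoT.Five.Lay m', Commute a (toG l) := fun ha l =>
    (Subgroup.mem_centralizer_iff.1 ha _ ⟨l, l.2, rfl⟩).symm
  obtain ⟨hdX, heX⟩ := T.cent Xc (CoT.Five.central E h P) fun a ha =>
    ⟨by have := hXlay ha ly; rwa [hgy] at this, by have := hXlay ha lz; rwa [hgz] at this,
      by have := hXlay ha lb; rwa [hgb] at this⟩
  have hsd : Commute s T.d := by
    obtain ⟨l, hl⟩ := hχlay σs
    rw [hs, ← hl]; exact (hXlay hdX l).symm
  have hse : Commute s T.e := by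
    obtain ⟨l, hl⟩ := hχlay σs
    rw [hs, ← hl]; exact (hXlay heX l).symm
  set m : ℕ → G := fun x => [z, T.b, T.c, T.d, T.e, T.f, T.g, s].getD x 1 with hmdef
  have hm7 : ∀ x, x < 7 → m x = seq7 z T.b T.c T.d T.e T.f T.g x := fun x hx => by interval_cases x <;> rfl
  have hsq : ∀ x, m x * m x = 1 := fun x => by
    rcases x with _ | _ | _ | _ | _ | _ | _ | _ | x
    exacts [CoT.zz h, T.bb, T.cc, T.dd, T.ee, T.ff, T.gg, hs2, one_mul 1]
  -- the fourth power
  have hgs : (T.g * s) ^ 4 = z := by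
    set g' := s * T.g * s with hg'
    have hsi : s⁻¹ = s := inv_eq_of_mul_eq_one_right hs2
    have hg'c : g' = χ σs * T.g * (χ σs)⁻¹ := by rw [hg', ← hs, hsi]
    have hg'Q : g' ∈ Q := hg'c ▸ h.norm _ (hχz σs) _ T.gQ
    have hv : F'.vec g' = CoT.Five.wpt ((sp : Perm (Fin 5)) j) := by
      rw [hg'c, conjv _ T.gQ, hj, hφspec, hσs]
    have hp : CoT.pol (F'.vec T.g) (F'.vec g') = 1 := by
      rw [hj, hv, ((CoT.Five.form_row j).2.2.2.2.2.2 _).1, if_neg (Ne.symm sj)]
    obtain ⟨ec, -⟩ := CoT.Five.noncomm_conj (F := F') h T.gQ hg'Q hp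
    have hg'2 : g' * g' = 1 := by
      rw [hg'c, conj_mul, T.gg]; group
    rw [inv_eq_of_mul_eq_one_right T.gg] at ec
    calc (T.g * s) ^ 4 = (T.g * g' * T.g) * g' := by
          rw [hg']; simp only [pow_succ, pow_zero, one_mul, mul_assoc]
      _ = g' * (z * g') := by rw [ec, mul_assoc]
      _ = z := by rw [← (CoT.Qz h hg'Q).eq, ← mul_assoc, hg'2, one_mul]
  -- the product with the central element
  have hys : ((T.b * T.f * T.g) ^ 5 * s) ^ 3 = 1 := by
    obtain ⟨k, hk3, hk⟩ := K.exists_nat T.x_mem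
    rw [hk]
    change (y ^ k * s) ^ 3 = 1
    interval_cases k
    · exact absurd (hk.trans (pow_zero _)) T.x_ne
    · rw [pow_one, ← hχy', hs, ← map_mul, ← map_pow, e3, map_one]
    · rw [pow_two, ← hχy', hs, ← map_mul, ← map_mul, ← map_pow, e4, map_one]
  have R8 : Rels8 m :=
    { sq := hsq
      relK := fun r hr => by
        rw [← T.rel r hr, wp, wp]
        exact congrArg List.prod (List.map_congr_left fun x hx => hm7 x (relK_lt r hr x hx))
      comm := fun x hx => by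
        show Commute s (m x)
        interval_cases x
        exacts [hχz σs, hχb σs, hsc σs, hsd, hse, hsf]
      relS := fun r hr => by
        simp only [relS, List.mem_cons, List.not_mem_nil, or_false] at hr
        rcases hr with rfl | rfl | rfl | rfl
        · rfl
        · simpa [wp] using hsq 7
        · rw [wp_append, wp, wp, prod_powW]
          simpa [m, hgs] using CoT.zz h
        · rw [wp, prod_powW, List.map_append, List.prod_append, xW, prod_powW]
          simpa [m, mul_assoc] using hys }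
  have hsz : Commute (m 7) z := hχz σs
  refine ⟨{ K := K, m := m, m0 := rfl, rels := R8, gen := ?_, sz := hsz, nocomm := ?_, meet := ?_ }⟩
  · refine T.gen.trans (Subgroup.closure_mono ?_)
    rintro _ ⟨x, hx, rfl⟩
    exact ⟨x, Nat.lt_succ_of_lt hx, hm7 x hx⟩
  · intro hc
    change Commute (F.π (CoT.cC (hχz σs)) * CoT.Three.g0 * (F.π (CoT.cC (hχz σs)))⁻¹) CoT.Three.g0 at hc
    have hsys : Commute (s * y * s⁻¹) z := ((hχz σs).mul_left hyz).mul_left (hχz σs).inv_left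
    set c' := CoT.cC hsys
    set cy := CoT.cC hyz
    have h1 : F.π (c' * cy) = F.π (cy * c') := by
      rw [map_mul, map_mul, show F.π cy = CoT.Three.g0 from piy,
        show F.π c' = _ from CoT.Three.pi_conj F (hχz σs) hyz, piy]
      exact hc.eq
    have h2 : F'.π (c' * cy) = F'.π (cy * c') := by
      have hQ : (((c' * cy)⁻¹ * (cy * c') : Subgroup.centralizer ({z} : Set G)) : G) ∈ Q :=
        (F.π_ker _).1 (by rw [map_mul, map_inv, h1, inv_mul_cancel])
      have := (F'.π_ker _).2 hQ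
      rwa [map_mul, map_inv, inv_mul_eq_one] at this
    have h3 : π' (σs * Hall.y0 * σs⁻¹ * Hall.y0) = π' (Hall.y0 * (σs * Hall.y0 * σs⁻¹)) := by
      show F'.π _ = F'.π _
      refine Eq.trans (congrArg F'.π (Subtype.ext ?_)) (h2.trans (congrArg F'.π (Subtype.ext ?_)))
      · show χ _ = s * y * s⁻¹ * y
        simp only [map_mul, map_inv, hχy', hs]
      · show y * (s * y * s⁻¹) = χ _
        simp only [map_mul, map_inv, hχy', hs]
    refine snc ?_
    have h4 := congrArg (fun σ => φ σ) (show σs * Hall.y0 * σs⁻¹ * Hall.y0 = Hall.y0 * (σs * Hall.y0 * σs⁻¹) from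
      hφ.1 (congrArg CoT.Five.psi (Subtype.ext h3)))
    simp only [map_mul, map_inv, hσs, inv_eq_of_mul_eq_one_right s2] at h4
    exact h4
  · simp only [sharePair, decide_eq_true_eq] at shp
    obtain ⟨a, b, hane, hab⟩ := shp
    obtain ⟨ra, hra, -, hrav, -⟩ := CoT.Five.exists_rw h P a
    obtain ⟨rb, hrb, -, hrbv, -⟩ := CoT.Five.exists_rw h P b
    set q1 := y * ra * y⁻¹ * ra⁻¹ with hq1
    set q2 := s * y * s⁻¹ * rb * (s * y * s⁻¹)⁻¹ * rb⁻¹ with hq2
    have hq1Q : q1 ∈ Q := mul_mem (h.norm _ hyz _ hra) (inv_mem hra)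
    have hsy : Commute (s * y * s⁻¹) z := ((hχz σs).mul_left hyz).mul_left (hχz σs).inv_left
    have hq2Q : q2 ∈ Q := mul_mem (h.norm _ hsy _ hrb) (inv_mem hrb)
    have hv1 : F'.vec q1 = CoT.Five.wpt ((gy : Perm (Fin 5)) a) + CoT.Five.wpt a := by
      rw [hq1, F'.vec_mul _ (h.norm _ hyz _ hra) _ (inv_mem hra), CoT.vec_inv F' h hra, ← hχy', conjv _ hra,
        hrav, hφspec]
    have hv2 : F'.vec q2 = CoT.Five.wpt (((sp * gy * sp : A5) : Perm (Fin 5)) b) + CoT.Five.wpt b := by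
      have e : s * y * s⁻¹ = χ (σs * Hall.y0 * σs⁻¹) := by simp only [map_mul, map_inv, hχy', hs]
      rw [hq2, F'.vec_mul _ (h.norm _ hsy _ hrb) _ (inv_mem hrb), CoT.vec_inv F' h hrb, e, conjv _ hrb,
        hrbv, hφspec]
      simp only [map_mul, map_inv, hσs, inv_eq_of_mul_eq_one_right s2]
      rfl
    have hv12 : F'.vec q1 = F'.vec q2 := by
      rw [hv1, hv2]
      rcases hab with ⟨ea, eb⟩ | ⟨ea, eb⟩
      · rw [← ea, ← eb]
      · rw [ea, eb, add_comm]
    have hne : F'.vec q1 ≠ 0 := by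
      rw [hv1]
      intro e
      exact hane (CoT.Five.wpt_inj (by rw [eq_neg_of_add_eq_zero_left e, ZModModule.neg_eq_self]))
    have hFv : F.vec q1 = F.vec q2 := by
      rcases CoT.vec_eq F' hq1Q hq2Q h hv12 with e | e
      · rw [e]
      · rw [e, CoT.vec_mul_z F h hq2Q]
    have hFne : F.vec q1 ≠ 0 := fun e => hne ((F'.vec_zero _ hq1Q).2 ((F.vec_zero _ hq1Q).1 e))
    have c1 : F.vec q1 = CoT.Three.g0 • F.vec ra + F.vec ra := by
      rw [hq1, F.vec_mul _ (h.norm _ hyz _ hra) _ (inv_mem hra), CoT.vec_inv F h hra, ← piy]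
      exact congrArg (· + F.vec ra) (F.vec_conj (CoT.cC hyz) ra hra)
    have c2 : F.vec q2 = F.π (CoT.cC (hχz σs)) • (CoT.Three.g0 • ((F.π (CoT.cC (hχz σs)))⁻¹ • F.vec rb) +
        (F.π (CoT.cC (hχz σs)))⁻¹ • F.vec rb) := by
      rw [hq2, F.vec_mul _ (h.norm _ hsy _ hrb) _ (inv_mem hrb), CoT.vec_inv F h hrb, CoT.smul_add',
        smul_inv_smul, ← mul_smul, ← mul_smul, ← piy, ← CoT.Three.pi_conj F (hχz σs) hyz]
      exact congrArg (· + F.vec rb) (F.vec_conj (CoT.cC hsy) rb hrb)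
    refine ⟨F.vec ra, (F.π (CoT.cC (hχz σs)))⁻¹ • F.vec rb, ?_, ?_⟩
    · show CoT.Three.g0 • F.vec ra + F.vec ra ≠ 0
      rw [← c1]; exact hFne
    · show F.π (CoT.cC (hχz σs)) • _ = CoT.Three.g0 • F.vec ra + F.vec ra
      rw [← c1, hFv, c2]

end Cfsg.Agent.Spor.CoAmal
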