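import Cfsg.Agent.Lib.Spor.CoAmal.Ext
import Cfsg.Agent.Lib.Spor.CoTypeThree.Main
import Cfsg.Agent.Lib.Spor.SuzAmal.Main

/-!
Groups of Conway type: seven involutions centralising an element of order three, lifting generators of the
Suzuki group.
-/

set_option autoImplicit false
set_option maxRecDepth 100000
set_option linter.unusedSectionVars false
set_option linter.unusedSimpArgs false
set_option linter.style.haveILetI false

namespace Cfsg.Agent.Spor.CoAmal

open Cfsg.Agent.Spor.CC Equiv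
open scoped commutatorElement

local notation "A5" => alternatingGroup (Fin 5)

theorem a5_inverted : ∀ w : A5, w ^ 3 = 1 → ∃ j : A5, j * w * j⁻¹ = w⁻¹ := by decide +kernel

theorem a5_no_center : ∀ g : A5, (∀ h : A5, g * h = h * g) → g = 1 := by decide +kernel

/-- a subgroup containing the elements of order three is everything -/
theorem a5_top {S : Subgroup A5} (h : ∀ σ : A5, σ ^ 3 = 1 → σ ∈ S) : S = ⊤ := by
  refine Subgroup.map_injective (alternatingGroup (Fin 5)).subtype_injective ?_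
  rw [← MonoidHom.range_eq_map, Subgroup.range_subtype]
  refine le_antisymm (Subgroup.map_subtype_le _) ?_
  refine (Equiv.Perm.closure_three_cycles_eq_alternating (α := Fin 5)).symm.le.trans ((Subgroup.closure_le _).2 ?_)
  intro σ hσ
  refine ⟨⟨σ, hσ.mem_alternatingGroup⟩, h _ (Subtype.ext ?_), rfl⟩
  show σ ^ 3 = 1
  rw [← hσ.orderOf, pow_orderOf_eq_one]

theorem rels_of_inj {A B : Type*} [Group A] [Group B] (i : A →* B) (hi : Function.Injective i) {a b c d e f g : A}
    (R : SuzAmal.Rels (i a) (i b) (i c) (i d) (i e) (i f) (i g)) : SuzAmal.Rels a b c d e f g := by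
  have com : ∀ {u v : A}, Commute (i u) (i v) → Commute u v := fun {u v} h => hi (by rw [map_mul, map_mul]; exact h.eq)
  exact
    { aa := hi (by rw [map_mul, map_one, R.aa]), bb := hi (by rw [map_mul, map_one, R.bb])
      cc := hi (by rw [map_mul, map_one, R.cc]), dd := hi (by rw [map_mul, map_one, R.dd])
      ee := hi (by rw [map_mul, map_one, R.ee]), ff := hi (by rw [map_mul, map_one, R.ff])
      gg := hi (by rw [map_mul, map_one, R.gg])
      ab := hi (by rw [map_pow, map_mul, map_one, R.ab]), bc := hi (by rw [map_pow, map_mul, map_one, R.bc])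
      cd := hi (by rw [map_pow, map_mul, map_one, R.cd]), de := hi (by rw [map_pow, map_mul, map_one, R.de])
      bf := hi (by rw [map_pow, map_mul, map_one, R.bf]), fg := hi (by rw [map_pow, map_mul, map_one, R.fg])
      gb := hi (by rw [map_pow, map_mul, map_one, R.gb])
      ac := com R.ac, ad := com R.ad, ae := com R.ae, af := com R.af, ag := com R.ag, bd := com R.bd
      be := com R.be, ce := com R.ce, cf := com R.cf, cg := com R.cg, df := com R.df, dg := com R.dg
      ef := com R.ef, eg := com R.eg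
      x1 := hi (by simp only [map_pow, map_mul]; exact R.x1)
      x2 := hi (by simp only [map_pow, map_mul]; exact R.x2)
      x3 := hi (by simp only [map_pow, map_mul, map_one]; exact R.x3)
      x4 := hi (by simp only [map_pow, map_mul, map_one]; exact R.x4)
      x5 := hi (by simp only [map_pow, map_mul, map_one]; exact R.x5) }

/-- relations of the quotient from the relations of the extension -/
theorem rels_of_relK {A : Type*} [Group A] {m : ℕ → A} (sq : ∀ x, x < 7 → m x * m x = 1)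
    (h : ∀ r ∈ relK, wp m r = 1) (hx : (m 1 * m 5 * m 6) ^ 5 = 1) :
    SuzAmal.Rels (m 0) (m 1) (m 2) (m 3) (m 4) (m 5) (m 6) := by
  have qp : ∀ (k : ℕ) (w : List ℕ), powW k w ∈ relK → wp m w ^ k = 1 := fun k w hw => by
    rw [← prod_powW]; exact h _ hw
  have qc : ∀ i j : ℕ, i < 7 → j < 7 → powW 2 [i, j] ∈ relK → Commute (m i) (m j) := fun i j hi hj hij => by
    have h2 := qp 2 _ hij
    simp only [wp, List.map_cons, List.map_nil, List.prod_cons, List.prod_nil, mul_one, pow_two] at h2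
    calc m i * m j = (m i * m j * (m i * m j)) * (m j * m i) := by
          simp only [mul_assoc]
          rw [← mul_assoc (m j) (m j) (m i), sq j hj, one_mul, sq i hi, mul_one]
      _ = m j * m i := by rw [h2, one_mul]
  refine
    { aa := sq 0 (by norm_num), bb := sq 1 (by norm_num), cc := sq 2 (by norm_num), dd := sq 3 (by norm_num)
      ee := sq 4 (by norm_num), ff := sq 5 (by norm_num), gg := sq 6 (by norm_num)
      ab := ?_, bc := ?_, cd := ?_, de := ?_, bf := ?_, fg := ?_, gb := ?_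
      ac := qc 0 2 (by norm_num) (by norm_num) (by simp [relK])
      ad := qc 0 3 (by norm_num) (by norm_num) (by simp [relK])
      ae := qc 0 4 (by norm_num) (by norm_num) (by simp [relK])
      af := qc 0 5 (by norm_num) (by norm_num) (by simp [relK])
      ag := qc 0 6 (by norm_num) (by norm_num) (by simp [relK])
      bd := qc 1 3 (by norm_num) (by norm_num) (by simp [relK])
      be := qc 1 4 (by norm_num) (by norm_num) (by simp [relK])
      ce := qc 2 4 (by norm_num) (by norm_num) (by simp [relK])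
      cf := qc 2 5 (by norm_num) (by norm_num) (by simp [relK])
      cg := qc 2 6 (by norm_num) (by norm_num) (by simp [relK])
      df := qc 3 5 (by norm_num) (by norm_num) (by simp [relK])
      dg := qc 3 6 (by norm_num) (by norm_num) (by simp [relK])
      ef := qc 4 5 (by norm_num) (by norm_num) (by simp [relK])
      eg := qc 4 6 (by norm_num) (by norm_num) (by simp [relK])
      x1 := ?_, x2 := ?_, x3 := ?_, x4 := hx, x5 := ?_ }
  · simpa [wp] using qp 5 [0, 1] (by simp [relK])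
  · simpa [wp] using qp 3 [1, 2] (by simp [relK])
  · simpa [wp] using qp 8 [2, 3] (by simp [relK])
  · simpa [wp] using qp 3 [3, 4] (by simp [relK])
  · simpa [wp] using qp 3 [1, 5] (by simp [relK])
  · simpa [wp] using qp 4 [5, 6] (by simp [relK])
  · simpa [wp] using qp 3 [6, 1] (by simp [relK])
  · have h2 := h ([0] ++ powW 4 [2, 3]) (by simp [relK])
    rw [wp_append, wp, wp, prod_powW] at h2
    simp only [List.map_cons, List.map_nil, List.prod_cons, List.prod_nil, mul_one] at h2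
    exact (inv_eq_of_mul_eq_one_left (sq 0 (by norm_num))).symm.trans (inv_eq_of_mul_eq_one_right h2)
  · have h2 := h ([0] ++ powW 2 [5, 6]) (by simp [relK])
    rw [wp_append, wp, wp, prod_powW] at h2
    simp only [List.map_cons, List.map_nil, List.prod_cons, List.prod_nil, mul_one] at h2
    exact (inv_eq_of_mul_eq_one_left (sq 0 (by norm_num))).symm.trans (inv_eq_of_mul_eq_one_right h2)
  · simpa [wp, mul_assoc] using qp 5 [0, 1, 2, 5] (by simp [relK])
  · have h2 := qp 3 (powW 5 [1, 2, 3, 2, 3] ++ [4]) (by simp [relK])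
    rw [wp_append, wp, wp, prod_powW] at h2
    simpa [mul_assoc] using h2

/-- the fifth power in the last relation lies in the complement -/
theorem u5_five {A : Type*} [Group A] {a b c d e f g x : A} (R : SuzAmal.Rels a b c d e f g) (hx : x = a * b) :
    (b * c * d * c * d) ^ 5 ∈ SuzAmal.five x := by
  set k : ℕ → A := fun i => [a, b, c, d].getD i 1 with hkd
  have hk : ∀ i, k i * k i = 1 := fun i => by
    rcases i with _ | _ | _ | _ | i
    exacts [R.aa, R.bb, R.cc, R.dd, one_mul 1]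
  have hdi : d⁻¹ = d := inv_eq_of_mul_eq_one_right R.dd
  have hci : c⁻¹ = c := inv_eq_of_mul_eq_one_right R.cc
  have hbi : b⁻¹ = b := inv_eq_of_mul_eq_one_right R.bb
  have hac : (a * c) ^ 2 = 1 := SuzAmal.comm_pair R.aa R.cc R.ac
  have had : (a * d) ^ 2 = 1 := SuzAmal.comm_pair R.aa R.dd R.ad
  have hbd2 : (b * d) ^ 2 = 1 := SuzAmal.comm_pair R.bb R.dd R.bd
  have hx1 : a * d * c * d * c * d * c * d * c = 1 := by
    rw [show a * d * c * d * c * d * c * d * c = a * (d * c) ^ 4 by
      simp only [pow_succ, pow_zero, one_mul, mul_assoc], show d * c = (c * d)⁻¹ by rw [mul_inv_rev, hdi, hci],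
      inv_pow, ← R.x1, inv_eq_of_mul_eq_one_right R.aa, R.aa]
  have hE : ∀ r ∈ SuzECert.relW, (r.map k).prod = 1 := by
    intro r hr
    simp only [SuzECert.relW, List.mem_cons, List.not_mem_nil, or_false] at hr
    rcases hr with rfl | rfl | rfl | rfl | rfl | rfl | rfl | rfl | rfl | rfl | rfl <;>
      simp only [k, List.map_cons, List.map_nil, List.prod_cons, List.prod_nil, mul_one,
        List.getD_cons_zero, List.getD_cons_succ, mul_assoc]
    · exact R.aa
    · exact R.bb
    · exact R.cc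
    · exact R.dd
    · simpa only [pow_succ, pow_zero, one_mul, mul_assoc] using R.ab
    · simpa only [pow_succ, pow_zero, one_mul, mul_assoc] using hac
    · simpa only [pow_succ, pow_zero, one_mul, mul_assoc] using R.bc
    · simpa only [pow_succ, pow_zero, one_mul, mul_assoc] using had
    · simpa only [pow_succ, pow_zero, one_mul, mul_assoc] using hbd2
    · simpa only [pow_succ, pow_zero, one_mul, mul_assoc] using R.cd
    · simpa only [mul_assoc] using hx1
  have hks : ∀ i, k i = k (SuzECert.One.letters.getD i 4) := fun i => by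
    rcases i with _ | _ | _ | _ | i <;> rfl
  have w15 := walk_trivial SuzECert.One.checked k hk rfl SuzECert.One.words_ok hks hE SuzECert.One.decU15
    (L := 75) (by decide +kernel) (by norm_num) SuzECert.One.walkU15
  have wcm := walk_trivial SuzECert.One.checked k hk rfl SuzECert.One.words_ok hks hE
    SuzECert.One.decUComm (L := 54) (by decide +kernel) (by norm_num) SuzECert.One.walkUComm
  set u := b * c * d * c * d with hu
  have hu15 : u ^ 15 = 1 := by
    rw [← w15]
    simp only [k, hu, List.map_cons, List.map_nil, List.prod_cons, List.prod_nil, mul_one, List.getD_cons_zero,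
      List.getD_cons_succ, pow_succ, pow_zero, one_mul, mul_assoc]
  have hcomm : u ^ 5 * x * (u ^ 5)⁻¹ * x⁻¹ = 1 := by
    rw [← wcm]
    have hui : u⁻¹ = d * c * d * c * b := by rw [hu]; simp only [mul_inv_rev, hdi, hci, hbi, mul_assoc]
    rw [← inv_pow, hui, hx, mul_inv_rev, inv_eq_of_mul_eq_one_right R.aa, hbi]
    simp only [k, hu, List.map_cons, List.map_nil, List.prod_cons, List.prod_nil, mul_one, List.getD_cons_zero,
      List.getD_cons_succ, pow_succ, pow_zero, one_mul, mul_assoc]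
  exact SuzAmal.five_mem (mul_inv_eq_iff_eq_mul.1 (mul_inv_eq_one.1 hcomm))
    (by rw [← pow_mul, show 5 * 6 = 15 * 2 from rfl, pow_mul, hu15, one_pow])

universe u

variable {G : Type u} [Group G] [Finite G] {z : G} {Q : Subgroup G}

/-- the seven involutions as a family -/
def seq7 (z b c d e f g : G) : ℕ → G := fun x => [z, b, c, d, e, f, g].getD x 1

/-- the lifted generators -/
structure Lifts (K : CoT.Three.Ctx z Q) where
  /-- second -/
  b : G
  /-- third -/
  c : G
  /-- fourth -/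
  d : G
  /-- fifth -/
  e : G
  /-- sixth -/
  f : G
  /-- seventh -/
  g : G
  bb : b * b = 1
  dd : d * d = 1
  ee : e * e = 1
  cQ : c ∈ Q
  fQ : f ∈ Q
  gQ : g ∈ Q
  cc : c * c = 1
  ff : f * f = 1
  gg : g * g = 1
  comm_y : ∀ x, Commute (seq7 z b c d e f g x) K.y
  rel : ∀ r ∈ relK, wp (seq7 z b c d e f g) r = 1
  x_ne : (b * f * g) ^ 5 ≠ 1
  x_mem : (b * f * g) ^ 5 ∈ Subgroup.zpowers K.y
  zb5 : orderOf (z * b) = 5
  fg_ne : ¬ Commute f g
  five : ∃ m : G, orderOf m = 5 ∧ Commute m z ∧ Commute m b ∧ Commute m f ∧ Commute m g ∧ Commute m K.y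
  cent : ∀ X : Subgroup G, Nonempty (X ≃* A5) → (∀ a ∈ X, Commute a K.y ∧ Commute a z ∧ Commute a b) →
    d ∈ X ∧ e ∈ X
  gen : K.L ≤ Subgroup.closure (seq7 z b c d e f g '' {x | x < 7})

theorem exists_lifts (K : CoT.Three.Ctx z Q) : Nonempty (Lifts K) := by
  classical
  haveI : Fact (Nat.Prime 3) := ⟨Nat.prime_three⟩
  obtain ⟨C⟩ := SuzT.Rad.exists_ctx K.suz_hyp
  obtain ⟨L⟩ := C.exists_cfg
  obtain ⟨Γ⟩ := SuzAmal.exists_gam L
  obtain ⟨S⟩ := SuzAmal.exists_setup Γ
  obtain ⟨wf, wg, wc, F⟩ := S.exists_fgc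
  have R := S.rels_of F
  haveI := SuzCert.order.1
  haveI hsimp : IsSimpleGroup SuzCert.pres.Grp := SuzCert.simple
  obtain ⟨eS⟩ := SuzAmal.iso_suz K.suz_hyp
  have hcardG : Nat.card (K.L ⧸ K.P) = Nat.card SuzCert.pres.Grp := Nat.card_congr eS.toEquiv
  have hzb1 : K.zb ≠ 1 := (Cfsg.Agent.Solv.CITGroups.orderOf_two_iff.1 C.hy.ord).2
  have X : Ext3 K.pr :=
    { surj := QuotientGroup.mk'_surjective K.P
      cen := fun k hk a => by
        obtain ⟨i, -, hi⟩ := K.exists_nat (Subgroup.mem_subgroupOf.1 ((QuotientGroup.eq_one_iff k).1 hk))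
        refine Subtype.ext ?_
        show (k : G) * (a : G) = (a : G) * (k : G)
        rw [hi]
        exact (((CoT.Three.of_mem_cent K a.2).symm).pow_left i).eq
      cube := fun k hk => by
        obtain ⟨i, -, hi⟩ := K.exists_nat (Subgroup.mem_subgroupOf.1 ((QuotientGroup.eq_one_iff k).1 hk))
        refine Subtype.ext ?_
        rw [Subgroup.coe_pow, hi, ← pow_mul, mul_comm, pow_mul, K.y3, one_pow]
        rfl }
  set a : K.L := ⟨z, CoT.Three.commute_zp K K.hyz.symm⟩ with had
  have ha : a * a = 1 := Subtype.ext (CoT.zz K.h)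
  have hpa : K.pr a = K.zb := rfl
  obtain ⟨b, hb', hb⟩ := X.exists_invol R.bb
  obtain ⟨d, hd', hd⟩ := X.exists_invol R.dd
  obtain ⟨e, he', he⟩ := X.exists_invol R.ee
  have liftQ : ∀ {n : K.L ⧸ K.P}, n ∈ K.RH.map K.H.subtype → n * n = 1 →
      ∃ q : K.L, (q : G) ∈ Q ∧ K.pr q = n ∧ q * q = 1 := fun {n} hn hnn => by
    obtain ⟨q, hq, hqy, rfl⟩ := K.RH_map.1 hn
    refine ⟨⟨q, CoT.Three.commute_zp K hqy⟩, hq, rfl, ?_⟩
    rw [← map_mul] at hnn
    obtain ⟨i, -, hi⟩ := K.exists_nat (Subgroup.mem_subgroupOf.1 ((QuotientGroup.eq_one_iff _).1 hnn))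
    refine Subtype.ext ?_
    show q * q = 1
    change q * q = K.y ^ i at hi
    rw [hi]
    exact K.mem_Q_y (hi ▸ mul_mem hq hq)
  obtain ⟨c, hcQ, hc', hc⟩ := liftQ F.cQ R.cc
  obtain ⟨f, hfQ, hf', hf⟩ := liftQ (S.K_le_Q F.fK) R.ff
  obtain ⟨g, hgQ, hg', hg⟩ := liftQ (S.K_le_Q F.gK) R.gg
  have R' : SuzAmal.Rels (K.pr a) (K.pr b) (K.pr c) (K.pr d) (K.pr e) (K.pr f) (K.pr g) := by
    rw [hpa, hb', hc', hd', he', hf', hg']; exact R
  have hxe : S.x = K.pr a * K.pr b := by
    rw [hpa, hb', SuzAmal.Setup.x, S.el_cons 0 [1], S.el_a]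
  have hj : ∃ j, K.pr j * K.pr ((b * c * d * c * d) ^ 5 * e) * (K.pr j)⁻¹ =
      (K.pr ((b * c * d * c * d) ^ 5 * e))⁻¹ := by
    have hw : K.pr ((b * c * d * c * d) ^ 5 * e) ∈ SuzAmal.five S.x := by
      simp only [map_mul, map_pow]
      refine mul_mem (u5_five R' hxe) ?_
      rw [he']
      exact S.elt.V_five L.t_V
    obtain ⟨φ, hφ, hr⟩ := S.elt.exists_perm
    obtain ⟨j, hj⟩ := a5_inverted ⟨φ ⟨_, hw⟩, hr ▸ ⟨_, rfl⟩⟩ (Subtype.ext (by
      show φ ⟨_, hw⟩ ^ 3 = 1
      rw [← map_pow, ← map_one φ]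
      refine congrArg φ (Subtype.ext ?_)
      show K.pr ((b * c * d * c * d) ^ 5 * e) ^ 3 = 1
      simp only [map_mul, map_pow]
      exact R'.x5))
    obtain ⟨j', hj'⟩ : (j : Perm (Fin 5)) ∈ φ.range := by rw [hr]; exact j.2
    obtain ⟨jL, hjL⟩ := X.surj (j' : K.L ⧸ K.P)
    refine ⟨jL, ?_⟩
    rw [hjL]
    have e2 : φ (j' * ⟨_, hw⟩ * j'⁻¹) = φ ⟨_, hw⟩⁻¹ := by
      rw [map_mul, map_mul, map_inv, map_inv, hj']
      exact congrArg Subtype.val hj
    exact congrArg Subtype.val (hφ e2)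
  set mL : ℕ → K.L := fun x => [a, b, c, d, e, f, g].getD x 1 with hmL
  have hrelL : ∀ r ∈ relK, wp mL r = 1 := X.rels7 ha hb hc hd he hf hg R' hj (m := mL) rfl rfl rfl rfl rfl rfl rfl
  have sqL : ∀ x, x < 7 → mL x * mL x = 1 := fun x hx => by
    interval_cases x
    exacts [ha, hb, hc, hd, he, hf, hg]
  have hval : ∀ x, (mL x : G) = seq7 z (b : G) c d e f g x := fun x => by
    rcases x with _ | _ | _ | _ | _ | _ | _ | x <;> rfl
  have hxmem : ((b : G) * f * g) ^ 5 ∈ Subgroup.zpowers K.y := by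
    have : K.pr ((b * f * g) ^ 5) = 1 := by simp only [map_pow, map_mul]; exact R'.x4
    exact Subgroup.mem_subgroupOf.1 ((QuotientGroup.eq_one_iff _).1 this)
  have hxne : ((b : G) * f * g) ^ 5 ≠ 1 := by
    intro hx1
    have RL := rels_of_relK sqL hrelL (Subtype.ext hx1)
    obtain ⟨φ, p0, -⟩ := SuzAmal.exists_hom RL
    have hp0 : K.pr (φ (SuzCert.pres.gen 0)) = K.zb := by rw [p0]; exact hpa
    have hinj : Function.Injective (K.pr.comp φ) := by
      rw [← MonoidHom.ker_eq_bot_iff]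
      refine (IsSimpleGroup.eq_bot_or_eq_top_of_normal (K.pr.comp φ).ker inferInstance).resolve_right fun he => hzb1 ?_
      rw [← hp0]
      exact MonoidHom.mem_ker.1 (show SuzCert.pres.gen 0 ∈ (K.pr.comp φ).ker by rw [he]; exact Subgroup.mem_top _)
    have hsur := (hinj.bijective_of_nat_card_le hcardG.le).2
    have hdec : ∀ l : K.L, ∃ s : SuzCert.pres.Grp, ∃ k : K.L, K.pr k = 1 ∧ l = φ s * k := fun l => by
      obtain ⟨s, hs⟩ := hsur (K.pr l)
      refine ⟨s, (φ s)⁻¹ * l, ?_, (mul_inv_cancel_left _ _).symm⟩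
      rw [map_mul, map_inv, show K.pr (φ s) = K.pr l from hs, inv_mul_cancel]
    have hcomm : ⁅K.L, K.L⁆ ≤ φ.range.map K.L.subtype := by
      refine Subgroup.commutator_le.2 fun l1 hl1 l2 hl2 => ?_
      obtain ⟨s1, k1, hk1, e1⟩ := hdec ⟨l1, hl1⟩
      obtain ⟨s2, k2, hk2, e2⟩ := hdec ⟨l2, hl2⟩
      refine ⟨⁅(⟨l1, hl1⟩ : K.L), ⟨l2, hl2⟩⁆, ⟨⁅s1, s2⁆, ?_⟩, rfl⟩
      have c1 := X.cen k1 hk1
      have c2 := X.cen k2 hk2
      rw [map_commutatorElement, e1, e2, commutatorElement_def, commutatorElement_def]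
      symm
      calc φ s1 * k1 * (φ s2 * k2) * (φ s1 * k1)⁻¹ * (φ s2 * k2)⁻¹
          = φ s1 * (k1 * φ s2) * (k2 * k1⁻¹) * (φ s1)⁻¹ * k2⁻¹ * (φ s2)⁻¹ := by group
        _ = φ s1 * φ s2 * (k1 * k2) * k1⁻¹ * (φ s1)⁻¹ * k2⁻¹ * (φ s2)⁻¹ := by rw [(c1 (φ s2)).eq]; group
        _ = φ s1 * φ s2 * (k2 * (φ s1)⁻¹) * k2⁻¹ * (φ s2)⁻¹ := by rw [(c1 k2).eq]; group
        _ = φ s1 * φ s2 * (φ s1)⁻¹ * (φ s2)⁻¹ := by rw [(c2 (φ s1)⁻¹).eq]; group
    obtain ⟨l, ⟨s, rfl⟩, hl⟩ := hcomm K.y_mem_comm
    change ((φ s : K.L) : G) = K.y at hl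
    have hs1 : (K.pr.comp φ) s = 1 := (QuotientGroup.eq_one_iff _).2
      (Subgroup.mem_subgroupOf.2 (by rw [hl]; exact Subgroup.mem_zpowers _))
    rw [hinj (hs1.trans (map_one (K.pr.comp φ)).symm), map_one] at hl
    exact K.y_ne hl.symm
  have hzb5 : orderOf (z * (b : G)) = 5 := by
    haveI : Fact (Nat.Prime 5) := ⟨by norm_num⟩
    refine orderOf_eq_prime ?_ fun h1 => ?_
    · have h5 := congrArg Subtype.val (X.pair (n := 5) ha hb R'.ab)
      exact h5
    · have hS : S.x = 1 := by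
        rw [hxe, ← map_mul, show a * b = 1 from Subtype.ext h1, map_one]
      have ho := S.elt.fiv.ord
      change orderOf S.x = 5 at ho
      rw [hS, orderOf_one] at ho
      norm_num at ho
  have hfg : ¬ Commute (f : G) (g : G) := fun hcom => by
    have h2 := R'.x2
    rw [← map_mul, ← map_pow] at h2
    refine hzb1 (hpa.symm.trans (h2.trans ?_))
    rw [show (f * g) ^ 2 = 1 from Subtype.ext (SuzAmal.comm_pair (congrArg Subtype.val hf :)
      (congrArg Subtype.val hg :) hcom), map_one]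
  refine ⟨{
    b := b, c := c, d := d, e := e, f := f, g := g
    bb := congrArg Subtype.val hb, dd := congrArg Subtype.val hd, ee := congrArg Subtype.val he
    cQ := hcQ, fQ := hfQ, gQ := hgQ
    cc := congrArg Subtype.val hc, ff := congrArg Subtype.val hf, gg := congrArg Subtype.val hg
    comm_y := fun x => by rw [← hval]; exact CoT.Three.of_mem_cent K (mL x).2
    rel := fun r hr => ?_
    x_ne := hxne, x_mem := hxmem, zb5 := hzb5, fg_ne := hfg
    five := ?_, cent := ?_, gen := ?_ }⟩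
  · have := congrArg K.L.subtype (hrelL r hr)
    rw [map_one, wp, map_list_prod, List.map_map] at this
    rw [← this, wp]
    exact congrArg List.prod (List.map_congr_left fun x _ => (hval x).symm)
  · obtain ⟨mb, hmb, hmo⟩ := S.exists_five
    obtain ⟨m0, hm0⟩ := X.surj mb
    have hm5 : K.pr (m0 ^ 5) = 1 := by rw [map_pow, hm0, ← hmo, pow_orderOf_eq_one]
    have hm : (m0 ^ 6) ^ 5 = 1 := by
      rw [← pow_mul, show 6 * 5 = 5 * (3 * 2) from rfl, pow_mul, pow_mul, X.cube _ hm5, one_pow]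
    have hpm : K.pr (m0 ^ 6) = mb := by
      rw [pow_succ, map_mul, map_pow, hm0, ← hmo, pow_orderOf_eq_one, one_mul]
    have hcm : ∀ {v : K.L}, Commute mb (K.pr v) → Commute ((m0 ^ 6 : K.L) : G) (v : G) := fun {v} h =>
      congrArg Subtype.val (X.comm_of (b := v) hm (by norm_num) (by rw [hpm]; exact h)).eq
    have hbf := S.five_b hmb
    rw [← hb'] at hbf
    have hff := ((S.mem_K.1 F.fK).2.2 mb hmb)
    rw [← hf'] at hff
    have hgg := ((S.mem_K.1 F.gK).2.2 mb hmb)
    rw [← hg'] at hgg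
    refine ⟨((m0 ^ 6 : K.L) : G), ?_, hcm (v := a) (by rw [hpa]; exact S.five_z hmb), hcm hbf, hcm hff, hcm hgg,
      CoT.Three.of_mem_cent K (m0 ^ 6).2⟩
    haveI : Fact (Nat.Prime 5) := ⟨by norm_num⟩
    rw [Subgroup.orderOf_coe]
    refine orderOf_eq_prime hm fun h1 => ?_
    rw [h1, map_one] at hpm
    rw [← hpm, orderOf_one] at hmo
    norm_num at hmo
  · intro Y hY hYc
    obtain ⟨eY⟩ := hY
    have hle : Y ≤ K.L := fun v hv => CoT.Three.commute_zp K (hYc v hv).1
    let ι : Y →* K.L ⧸ K.P := K.pr.comp (Subgroup.inclusion hle)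
    have hι : Function.Injective ι := (injective_iff_map_eq_one ι).2 fun v hv => by
      refine eY.injective ((a5_no_center (eY v) fun σ => ?_).trans (map_one eY).symm)
      obtain ⟨w, rfl⟩ := eY.surjective σ
      rw [← map_mul, ← map_mul]
      exact congrArg eY (Subtype.ext (congrArg Subtype.val (X.cen _ hv (Subgroup.inclusion hle w)).eq :))
    have hx : ∀ v : Y, Commute (ι v) S.x := fun v => by
      rw [hxe, ← map_mul]
      exact (show Commute (Subgroup.inclusion hle v) (a * b) from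
        Subtype.ext ((hYc v v.2).2.1.mul_right (hYc v v.2).2.2).eq).map K.pr
    have hsub : ι.range ≤ SuzAmal.five S.x := by
      have htop : ((SuzAmal.five S.x).comap ι).map eY.toMonoidHom = ⊤ := a5_top fun σ hσ => by
        refine ⟨eY.symm σ, SuzAmal.five_mem (hx _) ?_, eY.apply_symm_apply σ⟩
        rw [← map_pow, ← map_pow, show 6 = 3 * 2 from rfl, pow_mul, hσ, one_pow, map_one, map_one]
      rintro _ ⟨v, rfl⟩
      obtain ⟨w, hw, e1⟩ := htop.symm.le (Subgroup.mem_top (eY v))
      rw [← eY.injective e1]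
      exact hw
    have heq : ι.range = SuzAmal.five S.x := Subgroup.eq_of_le_of_card_ge hsub (by
      rw [S.elt.card, ← Nat.card_congr (MonoidHom.ofInjective hι).toEquiv, Nat.card_congr eY.toEquiv,
        nat_card_alternatingGroup, Nat.card_fin]
      rfl)
    have key : ∀ (v : K.L), v * v = 1 → K.pr v ∈ SuzAmal.five S.x → (v : G) ∈ Y := fun v hv hv5 => by
      rw [← heq] at hv5
      obtain ⟨w, hw⟩ := hv5
      have hww : w * w = 1 := hι (by rw [map_mul, hw, ← map_mul, hv, map_one, map_one])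
      rw [← X.uniq (show Subgroup.inclusion hle w * Subgroup.inclusion hle w = 1 by rw [← map_mul, hww, map_one]) hv hw]
      exact w.2
    exact ⟨key d hd (by rw [hd']; exact S.d_five), key e he (by rw [he']; exact S.elt.V_five L.t_V)⟩
  · set H7 := Subgroup.closure (seq7 z (b : G) c d e f g '' {x | x < 7}) with hH7
    have hmem : ∀ x, x < 7 → (mL x : G) ∈ H7 := fun x hx => by
      rw [hval]; exact Subgroup.subset_closure ⟨x, hx, rfl⟩
    set Im : Subgroup (K.L ⧸ K.P) := (H7.subgroupOf K.L).map K.pr with hIm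
    have hi : ∀ x, x < 7 → K.pr (mL x) ∈ Im := fun x hx => ⟨mL x, hmem x hx, rfl⟩
    have RI : SuzAmal.Rels (⟨_, hi 0 (by norm_num)⟩ : Im) ⟨_, hi 1 (by norm_num)⟩ ⟨_, hi 2 (by norm_num)⟩
        ⟨_, hi 3 (by norm_num)⟩ ⟨_, hi 4 (by norm_num)⟩ ⟨_, hi 5 (by norm_num)⟩ ⟨_, hi 6 (by norm_num)⟩ :=
      rels_of_inj Im.subtype Im.subtype_injective R'
    obtain ⟨φ, p0, -⟩ := SuzAmal.exists_hom RI
    have hinj : Function.Injective φ := by
      rw [← MonoidHom.ker_eq_bot_iff]
      refine (IsSimpleGroup.eq_bot_or_eq_top_of_normal φ.ker inferInstance).resolve_right fun he => hzb1 ?_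
      have h0 : φ (SuzCert.pres.gen 0) = 1 := MonoidHom.mem_ker.1 (he ▸ Subgroup.mem_top _)
      rw [p0] at h0
      exact hpa.symm.trans (congrArg Subtype.val h0)
    have htop : Im = ⊤ := Subgroup.eq_top_of_le_card _ (by
      rw [hcardG]; exact Nat.card_le_card_of_injective φ hinj)
    intro v hv
    obtain ⟨w, hw, hwv⟩ := htop.symm.le (Subgroup.mem_top (K.pr ⟨v, hv⟩))
    obtain ⟨i, -, hi'⟩ := K.exists_nat (Subgroup.mem_subgroupOf.1 (QuotientGroup.eq.1 hwv))
    change (w : G)⁻¹ * v = K.y ^ i at hi'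
    have hy : K.y ∈ H7 := by
      have hxH : ((b : G) * f * g) ^ 5 ∈ H7 := H7.pow_mem (mul_mem (mul_mem (hmem 1 (by norm_num))
        (hmem 5 (by norm_num))) (hmem 6 (by norm_num))) 5
      obtain ⟨j, hj3, hjx⟩ := K.exists_nat hxmem
      rw [hjx] at hxH
      interval_cases j
      · exact absurd (hjx.trans (pow_zero _)) hxne
      · rwa [pow_one] at hxH
      · have := H7.pow_mem hxH 2
        rwa [← pow_mul, show 2 * 2 = 3 + 1 from rfl, pow_succ, K.y3, one_mul] at this
    rw [show v = (w : G) * K.y ^ i by rw [← hi', mul_inv_cancel_left]]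
    exact mul_mem hw (H7.pow_mem hy i)

end Cfsg.Agent.Spor.CoAmal
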