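import Cfsg.Agent.Lib.Spor.CoAmal.Hom
import Cfsg.Agent.Lib.Spor.CoTypeMain
import Cfsg.Agent.S0209

/-!
Transfer of involution classes between the first Conway group and a group of Conway type, and the step
which pushes centralisers of elementary subgroups into the image.
-/

set_option autoImplicit false
set_option maxRecDepth 100000
set_option linter.style.haveILetI false

namespace Cfsg.Agent.Spor.CoAmal

open Cfsg.Agent.Spor.Co1Invol
open Cfsg.Agent.Solv.CITGroups (orderOf_two_iff)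

theorem refl_step {M : Type*} [Group M] {a x : M} (ha : a * a = 1) (h : a * x * a = x⁻¹) :
    ∀ j : ℕ, x ^ j * a * (x ^ j)⁻¹ = x ^ (2 * j) * a
  | 0 => by simp
  | j + 1 => by
    have h' : a * x⁻¹ = x * a := by
      rw [← h, ← mul_assoc, ← mul_assoc, ha, one_mul]
    rw [pow_succ' x j, mul_inv_rev,
      show x * x ^ j * a * ((x ^ j)⁻¹ * x⁻¹) = x * (x ^ j * a * (x ^ j)⁻¹) * x⁻¹ by group, refl_step ha h j,
      mul_assoc x, mul_assoc _ a, h', show 2 * (j + 1) = 1 + 2 * j + 1 by ring, pow_succ, pow_add, pow_one]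
    group

/-- two involutions: either a conjugating element or a central involution -/
theorem dihedral {M : Type*} [Group M] [Finite M] {v t : M} (hv : v * v = 1) (ht : t * t = 1) (hv1 : v ≠ 1)
    (ht1 : t ≠ 1) :
    (∃ d ∈ Subgroup.closure ({v, t} : Set M), d * v * d⁻¹ = t) ∨
      ∃ u ∈ Subgroup.closure ({v, t} : Set M), u * u = 1 ∧ u ≠ 1 ∧ Commute u v ∧ Commute u t ∧ (IsConj v (u * t) ∨ IsConj t (u * t)) := by
  set x := v * t with hx
  set n := orderOf x with hn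
  have hvm : v ∈ Subgroup.closure ({v, t} : Set M) := Subgroup.subset_closure (Set.mem_insert _ _)
  have htm : t ∈ Subgroup.closure ({v, t} : Set M) :=
    Subgroup.subset_closure (Set.mem_insert_of_mem _ (Set.mem_singleton t))
  have hvx : v * x * v = x⁻¹ := by
    rw [hx, mul_inv_rev, inv_eq_of_mul_eq_one_right hv, inv_eq_of_mul_eq_one_right ht, ← mul_assoc v v t, hv, one_mul]
  have htx : t * x * t = x⁻¹ := by
    rw [hx, mul_inv_rev, inv_eq_of_mul_eq_one_right hv, inv_eq_of_mul_eq_one_right ht, mul_assoc t (v * t) t,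
      mul_assoc v t t, ht, mul_one]
  by_cases he : Even n
  · right
    obtain ⟨ho, hcv, hct⟩ := S0209.result v t (orderOf_two_iff.2 ⟨hv, hv1⟩) (orderOf_two_iff.2 ⟨ht, ht1⟩) he
    refine ⟨_, pow_mem (mul_mem hvm htm) _, (orderOf_two_iff.1 ho).1, (orderOf_two_iff.1 ho).2, hcv, hct, ?_⟩
    rcases Nat.even_or_odd (n / 2) with ⟨j, hj⟩ | ⟨j, hj⟩
    · right
      refine isConj_iff.2 ⟨x ^ j, ?_⟩
      rw [refl_step ht htx, show 2 * j = n / 2 by omega]
    · left
      refine isConj_iff.2 ⟨x ^ j, ?_⟩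
      rw [refl_step hv hvx, show orderOf (v * t) / 2 = 2 * j + 1 from hj, pow_succ, mul_assoc (x ^ (2 * j)),
        show x * t = v by rw [hx, mul_assoc, ht, mul_one]]
  · left
    obtain ⟨k, hk⟩ := Nat.not_even_iff_odd.1 he
    refine ⟨v * x ^ (k + 1), mul_mem hvm (pow_mem (mul_mem hvm htm) _), ?_⟩
    rw [show v * x ^ (k + 1) * v * (v * x ^ (k + 1))⁻¹ = v * (x ^ (k + 1) * v * (x ^ (k + 1))⁻¹) * v⁻¹ by group,
      refl_step hv hvx, show 2 * (k + 1) = n + 1 by omega, pow_succ, hn, pow_orderOf_eq_one, one_mul, hx,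
      inv_eq_of_mul_eq_one_right hv, ← mul_assoc, ← mul_assoc, hv, one_mul, mul_assoc, hv, mul_one]

universe u

variable {G : Type u} [Group G] [Finite G] {z : G} {Q : Subgroup G}

/-- the data of the embedding -/
structure Emb (S : Setting z Q) where
  /-- the embedding -/
  φ : Cfsg.Spor.Co1 →* G
  inj : Function.Injective φ
  range : φ.range = S.H
  map_z : φ zC = z

theorem exists_emb (S : Setting z Q) : Nonempty (Emb S) := by
  obtain ⟨φ, h1, h2, h3⟩ := exists_hom S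
  exact ⟨⟨φ, h1, h2, h3⟩⟩

variable {S : Setting z Q} (e : Emb S)

theorem Emb.mem (a : Cfsg.Spor.Co1) : e.φ a ∈ S.H := e.range ▸ ⟨a, rfl⟩

theorem Emb.exists_of_mem {g : G} (h : g ∈ S.H) : ∃ a, e.φ a = g := by
  rw [← e.range] at h; exact h

theorem Emb.map_conj {a b : Cfsg.Spor.Co1} (h : IsConj a b) : IsConj (e.φ a) (e.φ b) := MonoidHom.map_isConj e.φ h

include e in
/-- every involution is conjugate into the image -/
theorem Emb.cover {w : G} (hw : w * w = 1) (hw1 : w ≠ 1) :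
    ∃ a : Cfsg.Spor.Co1, a * a = 1 ∧ a ≠ 1 ∧ IsConj w (e.φ a) := by
  obtain ⟨g, hg⟩ := CoT.into_C S.K.F S.K.h (orderOf_two_iff.2 ⟨hw, hw1⟩)
  obtain ⟨a, ha⟩ := e.exists_of_mem (S.cz_mem hg)
  refine ⟨a, e.inj ?_, fun h => hw1 ?_, ha ▸ isConj_iff.2 ⟨g, rfl⟩⟩
  · rw [map_mul, ha, map_one, conj_mul, hw]; group
  · rw [h, map_one] at ha; exact conj_eq_one_iff.1 ha.symm

/-- classes of involutions do not fuse -/
theorem Emb.conj_reflect {a b : Cfsg.Spor.Co1} (ha : a * a = 1) (ha1 : a ≠ 1) (hb : b * b = 1) (hb1 : b ≠ 1)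
    (h : IsConj (e.φ a) (e.φ b)) : IsConj a b := by
  classical
  haveI := finite_co1
  obtain ⟨F1⟩ := CoT.exists_frame hyp_std
  obtain ⟨x1, B1⟩ := CoT.exists_base F1 hyp_std
  obtain ⟨a1, a2, a3, -, -, -, -, -, -, hall⟩ := CoT.three_classes F1 hyp_std B1
  obtain ⟨xG, BG⟩ := CoT.exists_base S.K.F S.K.h
  obtain ⟨w1, w2, w3, h1, h2, h3, n12, n13, n23, -⟩ := CoT.three_classes S.K.F S.K.h BG
  let rep : Fin 3 → Cfsg.Spor.Co1 := ![a1, a2, a3]
  let wr : Fin 3 → G := ![w1, w2, w3]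
  have hrep : ∀ c : Cfsg.Spor.Co1, c * c = 1 → c ≠ 1 → ∃ i, IsConj c (rep i) := fun c hc hc1 => by
    rcases hall c (orderOf_two_iff.2 ⟨hc, hc1⟩) with r | r | r
    exacts [⟨0, r⟩, ⟨1, r⟩, ⟨2, r⟩]
  have hwr : ∀ i, orderOf (wr i) = 2 := fun i => by fin_cases i <;> assumption
  have hne : ∀ i j, IsConj (wr i) (wr j) → i = j := fun i j hij => by
    fin_cases i <;> fin_cases j
    exacts [rfl, absurd hij n12, absurd hij n13, absurd hij.symm n12, rfl, absurd hij n23, absurd hij.symm n13,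
      absurd hij.symm n23, rfl]
  have hc : ∀ i, ∃ j, IsConj (wr i) (e.φ (rep j)) := fun i => by
    obtain ⟨c, hc, hc1, hwc⟩ := e.cover (orderOf_two_iff.1 (hwr i)).1 (orderOf_two_iff.1 (hwr i)).2
    obtain ⟨j, hj⟩ := hrep c hc hc1
    exact ⟨j, hwc.trans (e.map_conj hj)⟩
  choose f hf using hc
  have hf_surj : Function.Surjective f :=
    (Finite.injective_iff_surjective).1 fun i j hij => hne i j ((hf i).trans ((hij ▸ hf j).symm))
  obtain ⟨i, hi⟩ := hrep a ha ha1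
  obtain ⟨j, hj⟩ := hrep b hb hb1
  obtain ⟨i', rfl⟩ := hf_surj i
  obtain ⟨j', rfl⟩ := hf_surj j
  have := hne i' j' ((hf i').trans ((e.map_conj hi).symm.trans (h.trans ((e.map_conj hj).trans (hf j').symm))))
  subst this
  exact hi.trans hj.symm

/-- conjugate to the central involution -/
def InA (a : Cfsg.Spor.Co1) : Prop := IsConj zC a

theorem zC_facts : zC * zC = 1 ∧ zC ≠ 1 :=
  haveI := finite_co1
  orderOf_two_iff.1 order_zC

theorem InA.invol {a : Cfsg.Spor.Co1} (h : InA a) : a * a = 1 ∧ a ≠ 1 := by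
  obtain ⟨c, rfl⟩ := isConj_iff.1 h
  exact ⟨by rw [conj_mul, zC_facts.1]; group, fun h1 => zC_facts.2 (conj_eq_one_iff.1 h1)⟩

theorem Emb.inA_iff {a : Cfsg.Spor.Co1} : IsConj z (e.φ a) ↔ InA a := by
  refine ⟨fun h => ?_, fun h => by have := e.map_conj h; rwa [e.map_z] at this⟩
  obtain ⟨c, hc⟩ := isConj_iff.1 h
  have h1 : a * a = 1 := e.inj (by rw [map_mul, ← hc, map_one, conj_mul, CoT.zz S.K.h]; group)
  have h2 : a ≠ 1 := fun e1 => CoT.z_ne S.K.h (conj_eq_one_iff.1 (hc.trans (by rw [e1, map_one])))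
  exact e.conj_reflect zC_facts.1 zC_facts.2 h1 h2 (e.map_z.symm ▸ h)

theorem Emb.cent_A {a : Cfsg.Spor.Co1} (ha : InA a) {g : G} (hg : Commute g (e.φ a)) : g ∈ S.H := by
  obtain ⟨c, rfl⟩ := isConj_iff.1 ha
  rw [map_mul, map_mul, map_inv, e.map_z] at hg
  have h2 := (Commute.conj_iff (e.φ c)⁻¹).2 hg
  rw [inv_inv, show (e.φ c)⁻¹ * (e.φ c * z * (e.φ c)⁻¹) * e.φ c = z by group] at h2
  have h3 := mul_mem (mul_mem (e.mem c) (S.cz_mem h2)) (inv_mem (e.mem c))
  rwa [show e.φ c * ((e.φ c)⁻¹ * g * e.φ c) * (e.φ c)⁻¹ = g by group] at h3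

/-- the centraliser of a set lies in the image -/
def Emb.Cent (E : Set Cfsg.Spor.Co1) : Prop := ∀ g : G, (∀ a ∈ E, Commute g (e.φ a)) → g ∈ S.H

/-- the step -/
theorem Emb.step {E : Set Cfsg.Spor.Co1} {r s e1 : Cfsg.Spor.Co1} (he1 : e1 ∈ E) (he1' : e1 ≠ 1)
    (hr : InA r) (hs : InA s) (hre : ∀ a ∈ E, Commute r a) (hse : ∀ a ∈ E, Commute s a) (hs1 : InA (s * e1))
    (hnA : ∀ a ∈ E, a ≠ 1 → ¬ InA (r * a))
    (hU : ∀ u : Cfsg.Spor.Co1, u * u = 1 → u ≠ 1 → Commute u r → InA (r * u) → (∀ a ∈ E, Commute u a) →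
      ¬ InA u → (∀ a ∈ E, ¬ InA (u * a)) → e.Cent (insert u E)) : e.Cent E := by
  intro g hg
  set v := g * e.φ s * g⁻¹ with hv
  have hvz : IsConj z v := (e.inA_iff.2 hs).trans (isConj_iff.2 ⟨g, rfl⟩)
  have hve : ∀ a ∈ E, Commute v (e.φ a) := fun a ha =>
    ((hg a ha).mul_left ((hse a ha).map e.φ)).mul_left (hg a ha).inv_left
  have hve1 : IsConj z (v * e.φ e1) := by
    refine (e.inA_iff.2 hs1).trans (isConj_iff.2 ⟨g, ?_⟩)
    rw [map_mul, hv, show g * (e.φ s * e.φ e1) * g⁻¹ = g * e.φ s * g⁻¹ * (g * e.φ e1 * g⁻¹) by group,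
      (hg e1 he1).eq, mul_inv_cancel_right]
  suffices hvH : v ∈ S.H by
    obtain ⟨a, ha⟩ := e.exists_of_mem hvH
    obtain ⟨b, hb⟩ := isConj_iff.1 (hs.symm.trans (e.inA_iff.1 (ha.symm ▸ hvz) : InA a))
    have hm : (e.φ b)⁻¹ * g ∈ S.H := by
      refine e.cent_A hs (mul_inv_eq_iff_eq_mul.1 ?_)
      rw [show (e.φ b)⁻¹ * g * e.φ s * ((e.φ b)⁻¹ * g)⁻¹ = (e.φ b)⁻¹ * v * e.φ b by rw [hv]; group, ← ha, ← hb,
        map_mul, map_mul, map_inv]
      group
    have := mul_mem (e.mem b) hm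
    rwa [mul_inv_cancel_left] at this
  set t := e.φ r with ht
  have hte : ∀ a ∈ E, Commute t (e.φ a) := fun a ha => (hre a ha).map e.φ
  have htz : IsConj z t := e.inA_iff.2 hr
  have hinv : ∀ {y : G}, IsConj z y → y * y = 1 ∧ y ≠ 1 := fun {y} hy => by
    obtain ⟨c, rfl⟩ := isConj_iff.1 hy
    exact ⟨by rw [conj_mul, CoT.zz S.K.h]; group, fun h1 => CoT.z_ne S.K.h (conj_eq_one_iff.1 h1)⟩
  rcases dihedral (hinv hvz).1 (hinv htz).1 (hinv hvz).2 (hinv htz).2 with ⟨d, hd, hdv⟩ | ⟨u, hucl, huu, hu1, huv, hut, huc⟩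
  · exfalso
    refine hnA e1 he1 he1' (e.inA_iff.1 (hve1.trans (isConj_iff.2 ⟨d, ?_⟩)))
    have hde : Commute d (e.φ e1) := Subgroup.mem_centralizer_singleton_iff.1
      ((Subgroup.closure_le _).2 (by
        rintro y (rfl | rfl)
        exacts [Subgroup.mem_centralizer_singleton_iff.2 (hve e1 he1).eq,
          Subgroup.mem_centralizer_singleton_iff.2 (hte e1 he1).eq]) hd)
    rw [map_mul, ← ht, ← hdv, show d * (v * e.φ e1) * d⁻¹ = d * v * d⁻¹ * (d * e.φ e1 * d⁻¹) by group, hde.eq,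
      mul_inv_cancel_right]
  obtain ⟨a, rfl⟩ := e.exists_of_mem (e.cent_A hr hut)
  have haa : a * a = 1 := e.inj (by rw [map_mul, huu, map_one])
  have ha1 : a ≠ 1 := fun h => hu1 (by rw [h, map_one])
  have har : InA (a * r) := e.inA_iff.1 (by
    rw [map_mul]
    rcases huc with h | h
    exacts [hvz.trans h, htz.trans h])
  have hra : Commute a r := e.inj (by rw [map_mul, map_mul]; exact hut.eq)
  rw [hra.eq] at har
  by_cases hA : InA a
  · exact e.cent_A hA huv.symm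
  by_cases hAE : ∃ b ∈ E, InA (a * b)
  · obtain ⟨b, hb, hab⟩ := hAE
    exact e.cent_A hab (by rw [map_mul]; exact huv.symm.mul_right (hve b hb))
  push Not at hAE
  have hcom : ∀ b ∈ E, Commute a b := fun b hb => e.inj (by
    rw [map_mul, map_mul]
    exact (Subgroup.mem_centralizer_singleton_iff.1 ((Subgroup.closure_le _).2 (by
      rintro w (rfl | rfl)
      exacts [Subgroup.mem_centralizer_singleton_iff.2 (hve b hb).eq,
        Subgroup.mem_centralizer_singleton_iff.2 (hte b hb).eq]) hucl)))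
  refine hU a haa ha1 hra har hcom hA hAE v ?_
  rintro b (rfl | hb)
  exacts [huv.symm, hve b hb]

end Cfsg.Agent.Spor.CoAmal
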