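import Cfsg.Agent.Lib.Spor.PermCert
import Cfsg.Agent.Lib.Spor.PresCert

/-!
Groups of Conway first type: derivations of equations among cosets of the centre-extended Suzuki
subgroup, and covering forests.
-/

set_option autoImplicit false

namespace Cfsg.Agent.Spor.CoAmal

open Cfsg.Agent.Spor.CC

/-! ### data -/

/-- an equation: `(s if sig) · w1 · v j = w2 · v l`, words packed -/
structure Fct where
  /-- whether the extra involution occurs -/
  sig : Bool
  /-- left node -/
  j : ℕ
  /-- right node -/
  l : ℕ
  /-- left word -/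
  w1 : ℕ
  /-- right word -/
  w2 : ℕ

/-- a defining equation for the next node -/
structure Dfn where
  /-- earlier node -/
  j : ℕ
  /-- left word -/
  w1 : ℕ
  /-- right word -/
  w2 : ℕ

/-- a move -/
structure Op where
  /-- 0: multiply; 1: rewrite; 2: rewrite with the extra involution -/
  t : ℕ
  /-- element or equation -/
  e : ℕ
  /-- direction -/
  d : ℕ
  /-- prefix -/
  u : ℕ

/-- a derived equation -/
structure Der where
  /-- the equation -/
  f : Fct
  /-- common prefix at the ends -/
  u : ℕ
  /-- start word -/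
  k0 : ℕ
  /-- start node -/
  j0 : ℕ
  /-- first path -/
  opsA : List Op
  /-- second path -/
  opsB : List Op
  /-- relator variant -/
  wit : ℕ × ℕ × Bool

/-- a product of two earlier entries, each possibly reversed -/
structure Slp where
  /-- first factor -/
  a : ℕ
  /-- second factor -/
  b : ℕ
  /-- the word -/
  w : ℕ

/-- a live node -/
structure Nd where
  /-- node -/
  j : ℕ
  /-- stabilising equations -/
  S : List ℕ
  /-- edge equations -/
  E : List ℕ
  /-- points in forest order -/
  pts : ℕ
  /-- positions -/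
  posn : ℕ
  /-- forest -/
  tree : ℕ
  /-- products of stabilising words -/
  slp : List Slp
  /-- chain of the stabiliser -/
  chain : List Orb
  /-- bound on the orbit -/
  idx : ℕ

/-- the word of `x = (bfg)^5` -/
def xW : List ℕ := powW 5 [1, 5, 6]

/-- relators with the extra involution `7` -/
def relS : List (List ℕ) := [[], [7, 7], powW 4 [6, 7] ++ [0], powW 3 (xW ++ [7])]

/-- multipliers -/
def elW (e : ℕ) : List ℕ :=
  bif Nat.beq e 0 || Nat.beq e 4 then [6] else
  bif Nat.beq e 1 || Nat.beq e 5 then [0] else
  bif Nat.beq e 2 then xW else xW.reverse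

/-- cancel adjacent equal letters -/
def redCons (x : ℕ) : List ℕ → List ℕ
  | [] => [x]
  | y :: t => bif Nat.beq x y then t else x :: y :: t

/-- cancel adjacent equal letters -/
def red (l : List ℕ) : List ℕ := l.foldr redCons []

section checks

variable (T : ℕ → ℕ → ℕ) (bs : List ℕ)

/-- words with the same base images -/
noncomputable def same (w w' : List ℕ) : Bool :=
  (w.all fun x => Nat.blt x 7) && (w'.all fun x => Nat.blt x 7) &&
    bs.all fun b => Nat.beq (ev T 7 w b) (ev T 7 w' b)

/-- the trivial equation -/
def noFct : Fct := ⟨false, 0, 0, 0, 0⟩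

/-- source of a used equation -/
def Fct.src (f : Fct) (d : ℕ) : ℕ × ℕ := bif Nat.beq d 0 then (f.j, f.w1) else (f.l, f.w2)

/-- target of a used equation -/
def Fct.tgt (f : Fct) (d : ℕ) : ℕ × ℕ := bif Nat.beq d 0 then (f.l, f.w2) else (f.j, f.w1)

/-- follow a path: word, node, recorded left multipliers -/
noncomputable def run (F : List Fct) (lim : ℕ) :
    List Op → List ℕ → ℕ → List ℕ → Option (List ℕ × ℕ × List ℕ)
  | [], w, j, L => some (w, j, L)
  | o :: rest, w, j, L =>
    bif Nat.beq o.t 0 then run F lim rest (elW o.e ++ w) j (elW o.e ++ L) else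
    bif Nat.blt o.e lim && Nat.beq ((F.getD o.e noFct).src o.d).1 j &&
        same T bs w (wDecode o.u ++ wDecode ((F.getD o.e noFct).src o.d).2) then
      bif (F.getD o.e noFct).sig then
        bif (wDecode o.u).all (fun x => Nat.blt x 6) then
          run F lim rest (wDecode o.u ++ wDecode ((F.getD o.e noFct).tgt o.d).2)
            ((F.getD o.e noFct).tgt o.d).1 (7 :: L)
        else none
      else
        run F lim rest (wDecode o.u ++ wDecode ((F.getD o.e noFct).tgt o.d).2)
          ((F.getD o.e noFct).tgt o.d).1 L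
    else none

/-- the word between the two sides -/
def midW (sig : Bool) : List ℕ := bif sig then [7] else []

/-- check a derivation -/
noncomputable def derOK (F : List Fct) (lim : ℕ) (D : Der) : Bool :=
  match run T bs F lim D.opsA (wDecode D.k0) D.j0 [], run T bs F lim D.opsB (wDecode D.k0) D.j0 [] with
  | some (wa, ja, la), some (wb, jb, lb) =>
    Nat.beq ja D.f.j && Nat.beq jb D.f.l && same T bs wa (wDecode D.u ++ wDecode D.f.w1) &&
      same T bs wb (wDecode D.u ++ wDecode D.f.w2) &&
      (!D.f.sig || (wDecode D.u).all (fun x => Nat.blt x 6)) &&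
      (red (lb.reverse ++ midW D.f.sig ++ la) == red (variant relS D.wit))
  | _, _ => false

/-- check a range of derivations -/
noncomputable def derRange (F : List Fct) (off : ℕ) (Ds : List Der) (st len : ℕ) : Bool :=
  rangeOK (fun i => derOK T bs F (Nat.add off i) (Ds.getD i ⟨noFct, 0, 0, 0, [], [], (0, 0, false)⟩)) st len

/-- check one point of a forest -/
noncomputable def ndOK1 (F : List Fct) (J : List ℕ) (N : Nd) (i : ℕ) : Bool :=
  bif Nat.beq (Nat.shiftRight (fld N.tree 24 i) 16) 0 then
    Nat.blt (Nat.land (fld N.tree 24 i) 65535) N.E.length &&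
    Nat.blt (N.E.getD (Nat.land (fld N.tree 24 i) 65535) 0) F.length &&
    (F.getD (N.E.getD (Nat.land (fld N.tree 24 i) 65535) 0) noFct).sig &&
    Nat.beq (F.getD (N.E.getD (Nat.land (fld N.tree 24 i) 65535) 0) noFct).j N.j &&
    J.any (Nat.beq (F.getD (N.E.getD (Nat.land (fld N.tree 24 i) 65535) 0) noFct).l) &&
    (wDecode (F.getD (N.E.getD (Nat.land (fld N.tree 24 i) 65535) 0) noFct).w1).all (fun x => Nat.blt x 7) &&
    (wDecode (F.getD (N.E.getD (Nat.land (fld N.tree 24 i) 65535) 0) noFct).w2).all (fun x => Nat.blt x 7) &&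
    Nat.beq (ev T 7 (wDecode (F.getD (N.E.getD (Nat.land (fld N.tree 24 i) 65535) 0) noFct).w1) (fld N.pts 16 i)) 0
  else
    Nat.blt (Nat.land (fld N.tree 24 i) 65535) i &&
    Nat.blt (Nat.sub (Nat.shiftRight (fld N.tree 24 i) 16) 1) N.S.length &&
    Nat.beq (ev T 7
      (wDecode (F.getD (N.S.getD (Nat.sub (Nat.shiftRight (fld N.tree 24 i) 16) 1) 0) noFct).w2)
      (fld N.pts 16 (Nat.land (fld N.tree 24 i) 65535))) (fld N.pts 16 i)

/-- every point is listed -/
def coverOK (N : Nd) (n : ℕ) : Bool :=
  rangeOK (fun p => Nat.blt (fld N.posn 16 p) n && Nat.beq (fld N.pts 16 (fld N.posn 16 p)) p) 0 n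

/-- the stabilising equations -/
def fixS (F : List Fct) (N : Nd) : Bool :=
  N.S.all fun k => Nat.blt k F.length && !(F.getD k noFct).sig && Nat.beq (F.getD k noFct).j N.j &&
    Nat.beq (F.getD k noFct).l N.j && Nat.beq (wLen (F.getD k noFct).w1) 0 &&
    (wDecode (F.getD k noFct).w2).all (fun x => Nat.blt x 7)

/-- an entry with a flip bit -/
def slpGet (acc : List (List ℕ)) (c : ℕ) : List ℕ :=
  bif Nat.beq (Nat.land c 1) 0 then acc.getD (Nat.shiftRight c 1) []
  else (acc.getD (Nat.shiftRight c 1) []).reverse

/-- check the products -/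
noncomputable def slpOK : List Slp → List (List ℕ) → Bool
  | [], _ => true
  | p :: rest, acc => same T bs (wDecode p.w) (slpGet acc p.a ++ slpGet acc p.b) &&
      slpOK rest (acc ++ [wDecode p.w])

/-- all words of the products -/
def slpAll (F : List Fct) (N : Nd) : List (List ℕ) :=
  (N.S.map fun k => wDecode (F.getD k noFct).w2) ++ N.slp.map fun p => wDecode p.w

/-- the chain is generated by the products -/
noncomputable def chainIn (F : List Fct) (N : Nd) : Bool :=
  N.chain.all fun O => O.ws.all fun w => (slpAll F N).any fun p => p == w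

end checks

/-! ### soundness -/

section

variable {M Ω : Type*} [Group M] [MulAction M Ω] (m : ℕ → M) (T : ℕ → ℕ → ℕ) (bs : List ℕ) (v : ℕ → Ω)

/-- product of a word -/
abbrev wp (w : List ℕ) : M := (w.map m).prod

/-- hypotheses on the group -/
structure Sound : Prop where
  sq : ∀ x, m x * m x = 1
  eq_of_same : ∀ w w', same T bs w w' = true → wp m w = wp m w'
  comm : ∀ x, x < 6 → Commute (m 7) (m x)
  rel : ∀ r ∈ relS, wp m r = 1

/-- meaning of an equation -/
def Fct.Holds (f : Fct) : Prop :=
  wp m (midW f.sig) • wp m (wDecode f.w1) • v f.j = wp m (wDecode f.w2) • v f.l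

theorem wp_append (a b : List ℕ) : wp m (a ++ b) = wp m a * wp m b := by
  simp [wp]

variable {m T bs v} (S : Sound m T bs)

include S

theorem Sound.wp_rev (w : List ℕ) : wp m w.reverse = (wp m w)⁻¹ := by
  induction w with
  | nil => simp [wp]
  | cons a l ih =>
    rw [List.reverse_cons, wp_append, ih]
    simp [wp, inv_eq_of_mul_eq_one_left (S.sq a)]

theorem Sound.wp_red (l : List ℕ) : wp m (red l) = wp m l := by
  induction l with
  | nil => rfl
  | cons x l ih =>
    have h : ∀ r, wp m (redCons x r) = m x * wp m r := by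
      intro r
      cases r with
      | nil => simp [redCons, wp]
      | cons y t =>
        cases hb : Nat.beq x y with
        | true => simp [redCons, hb, wp, ← Nat.eq_of_beq_eq_true hb, ← mul_assoc, S.sq]
        | false => simp [redCons, hb, wp]
    rw [red, List.foldr_cons, h]
    simp only [wp, List.map_cons, List.prod_cons]
    exact congrArg _ ih

theorem Sound.comm_word {w : List ℕ} (h : w.all (fun x => Nat.blt x 6) = true) :
    Commute (m 7) (wp m w) := by
  refine Commute.list_prod_right _ _ fun y hy => ?_
  obtain ⟨x, hx, rfl⟩ := List.mem_map.1 hy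
  exact S.comm x (Nat.le_of_ble_eq_true (List.all_eq_true.1 h x hx))

theorem Sound.holds_dir {f : Fct} (hf : f.Holds m v) (d : ℕ) :
    wp m (midW f.sig) • wp m (wDecode (f.src d).2) • v (f.src d).1 =
      wp m (wDecode (f.tgt d).2) • v (f.tgt d).1 := by
  cases hd : Nat.beq d 0 with
  | true => simpa [Fct.src, Fct.tgt, hd, Fct.Holds] using hf
  | false =>
    simp only [Fct.src, Fct.tgt, hd, cond_false]
    have e : wp m (midW f.sig) * wp m (midW f.sig) = 1 := by
      cases f.sig <;> simp [midW, wp, S.sq]
    rw [← (show _ = wp m (wDecode f.w2) • v f.l from hf), smul_smul, e, one_smul]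

theorem Sound.run_eq (F : List Fct) (lim : ℕ) (hF : ∀ i, i < lim → (F.getD i noFct).Holds m v) :
    ∀ (ops : List Op) (w : List ℕ) (j : ℕ) (L : List ℕ) (P : Ω), wp m L • P = wp m w • v j →
      ∀ w' j' L', run T bs F lim ops w j L = some (w', j', L') → wp m L' • P = wp m w' • v j'
  | [], w, j, L, P, hP, w', j', L', h => by
    simp only [run, Option.some.injEq, Prod.mk.injEq] at h
    obtain ⟨rfl, rfl, rfl⟩ := h
    exact hP
  | o :: rest, w, j, L, P, hP, w', j', L', h => by
    cases ht : Nat.beq o.t 0 with
    | true =>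
      simp only [run, ht, cond_true] at h
      refine Sound.run_eq F lim hF rest _ _ _ P ?_ _ _ _ h
      rw [wp_append, wp_append, mul_smul, mul_smul, hP]
    | false =>
      simp only [run, ht, cond_false] at h
      cases hc : (Nat.blt o.e lim && Nat.beq ((F.getD o.e noFct).src o.d).1 j &&
        same T bs w (wDecode o.u ++ wDecode ((F.getD o.e noFct).src o.d).2)) with
      | false => rw [hc] at h; simp at h
      | true =>
        rw [hc, cond_true] at h
        simp only [Bool.and_eq_true] at hc
        obtain ⟨⟨he, hj⟩, hsame⟩ := hc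
        have hd := S.holds_dir (hF _ (Nat.le_of_ble_eq_true he)) o.d
        have hw := S.eq_of_same _ _ hsame
        rw [← Nat.eq_of_beq_eq_true hj, hw, wp_append, mul_smul] at hP
        cases hs : (F.getD o.e noFct).sig with
        | true =>
          rw [hs, cond_true] at h
          rw [hs] at hd
          cases hu : (wDecode o.u).all (fun x => Nat.blt x 6) with
          | false => rw [hu] at h; simp at h
          | true =>
            rw [hu, cond_true] at h
            refine Sound.run_eq F lim hF rest _ _ _ P ?_ _ _ _ h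
            rw [wp_append, mul_smul, ← hd]
            simp only [midW, cond_true, wp, List.map_cons, List.map_nil, List.prod_cons,
              List.prod_nil, mul_one, mul_smul]
            rw [smul_smul _ (m 7), ← (S.comm_word hu).eq, mul_smul]
            exact congrArg _ hP
        | false =>
          rw [hs, cond_false] at h
          rw [hs] at hd
          refine Sound.run_eq F lim hF rest _ _ _ P ?_ _ _ _ h
          rw [wp_append, mul_smul, ← hd, hP]
          simp [midW, wp]

theorem Sound.der (F : List Fct) (lim : ℕ) (hF : ∀ i, i < lim → (F.getD i noFct).Holds m v) (D : Der)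
    (h : derOK T bs F lim D = true) : D.f.Holds m v := by
  unfold derOK at h
  split at h
  · rename_i wa ja la wb jb lb ha hb
    simp only [Bool.and_eq_true] at h
    obtain ⟨⟨⟨⟨⟨hja, hjb⟩, hwa⟩, hwb⟩, hu⟩, hr⟩ := h
    have e0 : wp m ([] : List ℕ) • (wp m (wDecode D.k0) • v D.j0) = wp m (wDecode D.k0) • v D.j0 := by
      simp [wp]
    have eA := S.run_eq F lim hF _ _ _ _ _ e0 _ _ _ ha
    have eB := S.run_eq F lim hF _ _ _ _ _ e0 _ _ _ hb
    have e1 : wp m (lb.reverse ++ midW D.f.sig ++ la) = 1 := by
      rw [← S.wp_red, LawfulBEq.eq_of_beq hr, S.wp_red]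
      exact variant_one m S.sq S.rel D.wit
    rw [wp_append, wp_append, S.wp_rev] at e1
    have e2 : wp m (midW D.f.sig) * wp m la = wp m lb := by
      rwa [mul_assoc, inv_mul_eq_one, eq_comm] at e1
    rw [S.eq_of_same _ _ hwa, Nat.eq_of_beq_eq_true hja, wp_append, mul_smul] at eA
    rw [S.eq_of_same _ _ hwb, Nat.eq_of_beq_eq_true hjb, wp_append, mul_smul, ← e2, mul_smul, eA] at eB
    refine smul_left_cancel (wp m (wDecode D.u)) ?_
    rw [← eB, smul_smul, smul_smul (wp m (midW D.f.sig))]
    refine congrArg (· • _) ?_
    cases hs : D.f.sig with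
    | false => simp [midW, wp]
    | true =>
      rw [hs] at hu
      simp only [Bool.not_true, Bool.false_or] at hu
      simp only [midW, cond_true, wp, List.map_cons, List.map_nil, List.prod_cons, List.prod_nil, mul_one]
      exact (S.comm_word hu).eq.symm
  · simp at h

/-- all equations hold -/
theorem Sound.all_holds {F : List Fct} {off : ℕ} {Ds : List Der} (hlen : F.length = off + Ds.length)
    (hoff : ∀ i, i < off → (F.getD i noFct).Holds m v)
    (hget : ∀ i, i < Ds.length → F.getD (off + i) noFct = (Ds.getD i ⟨noFct, 0, 0, 0, [], [], (0, 0, false)⟩).f)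
    (hchk : ∀ i, i < Ds.length →
      derOK T bs F (off + i) (Ds.getD i ⟨noFct, 0, 0, 0, [], [], (0, 0, false)⟩) = true) :
    ∀ i, i < F.length → (F.getD i noFct).Holds m v := by
  intro i
  induction i using Nat.strong_induction_on with
  | _ i ih =>
    intro hi
    by_cases ho : i < off
    · exact hoff i ho
    · obtain ⟨k, rfl⟩ := Nat.exists_eq_add_of_le (Nat.le_of_not_lt ho)
      rw [hget k (by omega)]
      exact S.der F _ (fun q hq => ih q hq (by omega)) _ (hchk k (by omega))

end

end Cfsg.Agent.Spor.CoAmal
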